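import Cfsg.Agent.Lib.Transfer.Basic
import Cfsg.Agent.Lib.Transfer.Count

set_option autoImplicit false
set_option linter.unusedSectionVars false
set_option linter.style.haveILetI false

/-! Trivial intersection sets, and subgroups that are the centraliser of each of their nonidentity elements. -/

namespace Cfsg.Agent.Suz

open Subgroup Transfer

variable {G : Type*} [Group G] [Finite G]

theorem ti_count {p : G → Prop} {N : Subgroup G} (h : ∀ a, p a → ∀ x, p (x * a * x⁻¹) ↔ x ∈ N) :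
    Nat.card {g // ∃ x, p (x * g * x⁻¹)} * Nat.card N = Nat.card G * Nat.card {a // p a} := by
  rw [← cnt_true (α := G)]
  refine cnt_mul_eq (fun g x => p (x * g * x⁻¹)) (fun g ⟨y, hy⟩ => ?_) fun x _ => ?_
  · refine (cnt_eq_of_bij (fun n => n * y) (fun n hn => ⟨trivial, ?_⟩) (fun _ _ _ _ => mul_right_cancel)
      fun x hx => ⟨x * y⁻¹, (h _ hy _).1 (by simpa [mul_assoc] using hx.2), by simp⟩).symm
    simpa [mul_assoc] using (h _ hy n).2 hn
  · exact cnt_eq_of_bij (fun g => x * g * x⁻¹) (fun _ h => h.2) (fun _ _ _ _ e => by simpa using e)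
      fun a ha => ⟨x⁻¹ * a * x, ⟨⟨x, by simpa [mul_assoc]⟩, by simpa [mul_assoc]⟩, by simp [mul_assoc]⟩

theorem cnt_sharp (A : Subgroup G) : Nat.card {a // a ∈ A ∧ a ≠ 1} = Nat.card A - 1 := by
  have := cnt_erase (p := (· ∈ A)) A.one_mem
  exact Nat.eq_sub_of_add_eq this

/-- the subgroup is the centraliser of each of its nonidentity elements -/
def CC (A : Subgroup G) : Prop := ∀ a ∈ A, a ≠ 1 → centralizer {a} = A

/-- nonidentity elements conjugate into a subgroup -/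
def Cl (A : Subgroup G) (g : G) : Prop := ∃ x, x * g * x⁻¹ ∈ A ∧ x * g * x⁻¹ ≠ 1

theorem Cl.ne_one {A : Subgroup G} {g : G} (h : Cl A g) : g ≠ 1 := by
  rintro rfl; obtain ⟨x, -, h⟩ := h; simp at h

theorem cl_self {A : Subgroup G} {g : G} (h : g ∈ A) (h1 : g ≠ 1) : Cl A g := ⟨1, by simpa, by simpa⟩

theorem cl_iff {A : Subgroup G} {g : G} : Cl A g ↔ g ≠ 1 ∧ ∃ x, g ∈ cj x A :=
  ⟨fun h => ⟨h.ne_one, let ⟨x, h, _⟩ := h; ⟨x⁻¹, mem_cj.2 (by simpa)⟩⟩,
    fun ⟨h, x, hx⟩ => ⟨x⁻¹, by simpa using mem_cj.1 hx, by simpa [mul_assoc, inv_mul_eq_one]⟩⟩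

theorem cl_count {A : Subgroup G} (h : ∀ a ∈ A, a ≠ 1 → ∀ x, x * a * x⁻¹ ∈ A → x ∈ normalizer (A : Set G)) :
    Nat.card {g // Cl A g} * Nat.card (normalizer (A : Set G)) = Nat.card G * (Nat.card A - 1) := by
  rw [← cnt_sharp]
  exact ti_count (p := fun a => a ∈ A ∧ a ≠ 1) fun a ha x =>
    ⟨fun e => h a ha.1 ha.2 x e.1, fun e => ⟨conj_mem_of_mem_normalizer e ha.1, by simpa using ha.2⟩⟩

namespace CC
variable {A : Subgroup G} (h : CC A)
include h

theorem ti {a : G} (ha : a ∈ A) (h1 : a ≠ 1) {x : G} (hx : x * a * x⁻¹ ∈ A) : x ∈ normalizer (A : Set G) := by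
  rw [mem_normalizer_iff_cj, ← h a ha h1, cj_centralizer_singleton, h _ hx (by simpa), h a ha h1]

theorem count : Nat.card {g // Cl A g} * Nat.card (normalizer (A : Set G)) = Nat.card G * (Nat.card A - 1) :=
  cl_count fun _ ha h1 _ => h.ti ha h1

theorem comm {a b : G} (ha : a ∈ A) (hb : b ∈ A) : a * b = b * a := by
  by_cases h1 : a = 1
  · simp [h1]
  · exact (mem_centralizer_singleton_iff.1 (h a ha h1 ▸ hb)).symm

theorem mem {a b : G} (ha : a ∈ A) (h1 : a ≠ 1) (hb : b * a = a * b) : b ∈ A :=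
  h a ha h1 ▸ mem_centralizer_singleton_iff.2 hb

theorem cj (x : G) : CC (cj x A) := fun a ha h1 => by
  rw [← h _ (mem_cj.1 ha) (by simpa [mul_assoc, inv_mul_eq_one]), cj_centralizer_singleton]; simp [mul_assoc]

theorem eq {B : Subgroup G} (hB : CC B) {a : G} (ha : a ∈ A) (hb : a ∈ B) (h1 : a ≠ 1) : A = B := by
  rw [← h a ha h1, hB a hb h1]

theorem le_of_nilpotent {P : Subgroup G} [Group.IsNilpotent P] {a : G} (ha : a ∈ A) (h1 : a ≠ 1) (hP : a ∈ P) : P ≤ A := by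
  haveI : Nontrivial P := ⟨⟨⟨a, hP⟩, 1, by simpa⟩⟩
  obtain ⟨⟨z, hz⟩, h2⟩ := ne_bot_iff_exists_ne_one.1 (Group.IsNilpotent.center_ne_bot P)
  have := fun b (hb : b ∈ P) => congrArg Subtype.val (mem_center_iff.1 hz ⟨b, hb⟩)
  exact fun b hb => h.mem (h.mem ha h1 (this a hP).symm) (by simpa using h2) (this b hb)

theorem exists_sylow {p : ℕ} [Fact p.Prime] (hp : p ∣ Nat.card A) : ∃ P : Sylow p G, P.1 ≤ A ∧ P.1 ≠ ⊥ := by
  obtain ⟨a, ha⟩ := exists_prime_orderOf_dvd_card' p hp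
  have h1 : (a : G) ≠ 1 := fun e => (Fact.out : p.Prime).ne_one (by rw [← ha, ← orderOf_coe, e, orderOf_one])
  obtain ⟨P, hP⟩ := IsPGroup.exists_le_sylow (P := zpowers (a : G)) (p := p)
    (IsPGroup.of_card (n := 1) (by simp [ha]))
  haveI := P.2.isNilpotent
  exact ⟨P, h.le_of_nilpotent a.2 h1 (hP (mem_zpowers _)), fun e => h1 (by simpa [e] using hP (mem_zpowers _))⟩

theorem coprime {B : Subgroup G} (hB : CC B) (hn : ∀ x, Transfer.cj x A ≠ B) : (Nat.card A).Coprime (Nat.card B) := by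
  refine Nat.Coprime.symm (Nat.coprime_of_dvd fun p hp h1 h2 => ?_)
  haveI := Fact.mk hp
  obtain ⟨P, hP, h0⟩ := h.exists_sylow h2
  obtain ⟨Q, hQ, -⟩ := hB.exists_sylow h1
  obtain ⟨x, hx⟩ := exists_cj_sylow_eq P Q
  obtain ⟨⟨a, ha⟩, h3⟩ := ne_bot_iff_exists_ne_one.1 h0
  exact hn x ((h.cj x).eq hB (conj_mem_cj (hP ha)) (hQ (hx ▸ conj_mem_cj ha)) (by simpa using h3))

theorem normalizer_ne [IsSimpleGroup G] (h0 : A ≠ ⊥) (h1 : A ≠ ⊤) : normalizer (A : Set G) ≠ A := fun e => by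
  obtain ⟨p, hp, h2⟩ := Nat.exists_prime_and_dvd (n := Nat.card A) (by simpa)
  haveI := Fact.mk hp
  obtain ⟨P, hP, h3⟩ := h.exists_sylow h2
  obtain ⟨⟨a, ha⟩, h4⟩ := ne_bot_iff_exists_ne_one.1 h3
  have h5 : normalizer (P.1 : Set G) ≤ centralizer (P.1 : Set G) := fun x hx b hb =>
    h.comm (hP hb) (e ▸ h.ti (hP ha) (by simpa using h4) (hP (conj_mem_of_mem_normalizer hx ha)))
  have := MonoidHom.ker_transferSylow_isComplement' P h5
  rcases (MonoidHom.normal_ker (MonoidHom.transferSylow P h5)).eq_bot_or_eq_top with h6 | h6 <;> rw [h6] at this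
  · exact h1 (eq_top_iff.2 ((isComplement'_bot_left.1 this).ge.trans hP))
  · exact h3 (isComplement'_top_left.1 this)

end CC
end Cfsg.Agent.Suz
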