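import Cfsg.Agent.Lib.Sz.Act
import Cfsg.Agent.Lib.Sz.TI

set_option autoImplicit false
set_option linter.unusedSectionVars false
set_option linter.style.haveILetI false

/-! Local structure and simplicity of the Suzuki groups. -/

namespace Cfsg.Agent.Suz

open Matrix MulAction Subgroup Transfer

namespace SzS
variable {F : Type*} [Field F] [Finite F] [CharP F 2] {Γ : Type*} [Group Γ] (S : SzS F Γ)

section Map
variable {Γ' : Type*} [Group Γ'] (e : Γ ≃* Γ')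

/-- transport along an isomorphism -/
def map : SzS F Γ' :=
  { S with
    ι := S.ι.comp e.symm.toMonoidHom
    inj := S.inj.comp e.symm.injective
    range := by rw [← S.range, MonoidHom.range_comp, MonoidHom.range_eq_top.2 e.symm.surjective, ← MonoidHom.range_eq_map] }

theorem map_s (a b : F) : (S.map e).s a b = e (S.s a b) :=
  (S.map e).inj (Units.ext (by rw [ι_s]; simp [map, ι_s]))
theorem map_d (t : Fˣ) : (S.map e).d t = e (S.d t) :=
  (S.map e).inj (Units.ext (by rw [ι_d]; simp [map, ι_d]))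
theorem map_w : (S.map e).w = e S.w :=
  (S.map e).inj (Units.ext (by rw [ι_w]; simp [map, ι_w]))
theorem map_Q : (S.map e).Q = S.Q.map e.toMonoidHom := by
  ext g
  exact ⟨by rintro ⟨a, b, rfl⟩; exact ⟨_, S.s_mem a b, (S.map_s e a b).symm⟩,
    by rintro ⟨_, ⟨a, b, rfl⟩, rfl⟩; exact ⟨a, b, (S.map_s e a b).symm⟩⟩
theorem map_Z : (S.map e).Z = S.Z.map e.toMonoidHom := by
  ext g
  exact ⟨by rintro ⟨b, rfl⟩; exact ⟨_, S.s_mem_Z b, (S.map_s e 0 b).symm⟩,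
    by rintro ⟨_, ⟨b, rfl⟩, rfl⟩; exact ⟨b, (S.map_s e 0 b).symm⟩⟩
theorem map_K : (S.map e).K = S.K.map e.toMonoidHom := by
  ext g
  exact ⟨by rintro ⟨b, rfl⟩; exact ⟨_, S.d_mem b, (S.map_d e b).symm⟩,
    by rintro ⟨_, ⟨b, rfl⟩, rfl⟩; exact ⟨b, S.map_d e b⟩⟩
theorem map_B : (S.map e).B = S.B.map e.toMonoidHom := by
  ext g
  refine ⟨fun h => ?_, ?_⟩
  · obtain ⟨a, b, t, rfl⟩ := exists_of_B h
    exact ⟨S.s a b * S.d t, by simp [mul_smul], by simp [map_s, map_d]⟩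
  · rintro ⟨g, h, rfl⟩
    obtain ⟨a, b, t, rfl⟩ := exists_of_B h
    simp [← map_s, ← map_d, mul_smul]
end Map

variable [Finite Γ]

/-- transport along a conjugation -/
abbrev cnj (x : Γ) : SzS F Γ := S.map (MulAut.conj x)

include S in
theorem two_pow : ∃ k, Nat.card F = 2 * k := ⟨2 ^ (2 * S.m), by rw [S.card, pow_succ']⟩

include S in
theorem three_mod : Nat.card F % 3 = 2 := by
  rw [S.card, pow_succ, pow_mul, Nat.mul_mod, Nat.pow_mod]; simp

theorem isPGroup_Q : IsPGroup 2 S.Q := IsPGroup.of_card (n := (2 * S.m + 1) * 2) (by rw [card_Q, S.card, pow_mul])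

theorem index_Q : S.Q.index = (Nat.card F - 1) * (Nat.card F ^ 2 + 1) := by
  have := S.Q.card_mul_index
  rw [card_Q, S.card_eq, mul_assoc] at this
  exact Nat.eq_of_mul_eq_mul_left (by have := S.eight_le; positivity) this

include S in
theorem odd_sub : Odd (Nat.card F - 1) := by
  obtain ⟨k, hk⟩ := S.two_pow
  have := S.eight_le
  exact ⟨k - 1, by omega⟩

include S in
theorem odd_add : Odd (Nat.card F ^ 2 + 1) := by
  obtain ⟨k, hk⟩ := S.two_pow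
  exact ⟨2 * k ^ 2, by rw [hk]; ring⟩

/-- the standard Sylow 2-subgroup -/
def syl : Sylow 2 Γ :=
  S.isPGroup_Q.toSylow (by rw [index_Q]; exact (S.odd_sub.mul S.odd_add).not_two_dvd_nat)

theorem exists_syl (P : Sylow 2 Γ) : ∃ x, (S.cnj x).Q = P := by
  simp only [map_Q]; exact exists_cj_sylow_eq S.syl P

theorem conj_mem_Q {g x : Γ} (hg : g ∈ S.B) (hx : x ∈ S.Q) : g * x * g⁻¹ ∈ S.Q := by
  obtain ⟨a, b, t, rfl⟩ := exists_of_B hg
  obtain ⟨a', b', rfl⟩ := hx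
  rw [_root_.mul_inv_rev, ← mul_assoc, mul_assoc (S.s a b), mul_assoc (S.s a b), d_conj]
  exact mul_mem (mul_mem (S.s_mem ..) (S.s_mem ..)) (inv_mem (S.s_mem ..))

theorem s_conj_Z (a b c : F) : S.s a b * S.s 0 c * (S.s a b)⁻¹ = S.s 0 c := by
  rw [mul_inv_eq_iff_eq_mul, s_mul, s_mul, s_inj]; simp [add_comm]

theorem conj_mem_Z {g x : Γ} (hg : g ∈ S.B) (hx : x ∈ S.Z) : g * x * g⁻¹ ∈ S.Z := by
  obtain ⟨a, b, t, rfl⟩ := exists_of_B hg
  obtain ⟨b', rfl⟩ := hx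
  rw [_root_.mul_inv_rev, ← mul_assoc, mul_assoc (S.s a b), mul_assoc (S.s a b), d_conj, mul_zero, s_conj_Z]
  exact S.s_mem_Z _

variable {S} in
theorem eq_oo_of_Q {x : Γ} (hx : x ∈ S.Q) (h1 : x ≠ 1) {p : S.Ω} (h : x • p = p) : p = S.oo := by_contra fun e => by
  obtain ⟨a, b, rfl⟩ := hx
  obtain ⟨x, y, rfl⟩ := S.exists_pt e
  exact h1 (S.s_fix h)

variable {S} in
theorem mem_B_of_conj {g x : Γ} (hx : x ∈ S.Q) (h1 : x ≠ 1) (h : g * x * g⁻¹ ∈ S.B) : g ∈ S.B := by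
  rw [← inv_mem_iff]
  exact eq_oo_of_Q hx h1 (by rw [eq_inv_smul_iff, ← mul_smul, ← mul_smul]; exact h)

theorem s_ne : S.s 0 1 ≠ 1 := by simp [s_eq_one]

theorem normalizer_Q : normalizer (S.Q : Set Γ) = S.B := by
  exact le_antisymm (fun g hg => mem_B_of_conj (S.s_mem 0 1) S.s_ne (S.Q_le_B (conj_mem_of_mem_normalizer hg (S.s_mem ..))))
    fun g hg => mem_normalizer_of_conj_mem fun _ => S.conj_mem_Q hg

theorem normalizer_Z : normalizer (S.Z : Set Γ) = S.B := by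
  exact le_antisymm (fun g hg => mem_B_of_conj (S.s_mem 0 1) S.s_ne
    (S.Q_le_B (S.Z_le_Q (conj_mem_of_mem_normalizer hg (S.s_mem_Z ..)))))
    fun g hg => mem_normalizer_of_conj_mem fun _ => S.conj_mem_Z hg

variable {S} in
theorem mem_Q_of_comm {g x : Γ} (hx : x ∈ S.Q) (h1 : x ≠ 1) (h : g * x = x * g) : g ∈ S.Q := by_contra fun hg => by
  have hB : g ∈ S.B := mem_B_of_conj hx h1 (by rw [h, mul_inv_cancel_right]; exact S.Q_le_B hx)
  obtain ⟨a, b, t, ht, rfl⟩ := conj_K hB hg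
  have h2 := S.conj_mem_Q (inv_mem (S.Q_le_B (S.s_mem a b))) hx
  obtain ⟨a', b', e⟩ := h2
  have h3 : S.d t * S.s a' b' = S.s a' b' * S.d t := by
    rw [← e]; simpa [mul_assoc, inv_mul_eq_iff_eq_mul, eq_inv_mul_iff_mul_eq] using congrArg ((S.s a b)⁻¹ * · * S.s a b) h
  obtain ⟨rfl, rfl⟩ := S.d_fix ht (x := a') (y := b') (by simpa [mul_smul] using congrArg (· • S.pt 0 0) h3)
  exact h1 (by simpa [mul_assoc, inv_mul_eq_one] using e)

variable {S} in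
theorem mem_NK {g x : Γ} (hx : x ∈ S.K) (h1 : x ≠ 1) (h : g * x * g⁻¹ ∈ S.K) : g ∈ S.K ∨ g * S.w ∈ S.K := by
  obtain ⟨t, rfl⟩ := hx
  have h2 : ∀ p : S.Ω, S.d t • p = p → p = S.oo ∨ p = S.pt 0 0 := fun p hp => by
    by_cases e : p = S.oo
    · exact .inl e
    obtain ⟨x, y, rfl⟩ := S.exists_pt e
    obtain ⟨rfl, rfl⟩ := S.d_fix (t := t) (by rintro rfl; exact h1 S.d_one) hp
    exact .inr rfl
  have h3 := mem_K.1 h
  have h4 := S.pt_ne 0 0
  simp only [mul_smul, smul_eq_iff_eq_inv_smul g] at h3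
  rcases h2 _ h3.1 with e | e <;> rcases h2 _ h3.2 with e' | e' <;> rw [inv_smul_eq_iff] at e e'
  · exact absurd (e'.trans e.symm) h4
  · exact .inl (mem_K.2 ⟨e.symm, e'.symm⟩)
  · exact .inr (mem_K.2 ⟨by simp [mul_smul, ← e], by simp [mul_smul, ← e']⟩)
  · exact absurd (e'.trans e.symm) h4

theorem w_conj (t : Fˣ) : S.w * S.d t * S.w⁻¹ = S.d t⁻¹ := by rw [w_d, mul_inv_cancel_right]

theorem d_comm (t t' : Fˣ) : S.d t * S.d t' = S.d t' * S.d t := by rw [← d_mul, mul_comm, d_mul]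

theorem eq_one_of_inv {t : Fˣ} (h : t⁻¹ = t) : t = 1 := by
  have := congrArg Units.val (mul_eq_one_iff_inv_eq.2 h)
  exact Units.ext (by simp only [Units.val_mul, Units.val_one] at this ⊢; grind)

theorem dw_conj (t t' : Fˣ) : S.d t' * S.w * S.d t * (S.d t' * S.w)⁻¹ = S.d t⁻¹ := by
  rw [_root_.mul_inv_rev, ← mul_assoc, mul_assoc (S.d t'), mul_assoc (S.d t'), w_conj, d_comm, mul_inv_cancel_right]

theorem w_not_mem_B : S.w ∉ S.B := fun h => S.pt_ne 0 0 (S.w_oo.symm.trans h)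

theorem cc_K : CC S.K := fun x hx h1 => by
  refine le_antisymm (fun g hg => ?_) ?_
  · rw [mem_centralizer_singleton_iff] at hg
    refine (mem_NK hx h1 (by rwa [hg, mul_inv_cancel_right])).resolve_right ?_
    rintro ⟨t', e⟩
    obtain ⟨t, rfl⟩ := hx
    obtain rfl : g = S.d t' * S.w := by rw [← w_inv, eq_mul_inv_iff_mul_eq]; exact e.symm
    have := S.dw_conj t t'
    rw [show S.d t = S.dH t from rfl, hg, mul_inv_cancel_right] at this
    exact h1 (S.d_eq_one.2 (eq_one_of_inv (S.d_inj this).symm))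
  · obtain ⟨t, rfl⟩ := hx
    rintro _ ⟨t', rfl⟩
    exact mem_centralizer_singleton_iff.2 (S.d_comm ..)

theorem exists_d_ne : ∃ t, S.d t ≠ 1 := by
  obtain ⟨a, h0, h1⟩ := S.big
  exact ⟨Units.mk0 a h0, by simpa [d_eq_one, Units.ext_iff]⟩

theorem mem_normalizer_K {g : Γ} : g ∈ normalizer (S.K : Set Γ) ↔ g ∈ S.K ∨ g * S.w ∈ S.K := by
  obtain ⟨t, ht⟩ := S.exists_d_ne
  refine ⟨fun h => mem_NK (S.d_mem t) ht (conj_mem_of_mem_normalizer h (S.d_mem t)), ?_⟩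
  have : S.w ∈ normalizer (S.K : Set Γ) :=
    mem_normalizer_of_conj_mem (by rintro _ ⟨t, rfl⟩; exact ⟨t⁻¹, (S.w_conj t).symm⟩)
  exact fun h => h.elim (le_normalizer ·) fun h => (mul_mem_cancel_right this).1 (le_normalizer h)

theorem card_NK : Nat.card (normalizer (S.K : Set Γ)) = 2 * (Nat.card F - 1) := by
  rw [← S.card_K, two_mul]
  refine (cnt_congr fun _ => S.mem_normalizer_K).trans ((cnt_or fun x h h' =>
    S.w_not_mem_B (S.K_le_B ((mul_mem_cancel_left h).1 h'))).trans ?_)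
  congr 1
  exact cnt_eq_of_bij (· * S.w) (fun _ => id) (fun _ _ _ _ => mul_right_cancel) fun y hy => ⟨y * S.w⁻¹, by simpa, by simp⟩

/-- fixed point free elements -/
def Fpf (g : Γ) : Prop := ∀ p : S.Ω, g • p ≠ p

variable {S}

theorem Fpf.ne_one {g : Γ} (h : S.Fpf g) : g ≠ 1 := by rintro rfl; exact h S.oo (one_smul _ _)

theorem Fpf.conj {g : Γ} (h : S.Fpf g) (x : Γ) : S.Fpf (x * g * x⁻¹) := fun p e =>
  h (x⁻¹ • p) (by rw [eq_inv_smul_iff, ← mul_smul, ← mul_smul, e])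

theorem Fpf.not_B {g : Γ} (h : S.Fpf g) (x : Γ) : x * g * x⁻¹ ∉ S.B := h.conj x _

variable (S) in
theorem tri {g : Γ} (h : g ≠ 1) : Cl S.Q g ∨ Cl S.K g ∨ S.Fpf g := by
  by_cases h1 : S.Fpf g
  · exact .inr (.inr h1)
  obtain ⟨p, hp⟩ := not_forall.1 h1
  obtain ⟨x, rfl⟩ := S.exists_oo p
  have h2 : (x⁻¹ * g * x⁻¹⁻¹) • S.oo = S.oo := by simpa [mul_smul, inv_smul_eq_iff] using hp
  by_cases h3 : x⁻¹ * g * x⁻¹⁻¹ ∈ S.Q
  · exact .inl ⟨_, h3, by simpa [mul_assoc, inv_mul_eq_one]⟩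
  obtain ⟨a, b, t, -, e⟩ := conj_K h2 h3
  refine .inr (.inl ⟨(S.s a b)⁻¹ * x⁻¹, ⟨t, ?_⟩, by simpa only [Ne, conj_eq_one_iff]⟩)
  rw [show S.dH t = (S.s a b)⁻¹ * (S.s a b * S.d t * (S.s a b)⁻¹) * S.s a b by simp [mul_assoc, dH], ← e]; group

theorem tri' {g : Γ} (h : g ≠ 1) : (∃ x, g ∈ (S.cnj x).Q) ∨ (∃ x, g ∈ (S.cnj x).K) ∨ S.Fpf g := by
  simpa only [cl_iff, h, Ne, not_false_iff, true_and, map_Q, map_K] using S.tri h

theorem pow_eq_one_Q {g : Γ} (h : g ∈ S.Q) : g ^ 4 = 1 := by obtain ⟨a, b, rfl⟩ := h; exact S.s_pow_four ..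

theorem pow_eq_one_K {g : Γ} (h : g ∈ S.K) : g ^ (Nat.card F - 1) = 1 := by
  simpa [card_K] using congrArg Subtype.val (pow_card_eq_one' (x := (⟨g, h⟩ : S.K)))

theorem Fpf.of_comm {g c : Γ} (h : S.Fpf g) (h1 : c ≠ 1) (hc : g * c = c * g) : S.Fpf c := by
  have : ∀ x, x * g * x⁻¹ * (x * c * x⁻¹) = x * c * x⁻¹ * (x * g * x⁻¹) := fun x => by simp [mul_assoc, hc, ← mul_assoc g]
  rcases S.tri h1 with ⟨x, h2, h3⟩ | ⟨x, h2, h3⟩ | h2
  exacts [absurd (S.Q_le_B (mem_Q_of_comm h2 h3 (this x))) (h.not_B x),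
    absurd (S.K_le_B (S.cc_K.mem h2 h3 (this x))) (h.not_B x), h2]

variable (S)

theorem sup_B {N : Subgroup Γ} [N.Normal] (h : N ≠ ⊥) (g : Γ) : ∃ n ∈ N, n⁻¹ * g ∈ S.B := by
  have : IsPretransitive N S.Ω := IsQuasiPreprimitive.isPretransitive_of_normal fun e => h (by
    refine eq_bot_iff.2 fun n hn => eq_of_smul_eq_smul (α := S.Ω) fun p => ?_
    rw [one_smul]; exact (e.ge (Set.mem_univ p) : p ∈ fixedPoints N S.Ω) ⟨n, hn⟩)
  obtain ⟨n, hn⟩ := this.1 S.oo (g • S.oo)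
  exact ⟨n, n.2, by rw [mem_stabilizer_iff, mul_smul, ← hn]; exact inv_smul_smul _ _⟩

theorem s_mem_of_K {N : Subgroup Γ} (hK : S.K ≤ N) (hN : ∀ x ∈ S.Q, ∀ n ∈ N, x * n * x⁻¹ ∈ N) : S.Q ≤ N := by
  rintro _ ⟨a, b, rfl⟩
  obtain ⟨t, ht⟩ := S.exists_d_ne
  obtain ⟨a', b', t', h, e⟩ := conj_K (S := S) (g := S.s a b * S.d t) (by simp [mul_smul]) (fun h => by
    obtain ⟨a, b, e⟩ := (mul_mem_cancel_left (S.s_mem a b)).1 h
    exact ht (e.trans (S.s_eq_one.2 (by simpa [pt_inj, eq_comm] using congrArg (· • S.pt 0 0) e))))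
  exact (mul_mem_cancel_right (hK (S.d_mem t))).1 (e ▸ hN _ (S.s_mem ..) _ (hK (S.d_mem _)))

theorem B_le {N : Subgroup Γ} (hQ : S.Q ≤ N) (hK : S.K ≤ N) : S.B ≤ N := fun g hg => by
  obtain ⟨a, b, t, rfl⟩ := exists_of_B hg
  exact mul_mem (hQ (S.s_mem ..)) (hK (S.d_mem ..))

include S in
theorem exists_sq (t : Fˣ) : ∃ u : Fˣ, u ^ 2 = t := by
  obtain ⟨u, hu⟩ := S.θ_surj t.ne_zero
  obtain ⟨v, hv⟩ := S.θ_surj u.ne_zero
  exact ⟨v, Units.ext (by rw [← hu, ← hv, hθ]; simp)⟩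

include S in
theorem perfect : commutator Γ = ⊤ := by
  have h1 : S.K ≤ commutator Γ := by
    rintro _ ⟨t, rfl⟩
    obtain ⟨u, rfl⟩ := S.exists_sq t
    have := commutator_mem_commutator (mem_top (S.d u)) (mem_top S.w)
    rwa [commutatorElement_def, mul_assoc, mul_assoc, ← mul_assoc S.w, d_inv, w_conj, inv_inv, ← d_mul, ← sq] at this
  have h2 := S.B_le (S.s_mem_of_K h1 fun x _ n hn => Normal.conj_mem inferInstance n hn x) h1
  refine eq_top_iff.2 fun g _ => ?_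
  obtain ⟨n, hn, h⟩ := S.sup_B (N := commutator Γ) (fun e => S.s_ne (by simpa [e] using h2 (S.s_oo 0 1))) g
  simpa using mul_mem hn (h2 h)

theorem solvable_B : Group.IsSolvable S.B := by
  haveI := S.isPGroup_Q.isNilpotent
  haveI : (S.Q.subgroupOf S.B).Normal := ⟨fun x hx g => S.conj_mem_Q g.2 hx⟩
  haveI : Group.IsSolvable S.K := Group.isSolvable_of_comm fun a b => Subtype.ext (S.cc_K.comm a.2 b.2)
  haveI : Group.IsSolvable (S.B ⧸ S.Q.subgroupOf S.B) :=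
    Group.isSolvable_of_surjective (f := (QuotientGroup.mk' _).comp (inclusion S.K_le_B)) fun x => by
      obtain ⟨⟨g, hg⟩, rfl⟩ := QuotientGroup.mk_surjective x
      obtain ⟨a, b, t, rfl⟩ := exists_of_B hg
      exact ⟨⟨_, S.d_mem t⟩, QuotientGroup.eq.2 (by
        simpa [mem_subgroupOf, ← mul_assoc] using S.conj_mem_Q (S.K_le_B (inv_mem (S.d_mem t))) (S.s_mem a b))⟩
  refine Group.isSolvable_of_ker_le_range (inclusion S.Q_le_B)
    (QuotientGroup.mk' (S.Q.subgroupOf S.B)) (by simp [inclusion_range])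

include S in
theorem simple : IsSimpleGroup Γ := by
  haveI : Nontrivial Γ := ⟨⟨_, _, S.s_ne⟩⟩
  refine ⟨fun N hN => or_iff_not_imp_left.2 fun h => ?_⟩
  haveI := S.solvable_B
  haveI : Group.IsSolvable (Γ ⧸ N) := Group.isSolvable_of_surjective (f := (QuotientGroup.mk' N).comp S.B.subtype) fun x => by
    obtain ⟨g, rfl⟩ := QuotientGroup.mk_surjective x
    obtain ⟨n, hn, h⟩ := S.sup_B h g
    exact ⟨⟨_, h⟩, by simpa using hn⟩
  by_contra h'
  haveI := QuotientGroup.nontrivial_iff.2 h'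
  haveI : Group.IsPerfect Γ := ⟨S.perfect⟩
  exact Group.IsPerfect.not_isSolvable (Γ ⧸ N) inferInstance

end SzS
end Cfsg.Agent.Suz
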