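import Cfsg.Agent.Lib.Sz.Tori

set_option autoImplicit false
set_option linter.unusedSectionVars false
set_option linter.style.haveILetI false

/-! The partition of the Suzuki groups and first consequences. -/

namespace Cfsg.Agent.Suz

open Matrix MulAction Subgroup Transfer
open scoped commutatorElement

namespace SzS
variable {F : Type*} [Field F] [Finite F] [CharP F 2] {Γ : Type*} [Group Γ] [Finite Γ] (S : SzS F Γ)

theorem zass {X : Type*} [MulAction Γ X] (e : S.Ω ≃ X) (he : ∀ (g : Γ) p, e (g • p) = g • e p) :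
    IsZassenhausGroup Γ X := by
  haveI := S.simple
  obtain ⟨t, ht⟩ := S.exists_d_ne
  haveI := S.two_trans
  refine ⟨⟨fun h => eq_of_smul_eq_smul (α := S.Ω) fun p => e.injective (by rw [he, he, h])⟩,
    IsPretransitive.of_embedding (f := (⟨e, he⟩ : S.Ω →[Γ] X)) e.surjective, fun g a b c h1 h2 h3 => ?_,
    ⟨_, ht, e S.oo, e (S.pt 0 0), e.injective.ne (S.pt_ne 0 0).symm, by simp [← he], by simp [← he]⟩, fun N hN h => ?_⟩
  · obtain ⟨a, rfl⟩ := e.surjective a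
    obtain ⟨b, rfl⟩ := e.surjective b
    obtain ⟨c, rfl⟩ := e.surjective c
    simpa only [← he, e.injective.eq_iff] using
      eq_one_of_fix (g := g) (fun h => h1 (congrArg e h)) (fun h => h2 (congrArg e h)) fun h => h3 (congrArg e h)
  · rcases hN.eq_bot_or_eq_top with rfl | rfl
    · obtain ⟨⟨g, hg⟩, h⟩ := h.1 (e S.oo) (e (S.pt 0 0))
      obtain rfl := mem_bot.1 hg
      exact absurd (e.injective ((one_smul Γ _).symm.trans h)) (S.pt_ne 0 0).symm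
    · exact ⟨e S.oo, ne_bot_iff_exists_ne_one.2 ⟨⟨⟨_, mem_top (S.d t)⟩, (he _ _).symm.trans (by simp)⟩, by simpa [Subtype.ext_iff]⟩⟩

theorem orderOf_s {a : F} (h : a ≠ 0) (b : F) : orderOf (S.s a b) = 4 :=
  orderOf_eq_prime_pow (p := 2) (n := 1) (by simpa [s_sq, s_eq_one]) (S.s_pow_four a b)

theorem orderOf_z {b : F} (h : b ≠ 0) : orderOf (S.s 0 b) = 2 := orderOf_eq_prime (by simp [s_sq]) (by simpa [s_eq_one])

theorem exponent_Q : Monoid.exponent S.Q = 4 :=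
  Nat.dvd_antisymm (Monoid.exponent_dvd_iff_forall_pow_eq_one.2 fun g => Subtype.ext (pow_eq_one_Q g.2))
    (by simpa [← orderOf_coe, S.orderOf_s] using Monoid.order_dvd_exponent (⟨_, S.s_mem 1 0⟩ : S.Q))

theorem exists_θ_ne : ∃ u, S.θ u ≠ u := by
  obtain ⟨u, h0, h1⟩ := S.big
  exact ⟨u, fun e => by have := S.hθ u; grind⟩

theorem s_comm {a b a' b' : F} : S.s a b * S.s a' b' = S.s a' b' * S.s a b ↔ S.θ a * a' = S.θ a' * a := by
  simp [s_mul, s_inj, add_comm]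

theorem commutator_s (a b a' b' : F) : ⁅S.s a b, S.s a' b'⁆ = S.s 0 (S.θ a * a' + S.θ a' * a) := by
  simp only [commutatorElement_def, s_inv, s_mul, s_inj, map_add]; grind

theorem center_Q : center S.Q = S.Z.subgroupOf S.Q := by
  ext ⟨_, a, b, rfl⟩
  rw [mem_center_iff, mem_subgroupOf]
  refine ⟨fun h => ⟨b, ?_⟩, ?_⟩
  · obtain ⟨u, hu⟩ := S.exists_θ_ne
    have := S.s_comm.1 (congrArg Subtype.val (h ⟨_, S.s_mem (u * a) 0⟩))
    obtain rfl : a = 0 := by_contra fun e => by have := S.θ_ne e; grind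
    rfl
  · rintro ⟨c, e⟩ ⟨_, a', b', rfl⟩
    obtain ⟨rfl, rfl⟩ := S.s_inj.1 e
    exact Subtype.ext (S.s_comm.2 (by simp))

theorem Z_le {N : Subgroup Γ} (hN : ∀ t, ∀ x ∈ N, S.d t * x * (S.d t)⁻¹ ∈ N) {c : F} (h0 : c ≠ 0) (h : S.s 0 c ∈ N) :
    S.Z ≤ N := by
  rintro _ ⟨b, rfl⟩
  by_cases hb : b = 0
  · simp [hb]
  obtain ⟨t, ht⟩ := S.δ_surj (div_ne_zero hb h0)
  simpa [d_conj, ht, h0] using hN t _ h

theorem Q_le {N : Subgroup Γ} (hN : ∀ t, ∀ x ∈ N, S.d t * x * (S.d t)⁻¹ ∈ N) {a b : F} (h0 : a ≠ 0) (h : S.s a b ∈ N) :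
    S.Q ≤ N := by
  have hZ := S.Z_le hN (mul_ne_zero (S.θ_ne h0) h0) (S.s_sq a b ▸ pow_mem h 2)
  rintro _ ⟨a', b', rfl⟩
  by_cases ha : a' = 0
  · exact hZ ⟨b', by rw [ha]⟩
  obtain ⟨t, ht⟩ := S.θ_surj (div_ne_zero ha h0)
  convert mul_mem (hZ (S.s_mem_Z (b' + t ^ 2 * S.θ t * b))) (hN t _ h) using 1
  rw [d_conj, s_mul, s_inj, ht]; grind

theorem commutator_Q : ⁅S.Q, S.Q⁆ = S.Z := by
  refine le_antisymm (commutator_le.2 ?_) ?_
  · rintro _ ⟨a, b, rfl⟩ _ ⟨a', b', rfl⟩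
    exact ⟨_, S.commutator_s ..⟩
  obtain ⟨u, hu⟩ := S.exists_θ_ne
  refine S.Z_le (fun t x hx => conj_mem_of_mem_normalizer (mem_normalizer_commutator ?_ ?_) hx) (c := S.θ u * 1 + S.θ 1 * u)
    (by grind) (S.commutator_s u 0 1 0 ▸ commutator_mem_commutator (S.s_mem ..) (S.s_mem ..)) <;>
    exact S.normalizer_Q ▸ S.d_oo t

include S in
theorem syl_facts (P : Sylow 2 Γ) : Nat.card P = Nat.card F ^ 2 ∧ Monoid.exponent P = 4 ∧
    center P = commutator P ∧ Nat.card (center P) = Nat.card F := by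
  obtain ⟨x, e⟩ := S.exists_syl P
  rw [← e]
  refine ⟨card_Q _, exponent_Q _, map_injective (subtype_injective _) ?_, ?_⟩
  · rw [center_Q, map_subtype_commutator, commutator_Q, subgroupOf_map_subtype, inf_eq_left.2 (Z_le_Q _)]
  · rw [center_Q, Nat.card_congr (subgroupOfEquivOfLe (Z_le_Q _)).toEquiv, card_Z]

variable {S} in
theorem Q_eq {x g : Γ} (h1 : g ≠ 1) (h : g ∈ S.Q) (h' : g ∈ cj x S.Q) : cj x S.Q = S.Q :=
  cj_eq_of_mem_normalizer (S.normalizer_Q ▸ (inv_mem_iff.1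
    (mem_B_of_conj h h1 (S.Q_le_B (by simpa using mem_cj.1 h')))))

theorem nil_le_Q {P : Subgroup Γ} [Group.IsNilpotent P] {g : Γ} (h1 : g ≠ 1) (h : g ∈ S.Q) (hP : g ∈ P) : P ≤ S.Q := by
  haveI : Nontrivial P := ⟨⟨⟨g, hP⟩, 1, by simpa⟩⟩
  obtain ⟨⟨z, hz⟩, h2⟩ := ne_bot_iff_exists_ne_one.1 (Group.IsNilpotent.center_ne_bot P)
  have := fun b (hb : b ∈ P) => congrArg Subtype.val (mem_center_iff.1 hz ⟨b, hb⟩)
  exact fun b hb => mem_Q_of_comm (mem_Q_of_comm h h1 (this g hP).symm) (by simpa using h2) (this b hb)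

include S in
theorem cyclic_sylow {p : ℕ} [Fact p.Prime] (hp : p ≠ 2) (P : Sylow p Γ) : IsCyclic P := by
  by_cases h : P.1 = ⊥
  · haveI : Subsingleton P.1 := by rw [h]; infer_instance
    exact isCyclic_of_subsingleton
  obtain ⟨⟨g, hg⟩, h1⟩ := ne_bot_iff_exists_ne_one.1 h
  replace h1 : g ≠ 1 := by simpa using h1
  haveI := P.2.isNilpotent
  rcases S.tri' h1 with ⟨x, h2⟩ | ⟨x, h2⟩ | h2
  · exact absurd (mem_bot.1 ((IsPGroup.disjoint_of_ne p 2 hp _ _ P.2 (isPGroup_Q _)).le_bot ⟨hg, h2⟩)) h1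
  · exact isCyclic_of_le ((cc_K _).le_of_nilpotent h2 h1 hg)
  · haveI := h2.cyclic
    exact isCyclic_of_le (h2.cc.le_of_nilpotent (mem_centralizer_singleton_iff.2 rfl) h1 hg)

include S in
theorem cn : IsCNGroup Γ := fun g h1 => by
  rcases S.tri' h1 with ⟨x, h2⟩ | ⟨x, h2⟩ | h2
  · exact ((isPGroup_Q _).to_le fun y hy => mem_Q_of_comm h2 h1 (mem_centralizer_singleton_iff.1 hy)).isNilpotent
  · rw [cc_K _ g h2 h1]
    letI := IsCyclic.commGroup (α := (S.cnj x).K)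
    infer_instance
  · letI := h2.cyclic.commGroup
    infer_instance

theorem tori : ∀ k ∈ ({Nat.card F + 2 ^ (S.m + 1) + 1, Nat.card F - 2 ^ (S.m + 1) + 1} : Set ℕ),
    ∃ U : Subgroup Γ, IsCyclic U ∧ Nat.card U = k ∧
      (∀ u ∈ U, u ≠ 1 → centralizer {u} = U) ∧ Nat.card (normalizer (U : Set Γ)) = 4 * k := by
  obtain ⟨g₁, g₂, h1, h2, h3, h4, h5, h6, -⟩ := S.exists_tori
  rintro _ (rfl | rfl)
  exacts [⟨_, h1.cyclic, h3, h1.cc, h3 ▸ h5⟩, ⟨_, h2.cyclic, h4, h2.cc, h4 ▸ h6⟩]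

theorem li {p : Fin 3 → S.Ω} (hp : Function.Injective p) : LinearIndependent F fun i => pv S.θ (p i) := by
  obtain ⟨g, h0, h1⟩ := exists_two (hp.ne (show 0 ≠ 1 by decide))
  obtain ⟨x, y, h2⟩ := S.exists_pt (p := g⁻¹ • p 2) fun e => hp.ne (show 2 ≠ 0 by decide) (by rw [← h0, ← e, smul_inv_smul])
  have h3 : ¬ (x = 0 ∧ y = 0) := by
    rintro ⟨rfl, rfl⟩; exact hp.ne (show 2 ≠ 1 by decide) (by rw [← h1, ← h2, smul_inv_smul])
  obtain ⟨a, ha⟩ := smul_eq_iff.1 (inv_smul_eq_iff.2 h0.symm)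
  obtain ⟨b, hb⟩ := smul_eq_iff.1 (inv_smul_eq_iff.2 h1.symm)
  obtain ⟨c, hc⟩ := smul_eq_iff.1 h2
  have hz : ∀ {p q} {c : F}, (S.ι g⁻¹).1 *ᵥ pv S.θ p = c • pv S.θ q → c ≠ 0 := fun {p q c} e h => pv_ne S.θ p (by
    rw [← one_mulVec (pv _ p), ← Units.inv_mul (S.ι g⁻¹), ← mulVec_mulVec, e, h]; simp)
  refine Fintype.linearIndependent_iff.2 fun l hl => ?_
  replace hl := congrArg ((S.ι g⁻¹).1 *ᵥ ·) hl
  simp only [Fin.sum_univ_three, mulVec_add, mulVec_smul, ha, hb, hc, mulVec_zero] at hl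
  have := fun i => congrFun hl i
  simp [oo, pt, pv, fz, Fin.forall_fin_succ, hz ha, hz hb, hz hc] at this ⊢
  have := hz ha
  have := hz hb
  grind

theorem coatom_B : IsCoatom S.B :=
  haveI : Nontrivial S.Ω := ⟨⟨_, _, S.pt_ne 0 0⟩⟩
  (isCoatom_stabilizer_iff_preprimitive Γ S.oo).2 inferInstance

theorem eq_top_of_Q {M : Subgroup Γ} (hQ : S.Q ≤ M) (hB : ¬ M ≤ S.B) : M = ⊤ := by
  haveI := S.simple
  obtain ⟨g, hg, h⟩ := SetLike.not_le_iff_exists.1 hB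
  obtain ⟨a, b, e⟩ := S.exists_pt h
  have h1 : ∀ p : S.Ω, ∃ n ∈ M, n • S.oo = p := fun p => by
    rcases p with _ | ⟨x, y⟩
    · exact ⟨1, one_mem _, one_smul _ _⟩
    · exact ⟨S.s x y * (S.s a b)⁻¹ * g, mul_mem (mul_mem (hQ (S.s_mem ..)) (inv_mem (hQ (S.s_mem ..)))) hg, by
        rw [mul_smul, mul_smul, e, show (S.s a b)⁻¹ • S.pt a b = S.pt 0 0 by simp [inv_smul_eq_iff]]; simp; rfl⟩
  refine eq_top_iff.2 (le_trans (le_of_eq ((normalClosure_normal (s := S.Q)).eq_bot_or_eq_top.resolve_left fun e =>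
    S.s_ne (mem_bot.1 (e ▸ subset_normalClosure (S.s_mem ..)))).symm) ((closure_le _).2 fun x hx => ?_))
  obtain ⟨y, hy, hx⟩ := Group.mem_conjugatesOfSet_iff.1 hx
  obtain ⟨k, rfl⟩ := isConj_iff.1 hx
  obtain ⟨n, hn, e⟩ := h1 (k • S.oo)
  have := mul_mem (mul_mem hn (hQ (S.conj_mem_Q (g := n⁻¹ * k) (by rw [mem_stabilizer_iff, mul_smul, ← e, inv_smul_smul]) hy)))
    (inv_mem hn)
  simpa [mul_assoc] using this

include S in
theorem borel_max (P : Sylow 2 Γ) : IsCoatom (normalizer (P.1 : Set Γ)) ∧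
    ∀ M : Subgroup Γ, IsCoatom M → P.1 ≤ M → M = normalizer (P.1 : Set Γ) := by
  obtain ⟨x, e⟩ := S.exists_syl P
  rw [← e, normalizer_Q]
  exact ⟨coatom_B _, fun M hM h => (hM.le_iff_eq (coatom_B _).1).1
    (by_contra fun h' => hM.1 (eq_top_of_Q _ h h')) |>.symm⟩

include S in
theorem real_iff (P : Sylow 2 Γ) {g : Γ} (hg : g ∈ P.1) (h1 : g ≠ 1) : IsConj g g⁻¹ ↔ orderOf g = 2 := by
  refine ⟨fun h => ?_, fun h => by rw [inv_eq_of_mul_eq_one_right (by rw [← sq, ← h, pow_orderOf_eq_one])]⟩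
  obtain ⟨x, e⟩ := S.exists_syl P
  rw [← e] at hg
  generalize S.cnj x = T at hg
  obtain ⟨y, hy⟩ := isConj_iff.1 h
  obtain ⟨a', b', t, rfl⟩ := exists_of_B (mem_B_of_conj hg h1 (hy ▸ inv_mem (T.Q_le_B hg)))
  obtain ⟨a, b, rfl⟩ := hg
  by_cases ha : a = 0
  · exact ha ▸ T.orderOf_z fun hb => h1 (T.s_eq_one.2 ⟨ha, hb⟩)
  rw [_root_.mul_inv_rev, ← mul_assoc, mul_assoc (T.s a' b'), mul_assoc (T.s a' b'), d_conj, mul_inv_eq_iff_eq_mul,
    s_inv, s_mul, s_mul, s_inj] at hy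
  have h2 : T.θ t = 1 := by grind
  obtain ⟨u, rfl⟩ : ∃ u, a' = u * a := ⟨a' / a, by field_simp⟩
  have h3 := T.θ_ne ha
  have h4 : T.θ u = u + 1 := by have := hy.2; simp only [h2, T.θ_eq_one h2, map_mul] at this; grind
  have h5 := congrArg T.θ h4
  rw [hθ, map_add, h4, map_one] at h5
  have : u = 0 ∨ u = 1 := by grind
  rcases this with rfl | rfl <;> simp at h4

include S in
theorem two_gen : ∃ a b : Γ, closure {a, b} = ⊤ := by
  obtain ⟨⟨k, hk⟩, h⟩ := IsCyclic.exists_generator (α := S.K)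
  refine ⟨k, S.s 1 0 * S.w, ?_⟩
  have h1 : S.K ≤ closure {k, S.s 1 0 * S.w} := fun x hx => by
    obtain ⟨n, e⟩ := h ⟨x, hx⟩
    exact (show k ^ n = x from congrArg Subtype.val e) ▸ zpow_mem (subset_closure (by simp)) n
  have h2 : S.s 1 0 * S.w ∈ closure {k, S.s 1 0 * S.w} := subset_closure (by simp)
  generalize closure {k, S.s 1 0 * S.w} = M at h1 h2
  obtain ⟨t, ht⟩ := S.exists_d_ne
  have h3 := mul_mem (mul_mem (mul_mem h2 (h1 (S.d_mem t⁻¹))) (inv_mem h2)) (inv_mem (h1 (S.d_mem t)))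
  rw [_root_.mul_inv_rev, ← mul_assoc, mul_assoc (S.s 1 0), mul_assoc (S.s 1 0), w_conj, inv_inv, mul_assoc (S.s 1 0),
    mul_assoc (S.s 1 0), s_inv, d_conj, s_mul] at h3
  have h4 := S.Q_le (fun t x hx => mul_mem (mul_mem (h1 (S.d_mem t)) hx) (inv_mem (h1 (S.d_mem t))))
    (fun e => ht (S.d_eq_one.2 (Units.ext (S.θ_eq_one (by grind))))) h3
  exact S.eq_top_of_Q h4 fun e => S.w_not_mem_B (e ((mul_mem_cancel_left (h4 (S.s_mem ..))).1 h2))

theorem tori_mul : (Nat.card F + 2 ^ (S.m + 1) + 1) * (Nat.card F - 2 ^ (S.m + 1) + 1) = Nat.card F ^ 2 + 1 := by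
  have h1 : 2 ^ (S.m + 1) ≤ Nat.card F := S.card ▸ Nat.pow_le_pow_right two_pos (by omega)
  have hr : (2 ^ (S.m + 1)) ^ 2 = 2 * Nat.card F := by rw [S.card]; ring
  zify [h1] at hr ⊢
  linear_combination -hr

include S in
theorem coprime_sub_add : (Nat.card F - 1).Coprime (Nat.card F ^ 2 + 1) :=
  Nat.coprime_of_dvd fun r hr h1 h2 => not_pow_modEq hr S.two_pow h2 one_pos (by simp)
    (by rw [pow_one]; exact ((Nat.modEq_iff_dvd' Nat.card_pos).2 h1).symm)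

theorem coprime_tori : (Nat.card F + 2 ^ (S.m + 1) + 1).Coprime (Nat.card F - 2 ^ (S.m + 1) + 1) := by
  obtain ⟨g₁, g₂, h1, h2, h3, h4, -⟩ := S.exists_tori
  rw [← h3, ← h4]
  refine h1.cc.coprime h2.cc fun x e => ?_
  rw [← e, card_cj, h3] at h4
  have := Nat.two_pow_pos (S.m + 1)
  omega

theorem partition {g : Γ} (h1 : g ≠ 1) : ∃! U : Subgroup Γ, ((∃ P : Sylow 2 Γ, U = P.1) ∨ (IsCyclic U ∧ Nat.card U ∈
    ({Nat.card F - 1, Nat.card F + 2 ^ (S.m + 1) + 1, Nat.card F - 2 ^ (S.m + 1) + 1} : Set ℕ))) ∧ g ∈ U := by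
  have h0 : ∀ {U : Subgroup Γ} {n}, g ∈ U → Nat.card U ∣ n → ¬ (Nat.card U).Coprime n := fun hg h2 h3 =>
    h1 (by simpa [card_eq_one.1 (h3.eq_one_of_dvd h2)] using hg)
  have h2 : ∀ {U : Subgroup Γ}, IsCyclic U → g ∈ U → U ≤ centralizer {g} := fun h hg x hx =>
    mem_centralizer_singleton_iff.2 (congrArg Subtype.val (h.commGroup.mul_comm ⟨x, hx⟩ ⟨g, hg⟩))
  have h3 : ∀ P : Sylow 2 Γ, g ∈ P.1 → Cl S.Q g := fun P hg => by
    obtain ⟨x, e⟩ := S.exists_syl P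
    exact cl_iff.2 ⟨h1, x, by rwa [← e, map_Q] at hg⟩
  have a1 := Dvd.intro _ S.tori_mul
  have a2 := Dvd.intro_left _ S.tori_mul
  rcases S.tri' h1 with ⟨x, h⟩ | ⟨x, h⟩ | h
  · refine ⟨_, ⟨.inl ⟨(S.cnj x).syl, rfl⟩, h⟩, ?_⟩
    rintro U ⟨⟨P, rfl⟩ | ⟨hU, hc⟩, hg⟩
    · obtain ⟨y, e⟩ := (S.cnj x).exists_syl P
      rw [← e, map_Q] at hg ⊢
      exact Q_eq h1 h hg
    refine absurd ?_ (h0 hg (card_dvd_of_le fun y hy => mem_Q_of_comm h h1 (mem_centralizer_singleton_iff.1 (h2 hU hg hy))))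
    rw [card_Q, S.card, ← pow_mul]
    refine (Odd.coprime_two_right ?_).pow_right _
    rcases hc with e | e | e <;> rw [e]
    exacts [S.odd_sub, S.odd_add.of_dvd_nat a1, S.odd_add.of_dvd_nat a2]
  · refine ⟨_, ⟨.inr ⟨inferInstance, .inl (card_K _)⟩, h⟩, ?_⟩
    rintro U ⟨⟨P, rfl⟩ | ⟨hU, hc⟩, hg⟩
    · exact (not_Q_K (h3 P hg) (cl_iff.2 ⟨h1, x, by rwa [map_K] at h⟩)).elim
    have h4 := (h2 hU hg).trans (cc_K _ g h h1).le
    have h5 := h0 hg (card_dvd_of_le h4)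
    rw [card_K] at h5
    rcases hc with e | e | e
    · exact eq_of_le_of_card_ge h4 (by rw [e, card_K])
    · exact absurd (e ▸ S.coprime_sub_add.symm.coprime_dvd_left a1) h5
    · exact absurd (e ▸ S.coprime_sub_add.symm.coprime_dvd_left a2) h5
  · refine ⟨_, ⟨.inr ⟨h.cyclic, .inr h.card_C⟩, mem_centralizer_singleton_iff.2 rfl⟩, ?_⟩
    rintro U ⟨⟨P, rfl⟩ | ⟨hU, hc⟩, hg⟩
    · obtain ⟨x, e, -⟩ := h3 P hg
      exact absurd (S.Q_le_B e) (h.not_B x)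
    have h4 := h2 hU hg
    have h5 := h0 hg (card_dvd_of_le h4)
    refine eq_of_le_of_card_ge h4 ?_
    rcases hc with e | e | e
    · exact absurd (e ▸ S.coprime_sub_add.coprime_dvd_right h.card_dvd) h5
    all_goals rcases h.card_C with e' | e' <;> rw [e, e'] at h5 ⊢
    exacts [absurd S.coprime_tori h5, absurd S.coprime_tori.symm h5]

include S in
theorem cosets : ∃ P : Sylow 2 Γ, Nat.card (normalizer (P.1 : Set Γ)) = Nat.card F ^ 2 * (Nat.card F - 1) ∧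
    (normalizer (P.1 : Set Γ)).index = Nat.card F ^ 2 + 1 ∧
    IsMultiplyPretransitive Γ (Γ ⧸ normalizer (P.1 : Set Γ)) 2 ∧
    ∀ x y : Γ ⧸ normalizer (P.1 : Set Γ), x ≠ QuotientGroup.mk 1 → y ≠ QuotientGroup.mk 1 → ∃! s : P.1, (s : Γ) • x = y := by
  refine ⟨S.syl, ?_⟩
  have : normalizer (S.syl.1 : Set Γ) = S.B := S.normalizer_Q
  rw [this]
  have h1 := injective_ofQuotientStabilizer Γ S.oo
  have h2 : Function.Surjective (ofQuotientStabilizer Γ S.oo) := fun p => let ⟨g, h⟩ := S.exists_oo p; ⟨g, h⟩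
  refine ⟨S.card_B, S.index_B, (IsPretransitive.of_embedding_congr (f := (⟨_, ofQuotientStabilizer_smul Γ S.oo⟩ : _ →[Γ] S.Ω))
    Function.surjective_id ⟨h1, h2⟩).2 S.two_trans, fun x y hx hy => ?_⟩
  obtain ⟨a, b, e⟩ := S.exists_pt (p := ofQuotientStabilizer Γ S.oo x) fun e => hx (h1 (by simpa))
  obtain ⟨a', b', e'⟩ := S.exists_pt (p := ofQuotientStabilizer Γ S.oo y) fun e => hy (h1 (by simpa))
  simp only [← h1.eq_iff, ofQuotientStabilizer_smul, e, e']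
  refine ⟨⟨_, S.s_mem (a + a') (b + b' + S.θ (a + a') * a)⟩, by simp [pt_inj]; grind, ?_⟩
  rintro ⟨_, x, y, rfl⟩ h
  exact Subtype.ext (S.s_inj.2 (by simp [pt_inj] at h ⊢; grind))

theorem mem_Z_of_sq {g : Γ} (h : g ∈ S.Q) (h2 : g ^ 2 = 1) : g ∈ S.Z := by
  obtain ⟨a, b, rfl⟩ := h
  obtain rfl : a = 0 := by simpa [s_sq, s_eq_one] using h2
  exact S.s_mem_Z b

theorem B_conj_Z {x : Γ} (h : x ∈ S.B) : ∃ c, c ≠ 0 ∧ ∀ b, x * S.s 0 b * x⁻¹ = S.s 0 (c * b) := by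
  obtain ⟨a, b, t, rfl⟩ := exists_of_B h
  refine ⟨t ^ 2 * S.θ t, by simp, fun b' => ?_⟩
  rw [_root_.mul_inv_rev, ← mul_assoc, mul_assoc (S.s a b), mul_assoc (S.s a b), d_conj, mul_zero, s_conj_Z]

theorem exists_conj_Z {c : F} (h : c ≠ 0) : ∃ x ∈ S.K, ∀ b, x * S.s 0 b * x⁻¹ = S.s 0 (c * b) := by
  obtain ⟨t, rfl⟩ := S.δ_surj h
  exact ⟨_, S.d_mem t, fun b => by rw [d_conj, mul_zero]⟩

theorem z_mul (b c : F) : S.s 0 b * S.s 0 c = S.s 0 (b + c) := by simp [s_mul]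

/-- the centre as the image of the additive group -/
noncomputable def zH : Multiplicative F →* Γ := ⟨⟨fun b => S.s 0 b.toAdd, S.s_zero⟩, fun _ _ => (S.z_mul ..).symm⟩

theorem zH_inj : Function.Injective S.zH := fun _ _ e => (S.s_inj.1 e).2

theorem dvd_of_subfield (L : Subfield F) {n : ℕ} (h : Nat.card L = 2 ^ n) : n ∣ 2 * S.m + 1 :=
  ⟨Module.finrank L F, Nat.pow_right_injective le_rfl (by
    beta_reduce; rw [← S.card, pow_mul, ← h, Module.natCard_eq_pow_finrank (K := L)])⟩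

theorem exists_subfield {n : ℕ} (h : n ∣ 2 * S.m + 1) : ∃ L : Subfield F, Nat.card L = 2 ^ n := by
  letI := ZMod.algebra F 2
  have h0 : n ≠ 0 := by rintro rfl; simp at h
  obtain ⟨f⟩ := FiniteField.nonempty_algHom_of_finrank_dvd (F := ZMod 2) (K := GaloisField 2 n) (L := F) (by
    rw [GaloisField.finrank 2 h0]
    convert h
    exact Nat.pow_right_injective le_rfl (by
      beta_reduce; rw [← S.card, Module.natCard_eq_pow_finrank (K := ZMod 2) (V := F), Nat.card_zmod]))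
  exact ⟨f.toRingHom.fieldRange, by rw [← GaloisField.card 2 n h0]; exact (Nat.card_congr (Equiv.ofInjective _ f.injective)).symm⟩

theorem ti_iff {n : ℕ} (hn : 1 ≤ n) : (∃ E : Subgroup Γ, IsElementaryAbelian 2 E ∧ Nat.card E = 2 ^ n ∧
    ∀ x, E ⊓ cj x E ≠ ⊥ → x ∈ normalizer (E : Set Γ)) ↔ n ∣ 2 * S.m + 1 := by
  refine ⟨fun ⟨E, h1, h2, h3⟩ => ?_, fun h => ?_⟩
  · obtain ⟨P, hP⟩ := (IsPGroup.of_card h2).exists_le_sylow
    obtain ⟨x, e⟩ := S.exists_syl P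
    rw [← e] at hP
    change n ∣ 2 * (S.cnj x).m + 1
    generalize S.cnj x = T at hP
    have h4 : E ≤ T.Z := fun g hg => T.mem_Z_of_sq (hP hg) (h1.2 g hg)
    obtain ⟨⟨g, hg⟩, h0⟩ := ne_bot_iff_exists_ne_one.1 (show E ≠ ⊥ from fun e => by
      rw [e, card_bot] at h2; exact (Nat.one_lt_two_pow (by omega)).ne h2)
    obtain ⟨a, rfl⟩ := h4 hg
    replace h0 : a ≠ 0 := by simpa [s_eq_one] using h0
    have h5 : ∀ c b b', T.s 0 b ∈ E → b ≠ 0 → T.s 0 (c * b) ∈ E → T.s 0 b' ∈ E → T.s 0 (c * b') ∈ E := fun c b b' hb h0 hc hb' => by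
      by_cases h : c = 0
      · simp [h]
      obtain ⟨y, -, hy⟩ := T.exists_conj_Z h
      exact hy b' ▸ conj_mem_of_mem_normalizer (h3 y (ne_bot_iff_exists_ne_one.2
        ⟨⟨_, hc, hy b ▸ conj_mem_cj hb⟩, by simp [Subtype.ext_iff, s_eq_one, h, h0]⟩)) hb'
    let L : Subfield F :=
      { carrier := {c | T.s 0 (c * a) ∈ E}
        mul_mem' := fun {c c'} h h' => by simpa [mul_assoc] using h5 c a _ hg h0 h h'
        one_mem' := by simpa
        add_mem' := fun {c c'} h h' => by simpa [z_mul, add_mul] using E.mul_mem h h'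
        zero_mem' := by simp
        neg_mem' := fun h => by simpa [CharTwo.neg_eq] using h
        inv_mem' := fun c h => by
          by_cases hc : c = 0
          · simp [hc]
          · exact h5 c⁻¹ _ _ h (mul_ne_zero hc h0) (by simpa [hc]) hg }
    refine T.dvd_of_subfield L (h2 ▸ cnt_eq_of_bij (fun c => T.s 0 (c * a)) (fun _ => id)
      (fun _ _ _ _ e => mul_right_cancel₀ h0 (T.s_inj.1 e).2) fun y hy => ?_)
    obtain ⟨b, rfl⟩ := h4 hy
    exact ⟨b / a, show T.s 0 _ ∈ E by simpa [h0], by simp [h0]⟩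
  · obtain ⟨L, hL⟩ := S.exists_subfield h
    have h1 : ∀ {g}, g ∈ L.toAddSubgroup.toSubgroup.map S.zH ↔ ∃ b ∈ L, S.s 0 b = g := Iff.rfl
    refine ⟨L.toAddSubgroup.toSubgroup.map S.zH, ⟨inferInstance, fun g hg => ?_⟩,
      (card_map_of_injective S.zH_inj).trans hL, fun x hx => ?_⟩
    · obtain ⟨b, -, rfl⟩ := h1.1 hg
      simp [s_sq]
    obtain ⟨⟨_, h2, y, h3, rfl⟩, h0⟩ := ne_bot_iff_exists_ne_one.1 hx
    obtain ⟨b, hb, rfl⟩ := h1.1 h3
    obtain ⟨b', hb', e⟩ := h1.1 h2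
    replace h0 : b ≠ 0 := by simpa [s_eq_one] using h0
    obtain ⟨c, -, hc⟩ := S.B_conj_Z (mem_B_of_conj (S.s_mem 0 b) (by simpa [s_eq_one]) (e.symm ▸ S.s_oo 0 b'))
    have h4 : c ∈ L := by
      rw [show c = b' / b by rw [(S.s_inj.1 (e.trans (hc b))).2, mul_div_cancel_right₀ _ h0]]
      exact div_mem hb' hb
    refine mem_normalizer_of_conj_mem fun g hg => ?_
    obtain ⟨b, hb, rfl⟩ := h1.1 hg
    exact h1.2 ⟨_, mul_mem h4 hb, (hc b).symm⟩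

end SzS

section Models
variable {F : Type*} [Field F] [Fintype F] {m : ℕ} [CharP F 2] (hm : 1 ≤ m) (hF : Fintype.card F = 2 ^ (2 * m + 1))

theorem smul_mk_iff {g : Cfsg.Sz F m} {p q : (szA hm hF).Ω} :
    g • Projectivization.mk F _ (pv_ne (szA hm hF).θ p) = .mk F _ (pv_ne (szA hm hF).θ q) ↔ g • p = q := by
  rw [SzS.smul_eq_iff, Subgroup.smul_def, Projectivization.smul_mk, Projectivization.mk_eq_mk_iff']
  exact exists_congr fun _ => eq_comm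

/-- the points of the ovoid -/
noncomputable def ovEquiv : (szA hm hF).Ω ≃ suzukiOvoid F m :=
  Equiv.ofBijective (fun p => ⟨.mk F _ (pv_ne (szA hm hF).θ p), mem_ovoid.2 ⟨p, rfl⟩⟩)
    ⟨fun p q e => by simpa using (smul_mk_iff hm hF (g := 1)).1 (by simpa using e),
      fun ⟨_, h⟩ => let ⟨p, e⟩ := mem_ovoid.1 h; ⟨p, Subtype.ext e.symm⟩⟩

theorem ovEquiv_smul (g : Cfsg.Sz F m) (p : (szA hm hF).Ω) : ovEquiv hm hF (g • p) = g • ovEquiv hm hF p :=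
  Subtype.ext ((smul_mk_iff hm hF).2 rfl).symm

theorem stab_inf : stabilizer (Cfsg.Sz F m) (suzukiPointInfinity F) = (szA hm hF).B :=
  Subgroup.ext fun _ => smul_mk_iff hm hF (p := (szA hm hF).oo) (q := (szA hm hF).oo)

theorem stab_zero : stabilizer (Cfsg.Sz F m) (suzukiPointZero F) = stabilizer _ ((szA hm hF).pt 0 0) := by
  have : suzukiPointZero F = .mk F _ (pv_ne (szA hm hF).θ ((szA hm hF).pt 0 0)) := by simp [suzukiPointZero, SzS.pt, pv, fz]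
  exact Subgroup.ext fun _ => this ▸ smul_mk_iff hm hF

end Models
end Cfsg.Agent.Suz
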