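import Cfsg.Agent.Lib.Sz.Main
import Cfsg.Agent.Lib.Chev.Lift2
import Cfsg.Agent.Lib.Transfer.Hall

set_option autoImplicit false
set_option linter.unusedSectionVars false
set_option linter.style.haveILetI false

/-! The Schur multiplier of the Suzuki groups over fields with more than eight elements. -/

namespace Cfsg.Agent.Suz

open MulAction Subgroup Transfer Chev
open scoped commutatorElement

section Stem
variable {E G : Type*} [Group E] [Group G] {σ : E →* G}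

theorem pow_index_mem_der {H : Subgroup E} [H.FiniteIndex] {z : E} (hz : z ∈ H) (hc : z ∈ center E) (hd : z ∈ commutator E) :
    z ^ H.index ∈ ⁅H, H⁆ := by
  have h1 := transfer_eq_pow_of_mem (Abelianization.of (G := H)) hz fun k a h => by
    rw [← map_pow]
    congr 1
    exact Subtype.ext (by simp [mul_assoc, ← mem_center_iff.1 (pow_mem hc k) a])
  rw [MonoidHom.mem_ker.1 (Abelianization.commutator_subset_ker _ hd), ← map_pow, eq_comm, ← MonoidHom.mem_ker,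
    Abelianization.ker_of] at h1
  rw [← map_subtype_commutator]
  exact ⟨_, h1, rfl⟩

theorem ker_eq_bot_of_sylow [Finite E] (h : IsStemExtension σ) (hp : ∀ p : ℕ, p.Prime → ∃ P : Subgroup G, ¬ p ∣ P.index ∧
    ∀ z ∈ ⁅P.comap σ, P.comap σ⁆, σ z = 1 → z = 1) : σ.ker = ⊥ := by_contra fun h0 => by
  obtain ⟨p, h1, h2⟩ := Nat.exists_prime_and_dvd (n := Nat.card σ.ker) (mt card_eq_one.1 h0)
  haveI := Fact.mk h1
  obtain ⟨⟨z, hz⟩, e⟩ := exists_prime_orderOf_dvd_card' p h2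
  obtain ⟨P, h3, h4⟩ := hp p h1
  have := h4 _ (pow_index_mem_der (H := P.comap σ) (by simp [MonoidHom.mem_ker.1 hz]) (h.2.1 hz) (h.2.2 hz))
    (by simp [MonoidHom.mem_ker.1 hz])
  rw [index_comap_of_surjective _ h.1, ← orderOf_dvd_iff_pow_eq_one, ← orderOf_mk z hz, e] at this
  exact h3 this

theorem der_eq_bot_of_cyclic (hc : σ.ker ≤ center E) {P : Subgroup G} (hP : IsCyclic P) : ⁅P.comap σ, P.comap σ⁆ = ⊥ := by
  rw [commutator_eq_bot_iff_le_centralizer]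
  exact fun a ha b hb => congrArg Subtype.val (((σ.subgroupComap P).isMulCommutative_of_isCyclic_of_ker_le_center
    fun x hx => mem_center_iff.2 fun y => Subtype.ext (mem_center_iff.1 (hc (congrArg Subtype.val hx)) y)).1.1 ⟨b, hb⟩ ⟨a, ha⟩)

theorem hasSchur_one.{u} {G : Type u} [Group G] [Finite G]
    (h : ∀ (E : Type u) [Group E] [Finite E] (σ : E →* G), IsStemExtension σ → σ.ker = ⊥) : HasCyclicSchurMultiplier G 1 :=
  ⟨⟨G, _, inferInstance, MonoidHom.id G, ⟨Function.surjective_id, by simp, by simp⟩, by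
    rw [MonoidHom.ker_id]; exact ⟨MulEquiv.ofUnique⟩⟩,
    fun E _ _ σ hσ => ⟨1, fun x => ⟨1, Subtype.ext ((h E σ hσ).le x.2).symm⟩⟩⟩

theorem pairing_eq_one {F : Type*} [Field F] [CharP F 2] {f : F → F → E} {γ : F → F}
    (h1 : ∀ a a' b, f (a + a') b = f a b * f a' b) (h2 : ∀ a b b', f a (b + b') = f a b * f a b')
    (h3 : ∀ a b, a ≠ 0 → f a b = f 1 (γ a * b)) {a : F} (h0 : a ≠ 0) (h1' : a ≠ 1) (h : γ (1 + a) ≠ γ 1 + γ a) (a' b : F) :
    f a' b = 1 := by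
  have h4 : ∀ c, f 1 c = 1 := fun c => by
    obtain ⟨b, rfl⟩ : ∃ b, c = (γ (1 + a) + (γ 1 + γ a)) * b := ⟨c / _, (mul_div_cancel₀ _ (by grind)).symm⟩
    have := h1 1 a b
    rw [h3 _ _ (by grind), h3 1 b one_ne_zero, h3 a b h0, ← h2, ← add_mul] at this
    rw [add_mul, h2, this, ← h2, CharTwo.add_self_eq_zero]
    simpa using h2 1 0 0
  by_cases e : a' = 0
  · simpa [e] using h1 0 0 b
  · rw [h3 _ _ e, h4]

end Stem

namespace SzS
variable {F : Type*} [Field F] [Finite F] [CharP F 2] {Γ : Type*} [Group Γ] [Finite Γ] (S : SzS F Γ)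

theorem der_Q (hm : 2 ≤ S.m) {E : Type*} [Group E] {σ : E →* Γ} (hc : σ.ker ≤ center E) (hs : Function.Surjective σ) :
    ∀ z ∈ ⁅S.Q.comap σ, S.Q.comap σ⁆, σ z = 1 → z = 1 := by
  obtain ⟨u, h0, hu⟩ : ∃ u : F, u ≠ 0 ∧ u ^ 7 ≠ 1 := by
    obtain ⟨u, hu⟩ := IsCyclic.exists_ofOrder_eq_natCard (α := Fˣ)
    refine ⟨u, u.ne_zero, fun e => ?_⟩
    have := Nat.le_of_dvd (by simp) (orderOf_dvd_of_pow_eq_one (x := u) (n := 7) (Units.ext (by simpa)))
    have := Nat.pow_le_pow_right (n := 2) (i := 5) (j := 2 * S.m + 1) (by simp) (by omega)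
    rw [hu, Nat.card_units, S.card] at *
    omega
  have h1 : u ≠ 1 := by rintro rfl; simp at hu
  have a1 : (1 + u)⁻¹ ≠ 1⁻¹ + u⁻¹ := fun e => by
    have h2 : u ^ 2 + u + 1 = 0 := by grind
    have h3 := congrArg S.θ h2
    have h4 := S.hθ u
    simp only [map_add, map_pow, map_one, map_zero] at h3
    obtain h5 | h5 : S.θ u = u ∨ S.θ u = u + 1 := by grind
    · grind
    · rw [h5, map_add, h5, map_one] at h4; grind
  have a2 : ((1 + u) * S.θ (1 + u))⁻¹ ≠ (1 * S.θ 1)⁻¹ + (u * S.θ u)⁻¹ := fun e => by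
    have h2 := S.θ_ne h0
    have h3 := S.θ_ne (t := 1 + u) (by grind)
    simp only [map_add, map_one] at e h3
    have h4 : u ^ 2 * S.θ u ^ 2 + u ^ 2 * S.θ u + u * S.θ u ^ 2 + u * S.θ u + u + S.θ u + 1 = 0 := by
      have : 1 + u ≠ 0 := by grind
      field_simp at e; grind
    have h5 := congrArg S.θ h4
    simp only [map_add, map_mul, map_pow, map_one, map_zero, hθ] at h5
    grind
  have b0 : ∀ a b c, Commute (S.s a b) (S.s 0 c) := fun a b c => S.s_comm.2 (by simp)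
  have b1 : ∀ b c, lc hs (S.s 0 b) (S.s 0 c) = 1 := pairing_eq_one (γ := (·⁻¹))
    (fun a a' b => by
      rw [add_comm, ← z_mul, lc_mul_left hc hs (by rw [(b0 ..).commutator_eq]; exact mem_LC_one hc hs _)])
    (fun a a' b => by rw [← z_mul, lc_mul_right hc hs (by rw [(b0 ..).commutator_eq]; exact mem_LC_one hc hs _)])
    (fun a b h => by
      obtain ⟨x, -, hx⟩ := S.exists_conj_Z (inv_ne_zero h)
      rw [← lc_conj' hc hs x (b0 ..), hx, hx, inv_mul_cancel₀ h]) h0 h1 a1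
  have b2 : ∀ a b c, lc hs (S.s a b) (S.s 0 c) = lc hs (S.s a 0) (S.s 0 c) := fun a b c => by
    rw [show S.s a b = S.s 0 b * S.s a 0 by simp [s_mul],
      lc_mul_left hc hs (by rw [(b0 ..).commutator_eq]; exact mem_LC_one hc hs _), b1, mul_one]
  have b3 : ∀ a b c, lc hs (S.s a b) (S.s 0 c) = 1 := fun a b c => (b2 a b c).trans (pairing_eq_one
    (f := fun a c => lc hs (S.s a 0) (S.s 0 c)) (γ := fun a => (a * S.θ a)⁻¹)
    (fun a a' b => by
      rw [add_comm, ← b2 _ (0 + 0 + S.θ a' * a), ← s_mul,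
        lc_mul_left hc hs (by rw [(b0 ..).commutator_eq]; exact mem_LC_one hc hs _)])
    (fun a a' b => by rw [← z_mul, lc_mul_right hc hs (by rw [(b0 ..).commutator_eq]; exact mem_LC_one hc hs _)])
    (fun a b h => by
      obtain ⟨t, ht⟩ := S.θ_surj (inv_ne_zero h)
      rw [← lc_conj' hc hs (S.d t) (b0 ..), d_conj, d_conj, ← S.hθ, ht, inv_mul_cancel₀ h, map_inv₀]
      simp) h0 h1 a2 a c)
  obtain ⟨t, ht⟩ := S.exists_d_ne
  have b4 : ∀ b, ⁅S.d t, S.s 0 b⁆ = S.s 0 ((t ^ 2 * S.θ t + 1) * b) := fun b => by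
    rw [commutatorElement_def, d_conj, s_inv, s_mul, s_inj]; simp [add_mul]
  have b5 : (t : F) ^ 2 * S.θ t + 1 ≠ 0 := fun e => S.δ_ne (S.d_eq_one.not.1 ht) (by grind)
  let ω : Multiplicative F →* E := MonoidHom.mk' (fun b => lc hs (S.d t) (S.s 0 b.toAdd)) fun b c => by
    rw [toAdd_mul, ← z_mul, lc_mul_right hc hs (by rw [b4]; exact (lc_eq_one hc hs).1 (b3 ..))]
  have c0 : ∀ b, σ (ω b) = S.s 0 ((t ^ 2 * S.θ t + 1) * b.toAdd) := fun b => (map_lc hs ..).trans (b4 _)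
  have c1 : ∀ w ∈ ω.range, σ w = 1 → w = 1 := by
    rintro _ ⟨b, rfl⟩ h
    rw [show b = 1 by simpa [c0, s_eq_one, b5] using h, map_one]
  have c2 : ∀ n ∈ S.Q.comap σ, ∀ w ∈ ω.range, n * w * n⁻¹ ∈ ω.range := by
    rintro n ⟨a, b, e⟩ _ ⟨c, rfl⟩
    rw [((mem_LC hc (a := n) (b := ω c)).1 (by rw [e, c0]; exact (lc_eq_one hc hs).1 (b3 ..))).eq, mul_inv_cancel_right]
    exact ⟨c, rfl⟩
  obtain ⟨f, f1, f2, f3, f4⟩ := exists_pairing hc c1 le_rfl c2 (by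
    rintro x ⟨a, b, e⟩ y ⟨a', b', e'⟩
    exact ⟨_, ⟨.ofAdd ((S.θ a * a' + S.θ a' * a) / (t ^ 2 * S.θ t + 1)), rfl⟩, by
      rw [c0, map_commutatorElement, e, e', commutator_s, toAdd_ofAdd, mul_div_cancel₀ _ b5]⟩)
  choose τ hτ using id hs
  have c3 : ∀ a b, τ (S.s a b) ∈ S.Q.comap σ := fun a b => ⟨a, b, hτ _⟩
  have c4 : ∀ x ∈ S.Q.comap σ, ∀ y ∈ S.Q.comap σ, ∀ x' y', σ x' = σ x → σ y' = σ y → f x' y' = f x y :=
    fun x hx y hy x' y' e e' => f4 1 (by simp) x hx y hy x' (by simpa [e] using hx) y' (by simpa [e'] using hy)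
      (by simpa) (by simpa)
  have c5 : ∀ a b c, ⁅τ (S.s a b), τ (S.s 0 c)⁆ = 1 := fun a b c => by rw [← lc_eq hc hs, hτ, hτ, b3]
  have c6 : ∀ a b a' b', f (τ (S.s a b)) (τ (S.s a' b')) = f (τ (S.s a 0)) (τ (S.s a' 0)) := fun a b a' b' => by
    rw [← c4 _ (c3 ..) _ (c3 ..) (τ (S.s 0 b) * τ (S.s a 0)) (τ (S.s 0 b') * τ (S.s a' 0)) (by simp [hτ, s_mul])
      (by simp [hτ, s_mul]), f2 _ (c3 ..) _ (c3 ..) _ (mul_mem (c3 ..) (c3 ..)), f3 _ (c3 ..) _ (c3 ..) _ (c3 ..),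
      f3 _ (c3 ..) _ (c3 ..) _ (c3 ..), (f1 _ (c3 0 b) _ (c3 0 b')).2.2 (c5 0 b b' ▸ one_mem _),
      (f1 _ (c3 a 0) _ (c3 0 b')).2.2 (c5 a 0 b' ▸ one_mem _),
      (f1 _ (c3 0 b) _ (c3 a' 0)).2.2 (by rw [← commutatorElement_inv, c5 a' 0 b]; simp)]
    simp
  have c7 := pairing_eq_one (f := fun a a' => f (τ (S.s a 0)) (τ (S.s a' 0))) (γ := (·⁻¹))
    (fun a a' b => by
      rw [← f2 _ (c3 ..) _ (c3 ..) _ (c3 ..), ← c6 _ (0 + 0 + S.θ a * a') _ 0]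
      exact c4 _ (mul_mem (c3 ..) (c3 ..)) _ (c3 ..) _ _ (by simp [hτ, s_mul]) rfl)
    (fun a a' b => by
      rw [← f3 _ (c3 ..) _ (c3 ..) _ (c3 ..), ← c6 _ 0 _ (0 + 0 + S.θ a' * b)]
      exact c4 _ (c3 ..) _ (mul_mem (c3 ..) (c3 ..)) _ _ rfl (by simp [hτ, s_mul]))
    (fun a b h => by
      obtain ⟨v, hv⟩ := S.θ_surj (inv_ne_zero h)
      refine (f4 (τ (S.d v)) ?_ _ (c3 ..) _ (c3 ..) _ (c3 ..) _ (c3 ..) (by simp [hτ, d_conj, hv, h])
        (by simp [hτ, d_conj, hv])).symm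
      rintro _ ⟨c, rfl⟩
      exact ⟨.ofAdd (v ^ 2 * S.θ v * c.toAdd), Eq.trans (by simp [ω, hτ, d_conj, S.d_comm v]) (lc_conj hc hs ..)⟩) h0 h1 a1
  refine fun z hz => c1 z (commutator_le.2 (fun x hx y hy => (f1 x hx y hy).2.1 ?_) hz)
  obtain ⟨a, b, e⟩ := id hx
  obtain ⟨a', b', e'⟩ := id hy
  rw [c4 _ (c3 a b) _ (c3 a' b') x y (by rw [e, hτ]) (by rw [e', hτ]), c6, c7]

theorem schur (hm : 2 ≤ S.m) : HasCyclicSchurMultiplier Γ 1 := hasSchur_one fun E _ _ σ h =>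
  ker_eq_bot_of_sylow h fun p hp => by
    haveI := Fact.mk hp
    by_cases e : p = 2
    · exact ⟨_, e ▸ S.syl.not_dvd_index, S.der_Q hm h.2.1 h.1⟩
    · obtain ⟨P⟩ := (inferInstance : Nonempty (Sylow p Γ))
      exact ⟨_, P.not_dvd_index, by simp [der_eq_bot_of_cyclic h.2.1 (S.cyclic_sylow e P)]⟩

end SzS
end Cfsg.Agent.Suz
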