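import Cfsg.Agent.Lib.Sz.Main
import Cfsg.Agent.Lib.Chev.AutCo

set_option autoImplicit false
set_option linter.unusedSectionVars false
set_option linter.style.haveILetI false

/-! Subfield embeddings and automorphisms of the Suzuki groups. -/

namespace Cfsg.Agent.Suz

open Matrix MulAction Subgroup Transfer

namespace SzS
variable {F : Type*} [Field F] [Finite F] [CharP F 2] {Γ : Type*} [Group Γ] [Finite Γ] (S : SzS F Γ)

theorem eq_top_of_gen {M : Subgroup Γ} (hK : S.K ≤ M) (hw : S.w ∈ M) {a b : F} (h : a ≠ 0) (hs : S.s a b ∈ M) : M = ⊤ :=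
  S.eq_top_of_Q (S.Q_le (fun t _ hx => mul_mem (mul_mem (hK (S.d_mem t)) hx) (inv_mem (hK (S.d_mem t)))) h hs)
    fun e => S.w_not_mem_B (e hw)

theorem hom_ext {G : Type*} [Group G] {f g : Γ →* G} (h1 : ∀ a b, f (S.s a b) = g (S.s a b)) (h2 : f S.w = g S.w) : f = g :=
  MonoidHom.ext fun x => (S.eq_top_of_Q (M := f.eqLocus g) (by rintro _ ⟨a, b, rfl⟩; exact h1 a b)
    fun e => S.w_not_mem_B (e h2)).ge (mem_top x)

theorem θ_comm {L : Type*} [Field L] [Finite L] [CharP L 2] {Δ : Type*} [Group Δ] (T : SzS L Δ) (β : L →+* F)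
    (h : 2 * T.m + 1 ∣ 2 * S.m + 1) (x : L) : S.θ (β x) = β (T.θ x) := by
  obtain ⟨c, hc⟩ := h
  obtain ⟨j, rfl⟩ : Odd c := (Nat.odd_mul.1 (hc ▸ odd_two_mul_add_one _)).2
  have : ∀ n, x ^ Nat.card L ^ n = x := fun n => by
    induction n with
    | zero => simp
    | succ n ih => rw [pow_succ, pow_mul, ih, pow_card]
  rw [S.θ_eq, T.θ_eq, ← map_pow, show S.m + 1 = (2 * T.m + 1) * j + (T.m + 1) by nlinarith, pow_add, pow_mul, pow_mul,
    ← T.card, this]

theorem exists_hom {L : Type*} [Field L] [Finite L] [CharP L 2] {Δ : Type*} [Group Δ] [Finite Δ] (T : SzS L Δ) (β : L →+* F)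
    (h : 2 * T.m + 1 ∣ 2 * S.m + 1) : ∃ φ : Δ →* Γ, Function.Injective φ ∧ (∀ a b, φ (T.s a b) = S.s (β a) (β b)) ∧
      (∀ t, φ (T.d t) = S.d (Units.map β t)) ∧ φ T.w = S.w := by
  have h0 := S.θ_comm T β h
  let ψ := (GeneralLinearGroup.map (n := Fin 4) β).comp T.ι
  have h1 : ∀ a b, ψ (T.s a b) = S.ι (S.s (β a) (β b)) := fun a b => Units.ext (by
    rw [ι_s]; change (T.ι _).1.map β = _; rw [ι_s]
    ext i j; fin_cases i <;> fin_cases j <;> simp [sM, fz, h0])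
  have h2 : ∀ t, ψ (T.d t) = S.ι (S.d (Units.map β t)) := fun t => Units.ext (by
    rw [ι_d]; change (T.ι _).1.map β = _; rw [ι_d]
    ext i j; fin_cases i <;> fin_cases j <;> simp [dM, h0])
  have h3 : ψ T.w = S.ι S.w := Units.ext (by
    rw [ι_w]; change (T.ι _).1.map β = _; rw [ι_w]
    ext i j; fin_cases i <;> fin_cases j <;> simp [wM])
  have h4 : ∀ g, ψ g ∈ S.ι.range := fun g => (T.eq_top_of_Q (M := S.ι.range.comap ψ)
    (by rintro _ ⟨a, b, rfl⟩; exact ⟨_, (h1 a b).symm⟩) fun e => T.w_not_mem_B (e ⟨_, h3.symm⟩)).ge (mem_top g)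
  let φ := (MonoidHom.ofInjective S.inj).symm.toMonoidHom.comp (ψ.codRestrict _ h4)
  have h5 : ∀ g, S.ι (φ g) = ψ g := fun g => congrArg Subtype.val ((MonoidHom.ofInjective S.inj).apply_symm_apply ⟨_, h4 g⟩)
  refine ⟨φ, fun g g' e => T.inj (Units.ext (map_injective β.injective ?_)), fun a b => S.inj (by rw [h5, h1]),
    fun t => S.inj (by rw [h5, h2]), S.inj (by rw [h5, h3])⟩
  exact congrArg Units.val ((h5 g).symm.trans (e ▸ h5 g'))

theorem exists_fa (β : F ≃+* F) : ∃ φ : MulAut Γ, (∀ a b, φ (S.s a b) = S.s (β a) (β b)) ∧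
    (∀ t, φ (S.d t) = S.d (Units.map β t)) ∧ φ S.w = S.w :=
  let ⟨φ, h, h'⟩ := S.exists_hom S β dvd_rfl
  ⟨.ofBijective φ (Finite.injective_iff_bijective.1 h), h'⟩

/-- field automorphisms -/
noncomputable def fa : (F ≃+* F) →* MulAut Γ := MonoidHom.mk' (fun β => (S.exists_fa β).choose) fun β γ =>
  MulEquiv.toMonoidHom_injective (S.hom_ext
    (fun a b => ((S.exists_fa _).choose_spec.1 a b).trans (by simp [(S.exists_fa _).choose_spec.1]))
    ((S.exists_fa _).choose_spec.2.2.trans (by simp [(S.exists_fa _).choose_spec.2.2])))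

theorem fa_s (β : F ≃+* F) (a b : F) : S.fa β (S.s a b) = S.s (β a) (β b) := (S.exists_fa _).choose_spec.1 a b
theorem fa_d (β : F ≃+* F) (t : Fˣ) : S.fa β (S.d t) = S.d (Units.map β t) := (S.exists_fa _).choose_spec.2.1 t
theorem fa_w (β : F ≃+* F) : S.fa β S.w = S.w := (S.exists_fa _).choose_spec.2.2

theorem w_z {b : F} (h : b ≠ 0) : S.w • S.pt 0 b = S.pt (b / S.θ b) 0 := by
  rw [w_pt _ (by simpa [fz])]; simp [fz]

theorem exists_norm (T : SzS F Γ) : ∃ x, cj x T.Q = S.Q ∧ cj x T.K = S.K ∧ x * T.w * x⁻¹ = S.w := by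
  let P := fun T : SzS F Γ => ∃ x, cj x T.Q = S.Q ∧ cj x T.K = S.K ∧ x * T.w * x⁻¹ = S.w
  have h0 : ∀ (T : SzS F Γ) y, P (T.cnj y) → P T := fun T y ⟨x, h⟩ => ⟨x * y, by
    simpa only [map_Q, map_K, map_w, cj_cj, MulAut.conj_apply, _root_.mul_inv_rev, mul_assoc] using h⟩
  have h1 : ∀ T : SzS F Γ, T.Q = S.Q → T.K = S.K → P T := fun T h4 h3 => by
    obtain ⟨v, hv⟩ := (S.mem_normalizer_K.1 (h3 ▸ T.mem_normalizer_K.2 (.inr (by rw [w_w]; exact one_mem _)))).resolve_left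
      fun h => T.w_not_mem_B (T.K_le_B (h3 ▸ h))
    obtain ⟨v, rfl⟩ := S.exists_sq v
    refine ⟨(S.d v)⁻¹, by rw [h4, cj_eq_of_mem_normalizer (S.normalizer_Q ▸ inv_mem (S.d_oo v))],
      by rw [h3, cj_eq_of_mem (inv_mem (S.d_mem ..))], ?_⟩
    rw [← S.w_inv, eq_mul_inv_iff_mul_eq] at hv
    rw [← hv, inv_inv, mul_assoc, mul_assoc, w_d, map_pow, sq]
    simp [dH, d_inv, ← mul_assoc, ← d_mul, d_one]
  have h2 : ∀ T : SzS F Γ, T.Q = S.Q → P T := fun T h => by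
    obtain ⟨t, ht⟩ := T.exists_d_ne
    obtain ⟨a, b, u, hu, e⟩ := conj_K (S := S) (g := T.d t)
      (by rw [← mem_stabilizer_iff, ← B, ← normalizer_Q, ← h, normalizer_Q]; exact d_oo _ t)
      fun h' => not_Q_K (cl_self (h ▸ h') ht) (cl_self (T.d_mem t) ht)
    refine h0 T (S.s a b)⁻¹ (h1 _ (by rw [map_Q, h]; exact cj_eq_of_mem (inv_mem (S.s_mem ..))) ?_)
    rw [map_K]
    exact cj_eq_iff_eq_cj_inv.2 (T.cc_K.eq (S.cc_K.cj _) (T.d_mem t) (by rw [e, inv_inv]; exact conj_mem_cj (S.d_mem u)) ht)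
  obtain ⟨x, h⟩ := T.exists_syl S.syl
  exact h0 T x (h2 _ h)

theorem exists_fa_eq {φ : MulAut Γ} (hQ : S.Q.map φ.toMonoidHom = S.Q) (hK : S.K.map φ.toMonoidHom = S.K)
    (hw : φ S.w = S.w) : ∃ β, φ = S.fa β := by
  choose μ ν h1 using fun a b => hQ.le (mem_map_of_mem φ.toMonoidHom (S.s_mem a b))
  choose τ h2 using fun t => hK.le (mem_map_of_mem φ.toMonoidHom (S.d_mem t))
  simp only [MulEquiv.coe_toMonoidHom, dH, MonoidHom.coe_mk, OneHom.coe_mk] at h1 h2
  have h3 : ∀ b, μ 0 b = 0 := fun b => by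
    have := congrArg φ (S.s_sq 0 b)
    rw [map_pow, h1, s_sq, mul_zero, s_zero, map_one, s_eq_one] at this
    simpa using this
  have h4 : ∀ b c, ν 0 (b + c) = ν 0 b + ν 0 c := fun b c => by
    have := congrArg φ (S.z_mul b c)
    rw [map_mul, h1, h1, h1, h3, h3, z_mul, s_inj] at this
    exact this.2.symm
  have h5 : ∀ (t : Fˣ) a b, μ (S.θ t * a) (t ^ 2 * S.θ t * b) = S.θ (τ t) * μ a b ∧
      ν (S.θ t * a) (t ^ 2 * S.θ t * b) = τ t ^ 2 * S.θ (τ t) * ν a b := fun t a b => by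
    have := congrArg φ (S.d_conj t a b)
    rwa [map_mul, map_mul, map_inv, h1, h1, ← h2, d_conj, eq_comm, s_inj] at this
  have h6 : ∀ b, ν 0 b = 0 → b = 0 := fun b e => by
    have := h1 0 b
    simpa [e, h3, s_eq_one] using this
  have h7 := mt (h6 1) one_ne_zero
  have h8 : ν 0 0 = 0 := by simpa using h4 0 0
  let β : F →+* F :=
    { toFun b := ν 0 b / ν 0 1
      map_one' := div_self h7
      map_zero' := by simp [h8]
      map_add' b c := by rw [h4, add_div]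
      map_mul' b c := by
        by_cases h : b = 0
        · simp [h, h8]
        obtain ⟨t, rfl⟩ := S.δ_surj h
        have a1 := (h5 t 0 c).2
        have a2 := (h5 t 0 1).2
        rw [mul_zero] at a1 a2
        rw [mul_one] at a2
        rw [a1, a2]; field_simp }
  let β' := RingEquiv.ofBijective β (Finite.injective_iff_bijective.1 β.injective)
  have h9 : ∀ t, τ t = Units.map β' t := fun t => by_contra fun h => S.δ_ne (t := τ t / Units.map β' t) (by rwa [Ne, div_eq_one]) (by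
    have a2 := (h5 t 0 1).2
    have a3 := S.θ_comm S β dvd_rfl t
    have a4 : β (t ^ 2 * S.θ t) = ν 0 (t ^ 2 * S.θ t) / ν 0 1 := rfl
    rw [mul_zero, mul_one] at a2
    rw [a2, map_mul, map_pow, ← a3, mul_div_cancel_right₀ _ h7] at a4
    have := S.θ_ne (t := β t) (by simp)
    simp [β', div_pow, div_mul_div_comm, a4])
  have hB : ∀ g ∈ S.B, φ g ∈ S.B := fun g hg => by
    obtain ⟨a, b, t, rfl⟩ := exists_of_B hg
    simp [h1, ← h2, mul_smul]
  have h10 := hB ((S.s 1 0 * S.w)⁻¹ * (S.w * S.s 0 1 * S.w)) (by simp [mul_smul, inv_smul_eq_iff, w_z])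
  simp only [mem_stabilizer_iff, map_mul, map_inv, hw, h1, h3, mul_smul, inv_smul_eq_iff, w_oo, s_pt, add_zero,
    mul_zero, S.w_z h7, pt_inj] at h10
  have h11 := congrArg φ (S.s_sq 1 0)
  rw [map_pow, h1, h1, s_sq, s_inj, map_one, mul_one, ← h10.1, map_div₀, hθ] at h11
  replace h11 := h11.2
  have h12 : ν 0 1 = 1 := by have := S.θ_ne h7; field_simp at h11; grind
  refine ⟨β', MulEquiv.ext fun x => (S.eq_top_of_gen (M := φ.toMonoidHom.eqLocus (S.fa β').toMonoidHom) ?_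
    (hw.trans (S.fa_w _).symm) one_ne_zero (b := 0) ?_).ge (mem_top x)⟩
  · rintro _ ⟨t, rfl⟩
    exact (h2 t).symm.trans (h9 t ▸ (S.fa_d _ t).symm)
  · exact (h1 1 0).trans (by simp [fa_s, ← h10.1, ← h10.2, h12])

theorem card_out : Nat.card (Out Γ) = 2 * S.m + 1 := by
  haveI := Fintype.ofFinite F
  rw [← (Chev.card_ringAut 2 _ (Nat.card_eq_fintype_card.symm.trans S.card)).1]
  refine (Nat.card_eq_of_bijective ((QuotientGroup.mk' _).comp S.fa) ⟨(injective_iff_map_eq_one _).2 fun β h => ?_, fun φ => ?_⟩).symm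
  · obtain ⟨x, hx⟩ := (QuotientGroup.eq_one_iff _).1 h
    have h0 : ∀ g, x * g * x⁻¹ = S.fa β g := DFunLike.congr_fun hx
    obtain ⟨t, ht⟩ := S.exists_d_ne
    have h1 := mem_B_of_conj (S.s_mem 0 1) S.s_ne (g := x) (by rw [h0, fa_s]; exact S.s_oo ..)
    have h2 := (mem_NK (S.d_mem t) ht (g := x) (by rw [h0, fa_d]; exact S.d_mem ..)).resolve_right
      fun h => S.w_not_mem_B ((mul_mem_cancel_left h1).1 (S.K_le_B h))
    ext a
    by_cases ha : a = 0
    · simp [ha]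
    have := h0 (S.d (Units.mk0 a ha))
    rw [S.cc_K.comm h2 (S.d_mem _), mul_inv_cancel_right, fa_d] at this
    exact congrArg Units.val (S.d_inj this).symm
  · obtain ⟨φ, rfl⟩ := QuotientGroup.mk_surjective φ
    obtain ⟨x, h1, h2, h3⟩ := S.exists_norm (S.map φ)
    rw [map_Q, cj, Subgroup.map_map] at h1
    rw [map_K, cj, Subgroup.map_map] at h2
    obtain ⟨β, e⟩ := S.exists_fa_eq (φ := MulAut.conj x * φ) h1 h2 (by rwa [map_w] at h3)
    exact ⟨β, by simp [← e, QuotientGroup.mk_mul_of_mem, (QuotientGroup.eq_one_iff (N := Inn Γ) _).2 ⟨x, rfl⟩]⟩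

end SzS
end Cfsg.Agent.Suz
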