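import Cfsg.Agent.Lib.Sz.App

set_option autoImplicit false
set_option linter.unusedSectionVars false
set_option linter.style.haveILetI false

/-! Solvable two-generator subgroups of the Suzuki groups. -/

namespace Cfsg.Agent.Suz

open MulAction Subgroup Transfer
open scoped commutatorElement

theorem isConj_inv {G : Type*} [Group G] {a b : G} (h : IsConj a b) : IsConj a⁻¹ b⁻¹ := by
  obtain ⟨c, rfl⟩ := isConj_iff.1 h
  exact isConj_iff.2 ⟨c, by simp [mul_assoc]⟩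

theorem Od.cj {G : Type*} [Group G] {U : Subgroup G} (h : Od U) (x : G) : Od (cj x U) := by
  obtain ⟨g, h1, h2, rfl⟩ := h
  exact ⟨_, by simpa, by rwa [IsConj.orderOf_eq' (isConj_conj x g)], cj_centralizer_singleton ..⟩

namespace SzS
variable {F : Type*} [Field F] [Finite F] [CharP F 2] {Γ : Type*} [Group Γ] [Finite Γ] (S : SzS F Γ)

theorem sol_iff {x y : Γ} : Group.IsSolvable (closure {x, y} : Subgroup Γ) ↔ (∃ p : S.Ω, x • p = p ∧ y • p = p) ∨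
    ∃ U : Subgroup Γ, Od U ∧ x ∈ normalizer (U : Set Γ) ∧ y ∈ normalizer (U : Set Γ) := by
  have h0 : ∀ {H : Subgroup Γ}, closure {x, y} ≤ H ↔ x ∈ H ∧ y ∈ H := by simp [Set.insert_subset_iff]
  refine ⟨fun h => ?_, ?_⟩
  · rcases S.classify (closure {x, y}) with ⟨g, e⟩ | ⟨U, h1, e⟩ | ⟨g, L, h1, e⟩
    · exact .inl ⟨g • S.oo, by simpa only [map_B, mem_cj, mem_stabilizer_iff, mul_smul, inv_smul_eq_iff] using h0.1 e⟩
    · exact .inr ⟨U, h1, h0.1 e⟩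
    · rw [e] at h
      haveI := ((S.cnj g).sub_facts L h1).2.1
      haveI : Group.IsPerfect ((S.cnj g).sub L) := ⟨((S.cnj g).sub_facts L h1).2.2.1⟩
      exact absurd h (Group.IsPerfect.not_isSolvable _)
  · rintro (⟨p, h⟩ | ⟨U, h1, h⟩)
    · obtain ⟨g, rfl⟩ := S.exists_oo p
      haveI := (S.cnj g).solvable_B
      exact Group.isSolvable_of_isSolvable_injective (inclusion_injective (h0.2 (show x ∈ (S.cnj g).B ∧ _ by
        simpa only [map_B, mem_cj, mem_stabilizer_iff, mul_smul, inv_smul_eq_iff])))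
    · haveI := S.solvable_N h1
      exact Group.isSolvable_of_isSolvable_injective (inclusion_injective (h0.2 h))

variable {U : Subgroup Γ} (hU : Od U)
include hU

theorem od_Q {u : Γ} (hu : u ∈ U) (h : u ∈ S.Q) : u = 1 := orderOf_eq_one_iff.1 (Nat.eq_one_of_dvd_coprimes
  ((S.od_facts hU).2.2.1.coprime_two_right.pow_right 2) (orderOf_dvd_natCard _ hu) (orderOf_dvd_of_pow_eq_one (pow_eq_one_Q h)))

include S in
theorem comm_mem {x y : Γ} (hx : x ∈ normalizer (U : Set Γ)) (hy : y ∈ normalizer (U : Set Γ)) : ⁅x, y⁆ ∈ U := by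
  obtain ⟨-, -, -, -, n, hn, e⟩ := S.od_facts hU
  have h2 := card_mul_relIndex (le_normalizer (H := U))
  rw [e, mul_comm n, mul_right_inj' Nat.card_pos.ne'] at h2
  have : IsMulCommutative (normalizer (U : Set Γ) ⧸ U.subgroupOf (normalizer (U : Set Γ))) := by
    rcases hn with rfl | rfl
    · haveI := isCyclic_of_prime_card (p := 2) h2
      infer_instance
    · exact IsPGroup.isMulCommutative_of_card_eq_prime_sq (p := 2) h2
  exact Normal.quotient_commutative_iff_commutator_le.1 this (commutator_mem_commutator (mem_top ⟨x, hx⟩) (mem_top ⟨y, hy⟩))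

theorem N_comm {x y : Γ} (hx : x ∈ normalizer (U : Set Γ) ⊓ S.Q) (hy : y ∈ normalizer (U : Set Γ) ⊓ S.B) : y * x = x * y :=
  commutatorElement_eq_one_iff_mul_comm.1 (S.od_Q hU (S.comm_mem hU hy.1 hx.1)
    (mul_mem (S.conj_mem_Q hy.2 hx.2) (S.Q.inv_mem hx.2)))

theorem N_invol {x y : Γ} (hx : x ∈ normalizer (U : Set Γ) ⊓ S.Q) (hy : y ∈ normalizer (U : Set Γ) ⊓ S.Q) (h1 : x ≠ 1)
    (h2 : x ^ 2 = 1) (h3 : y ≠ 1) (h4 : y ^ 2 = 1) : x = y := by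
  have h5 := (S.od_facts hU).1
  obtain ⟨u, h0, -, e⟩ := id hU
  have hu : u ∈ U := e ▸ mem_centralizer_singleton_iff.2 rfl
  have : ∀ x ∈ normalizer (U : Set Γ) ⊓ S.Q, x ≠ 1 → x ^ 2 = 1 → x * u * x⁻¹ = u⁻¹ := fun x hx h1 h2 => by
    have h6 := conj_mem_of_mem_normalizer hx.1 hu
    refine eq_inv_of_mul_eq_one_left (by_contra fun h => h1 (S.od_Q hU (h5.mem (mul_mem h6 hu) h ?_) hx.2))
    rw [sq] at h2
    calc _ = x * x * u * x⁻¹ * u := by group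
      _ = u * (x * u * x⁻¹) * x := by rw [h2, inv_eq_of_mul_eq_one_right h2]; simp [mul_assoc, h2]
      _ = _ := by rw [h5.comm h6 hu]
  exact (inv_mul_eq_one.1 (S.od_Q hU (h5.mem hu h0 (conj_eq_conj_iff.1 ((this x hx h1 h2).trans (this y hy h3 h4).symm)))
    (mul_mem (S.Q.inv_mem hy.2) hx.2))).symm

theorem N_syl {x : Γ} (hx : x ∈ normalizer (U : Set Γ) ⊓ S.Q) (h1 : x ≠ 1) :
    IsSyl 2 (normalizer (U : Set Γ) ⊓ S.Q) (normalizer (U : Set Γ)) ∧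
      Nat.card (normalizer (U : Set Γ) ⊓ S.Q : Subgroup Γ) * Nat.card U = Nat.card (normalizer (U : Set Γ)) := by
  obtain ⟨P, h2, h3⟩ := exists_isSyl_ge (S.isPGroup_Q.to_inf_right (H := normalizer (U : Set Γ))) inf_le_left
  haveI := h2.pgroup.isNilpotent
  obtain rfl := le_antisymm h3 (le_inf h2.le (S.nil_le_Q h1 hx.2 (h3 hx)))
  refine ⟨h2, ?_⟩
  obtain ⟨-, -, h4, -, n, hn, e⟩ := S.od_facts hU
  obtain ⟨k, hk⟩ := h2.pgroup.exists_card_eq
  have h5 := card_mul_relIndex h2.le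
  have h6 := Nat.odd_iff.2 (Nat.two_dvd_ne_zero.1 h2.not_dvd)
  rw [e, hk] at h5 ⊢
  obtain ⟨j, rfl⟩ : ∃ j, n = 2 ^ j := hn.elim (⟨1, ·⟩) (⟨2, ·⟩)
  rw [Nat.dvd_antisymm ((h4.coprime_two_left.pow_left k).dvd_of_dvd_mul_right (Dvd.intro _ h5))
    ((h6.coprime_two_left.pow_left j).dvd_of_dvd_mul_right (Dvd.intro _ h5.symm))]

theorem N_cent {x : Γ} (hx : x ∈ normalizer (U : Set Γ) ⊓ S.Q) (h1 : x ≠ 1) :
    normalizer (U : Set Γ) ⊓ centralizer {x} = normalizer (U : Set Γ) ⊓ S.Q ∧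
      normalizer (U : Set Γ) ⊓ S.B = normalizer (U : Set Γ) ⊓ S.Q :=
  ⟨le_antisymm (fun _ hy => ⟨hy.1, mem_Q_of_comm hx.2 h1 (mem_centralizer_singleton_iff.1 hy.2)⟩)
    fun _ hy => ⟨hy.1, mem_centralizer_singleton_iff.2 (S.N_comm hU hx ⟨hy.1, S.Q_le_B hy.2⟩)⟩,
    le_antisymm (fun _ hy => ⟨hy.1, mem_Q_of_comm hx.2 h1 (S.N_comm hU hx hy)⟩) (inf_le_inf_left _ S.Q_le_B)⟩

theorem N_class {x : Γ} (hx : x ∈ normalizer (U : Set Γ) ⊓ S.Q) (h1 : x ≠ 1) :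
    Nat.card {y // y ∈ normalizer (U : Set Γ) ∧ IsConj x y} = Nat.card U := by
  have h2 := card_class_mul (normalizer (U : Set Γ)) x
  rw [(S.N_cent hU hx h1).1, ← (S.N_syl hU hx h1).2, mul_comm, mul_right_inj' Nat.card_pos.ne'] at h2
  refine (cnt_congr fun y => ⟨fun ⟨hy, e⟩ => ?_, fun ⟨h, hh, e⟩ =>
    e ▸ ⟨mul_mem (mul_mem hh hx.1) (inv_mem hh), isConj_conj ..⟩⟩).trans h2
  obtain ⟨k, rfl⟩ := isConj_iff.1 e
  obtain ⟨h, hh, h3⟩ := (S.N_syl hU hx h1).1.exists_cj_le (cj_zpowers k x ▸ IsPGroup.cj (S.isPGroup_Q.to_le (zpowers_le.2 hx.2)) k)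
    (zpowers_le.2 hy)
  replace h3 := h3 (conj_mem_cj (mem_zpowers _))
  refine ⟨h⁻¹, inv_mem hh, ?_⟩
  have h4 : IsConj x (h * (k * x * k⁻¹) * h⁻¹) := e.trans (isConj_conj ..)
  suffices h * (k * x * k⁻¹) * h⁻¹ = x by conv_lhs => rw [← this]
                                          group
  generalize h * (k * x * k⁻¹) * h⁻¹ = z at h3 h4
  have h5 : ∀ n, z ^ n = 1 ↔ x ^ n = 1 := fun n => by
    rw [← orderOf_dvd_iff_pow_eq_one, ← orderOf_dvd_iff_pow_eq_one, IsConj.orderOf_eq' h4]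
  by_cases h6 : x ^ 2 = 1
  · exact S.N_invol hU h3 hx (by simpa [h1] using (h5 1).not) ((h5 2).2 h6) h1 h6
  have h7 := S.N_invol hU (pow_mem h3 2) (pow_mem hx 2) ((h5 2).not.2 h6) (by rw [← pow_mul, pow_eq_one_Q h3.2]) h6
    (by rw [← pow_mul, pow_eq_one_Q hx.2])
  have h8 : Commute z x := S.N_comm hU hx ⟨h3.1, S.Q_le_B h3.2⟩
  by_contra h9
  have h10 := S.N_invol hU (mul_mem h3 hx) (pow_mem hx 2) (fun e => h6 (by
    rw [← (S.real_iff S.syl hx.2 h1).1 (eq_inv_of_mul_eq_one_left e ▸ h4), pow_orderOf_eq_one]))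
    (by rw [h8.mul_pow, h7, ← pow_add, pow_eq_one_Q hx.2]) h6 (by rw [← pow_mul, pow_eq_one_Q hx.2])
  exact h9 (by simpa [sq] using h10)

omit hU in
theorem isConj_z {x : Γ} (h1 : x ≠ 1) (h2 : x ^ 2 = 1) : IsConj (S.s 0 1) x := by
  obtain ⟨P, hP⟩ := (IsPGroup.of_card (p := 2) (n := 1) (G := zpowers x) (by simp [orderOf_eq_prime h2 h1])).exists_le_sylow
  obtain ⟨g, e⟩ := S.exists_syl P
  obtain ⟨a, rfl⟩ := (S.cnj g).mem_Z_of_sq (e ▸ hP (mem_zpowers x)) h2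
  obtain ⟨k, -, hk⟩ := S.exists_conj_Z (c := a) (by rintro rfl; simp at h1)
  rw [map_s, ← mul_one a, ← hk]
  exact (isConj_conj ..).trans (isConj_conj ..)

omit hU in
theorem isConj_four {x : Γ} (h1 : x ^ 2 ≠ 1) (h2 : x ^ 4 = 1) : IsConj (S.s 1 0) x ∨ IsConj (S.s 1 0) x⁻¹ := by
  obtain ⟨P, hP⟩ := (IsPGroup.of_card (p := 2) (n := 2) (G := zpowers x)
    (by simp [orderOf_eq_prime_pow (p := 2) (n := 1) h1 h2])).exists_le_sylow
  obtain ⟨g, e⟩ := S.exists_syl P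
  obtain ⟨a, b, rfl⟩ : x ∈ (S.cnj g).Q := e ▸ hP (mem_zpowers x)
  obtain ⟨t, rfl⟩ := S.θ_surj (a := a) (by rintro rfl; simp [s_sq] at h1)
  obtain ⟨b, rfl⟩ : ∃ c, b = t ^ 2 * S.θ t * c := ⟨b / _, (mul_div_cancel₀ _ (by simp)).symm⟩
  have h3 : ∀ b, IsConj (S.s 1 b) ((S.cnj g).s (S.θ t) (t ^ 2 * S.θ t * b)) := fun b => by
    simpa only [map_s, d_conj, mul_one, MulAut.conj_apply] using (isConj_conj (S.d t) (S.s 1 b)).trans (isConj_conj g _)
  let f := S.θ.toAddMonoidHom + AddMonoidHom.id F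
  have h4 : f.ker = AddSubgroup.zmultiples 1 := le_antisymm (fun u hu => by
    have := S.hθ u
    obtain rfl | rfl : u = 0 ∨ u = 1 := by simp [f] at hu; grind
    all_goals simp) (by simp [f, CharTwo.add_self_eq_zero])
  have h5 : f.range.index = 2 := by
    rw [AddSubgroup.index_range, h4, Nat.card_zmultiples, CharP.eq F (CharP.addOrderOf_one F) inferInstance]
  have h6 : ∀ c ∈ f.range, IsConj (S.s 1 0) (S.s 1 c) := by
    rintro _ ⟨u, rfl⟩
    exact isConj_iff.2 ⟨S.s u 0, by rw [mul_inv_eq_iff_eq_mul, s_mul, s_mul, s_inj]; simp [f]; grind⟩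
  have h7 : 1 ∉ f.range := fun h => by
    have := (S.real_iff S.syl (S.s_mem 1 0) (by simp [s_eq_one])).1 (by simpa [s_inv] using h6 1 h)
    simp [S.orderOf_s] at this
  by_cases h : b ∈ f.range
  · exact .inl ((h6 b h).trans (h3 b))
  · exact .inr ((h6 _ ((AddSubgroup.add_mem_iff_of_index_two h5).2 (iff_of_false h h7))).trans
      (by simpa [s_inv] using isConj_inv (h3 b)))

theorem exists_conj_N {x : Γ} (hx : x ∈ S.Q) (h1 : x ≠ 1)
    (h : x ^ 2 = 1 ∨ Nat.card (normalizer (U : Set Γ)) = 4 * Nat.card U) : ∃ v ∈ normalizer (U : Set Γ), IsConj x v := by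
  obtain ⟨-, -, -, -, n, hn, e⟩ := S.od_facts hU
  obtain ⟨⟨z, hz⟩, h2⟩ := exists_prime_orderOf_dvd_card' (G := normalizer (U : Set Γ)) 2
    (e ▸ Dvd.dvd.mul_right (by omega) _)
  rw [orderOf_mk] at h2
  have h3 : z ≠ 1 := by rintro rfl; simp at h2
  have h4 : z ^ 2 = 1 := h2 ▸ pow_orderOf_eq_one z
  by_cases h5 : x ^ 2 = 1
  · exact ⟨z, hz, (S.isConj_z h1 h5).symm.trans (S.isConj_z h3 h4)⟩
  obtain ⟨g, rfl⟩ := isConj_iff.1 (S.isConj_z h3 h4)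
  have h6 : _ ∈ normalizer (U : Set Γ) ⊓ (S.cnj g).Q := ⟨hz, by rw [map_Q]; exact conj_mem_cj (S.s_mem 0 1)⟩
  have h7 := ((S.cnj g).N_syl hU h6 h3).2
  rw [h.resolve_left h5, mul_left_inj' Nat.card_pos.ne'] at h7
  obtain ⟨v, hv, h8⟩ := SetLike.exists_of_lt (lt_of_le_of_ne (zpowers_le.2 h6) fun e => by
    rw [← e, Nat.card_zpowers, h2] at h7; omega)
  have h9 : v ^ 2 ≠ 1 := fun e => h8 ((S.cnj g).N_invol hU h6 hv h3 h4 (by rintro rfl; simp at h8) e ▸ mem_zpowers _)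
  rcases S.isConj_four h5 (pow_eq_one_Q hx) with a | a <;> rcases S.isConj_four h9 (pow_eq_one_Q hv.2) with b | b
  exacts [⟨_, hv.1, a.symm.trans b⟩, ⟨_, inv_mem hv.1, a.symm.trans b⟩,
    ⟨_, inv_mem hv.1, by simpa using isConj_inv (a.symm.trans b)⟩, ⟨_, hv.1, by simpa using isConj_inv (a.symm.trans b)⟩]

theorem count_N {x : Γ} (hx : x ∈ S.Q) (h1 : x ≠ 1) (h : ∃ v ∈ normalizer (U : Set Γ), IsConj x v) :
    Nat.card {y // y ∉ S.B ∧ ∃ g, x ∈ normalizer (cj g U : Set Γ) ∧ y ∈ normalizer (cj g U : Set Γ)} =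
      Nat.card (centralizer {x}) * (Nat.card U - 1) := by
  obtain ⟨v, hv, e⟩ := h
  obtain ⟨k, rfl⟩ := isConj_iff.1 e
  have h2 : _ ∈ normalizer (U : Set Γ) ⊓ (S.cnj k).Q := ⟨hv, by rw [map_Q]; exact conj_mem_cj hx⟩
  have h3 := ((S.cnj k).N_syl hU h2 (by simpa)).2
  have h4 := cnt_eq_mul_of_fiber (p := fun g => x ∈ normalizer (cj g U : Set Γ))
    (q := fun y => y ∈ normalizer (U : Set Γ) ∧ IsConj (k * x * k⁻¹) y) (fun g => g⁻¹ * x * g) (n := Nat.card (centralizer {x}))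
    (fun g hg => ⟨by rwa [← cj_normalizer, mem_cj] at hg, e.symm.trans (by simpa using isConj_conj g⁻¹ x)⟩) fun y hy => by
      obtain ⟨g, rfl⟩ := isConj_iff.1 (e.trans hy.2)
      rw [← card_conj_fiber' x g]
      exact cnt_eq_of_bij (·⁻¹) (fun _ h => by simpa using h.2) (fun _ _ _ _ e => inv_injective e)
        fun y h => ⟨y⁻¹, ⟨by rw [← cj_normalizer, mem_cj, inv_inv, h]; exact hy.1, by simpa⟩, inv_inv _⟩
  rw [(S.cnj k).N_class hU h2 (by simpa)] at h4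
  have h5 := cnt_mul_eq (p := fun y => y ∉ S.B ∧ ∃ g, x ∈ normalizer (cj g U : Set Γ) ∧ y ∈ normalizer (cj g U : Set Γ))
    (q := fun g => x ∈ normalizer (cj g U : Set Γ)) (fun y g => y ∈ normalizer (cj g U : Set Γ))
    (m := Nat.card (normalizer (U : Set Γ)))
    (n := Nat.card (normalizer (U : Set Γ) ⊓ (S.cnj k).Q : Subgroup Γ) * (Nat.card U - 1)) (by
      rintro y ⟨hy, g, a1, a2⟩
      refine (cnt_eq_of_bij (g * ·) (fun n hn => by rw [← cj_cj, cj_eq_of_mem_normalizer hn]; exact ⟨a1, a2⟩)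
        (fun _ _ _ _ => mul_left_cancel) fun g' h => ⟨g⁻¹ * g', ?_, by simp⟩).symm
      rw [mem_normalizer_iff_cj, ← cj_cj, cj_eq_iff_eq_cj_inv, inv_inv]
      exact (S.od_facts (hU.cj g')).1.eq (S.od_facts (hU.cj g)).1 (S.comm_mem (hU.cj _) h.2 h.1) (S.comm_mem (hU.cj _) a2 a1)
        fun e => hy (S.Q_le_B (mem_Q_of_comm hx h1 (commutatorElement_eq_one_iff_mul_comm.1 e))))
    fun g hg => by
      have a1 := cnt_split (fun y => y ∈ normalizer (cj g U : Set Γ)) (· ∈ S.B)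
      have a2 := (S.N_syl (hU.cj g) ⟨hg, hx⟩ h1).2
      rw [← (S.N_cent (hU.cj g) ⟨hg, hx⟩ h1).2, card_cj] at a2
      have a3 : Nat.card (normalizer (cj g U : Set Γ)) = Nat.card (normalizer (U : Set Γ)) := by rw [← cj_normalizer, card_cj]
      have a4 := Nat.eq_of_mul_eq_mul_right Nat.card_pos ((a2.trans a3).trans h3.symm)
      rw [cnt_congr (q := fun y => y ∈ normalizer (cj g U : Set Γ) ∧ y ∉ S.B)
        fun y => ⟨fun h => ⟨h.2, h.1.1⟩, fun h => ⟨⟨h.2, g, hg, h.1⟩, h.1⟩⟩, ← a4, Nat.mul_sub_one, a2]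
      exact Nat.eq_sub_of_add_eq' a1.symm
  rw [h4, ← h3] at h5
  exact Nat.eq_of_mul_eq_mul_right (m := _ * _) (Nat.mul_pos Nat.card_pos Nat.card_pos) (h5.trans (by ring))

omit hU

theorem card_cent_z {b : F} (h : b ≠ 0) : Nat.card (centralizer {S.s 0 b}) = Nat.card F ^ 2 := by
  rw [← S.card_Q, le_antisymm (b := S.Q) (fun y hy => mem_Q_of_comm (S.s_mem 0 b) (by simpa [s_eq_one])
    (mem_centralizer_singleton_iff.1 hy)) ?_]
  rintro _ ⟨a, c, rfl⟩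
  exact mem_centralizer_singleton_iff.2 (S.s_comm.2 (by simp))

theorem card_cent_s {a : F} (h : a ≠ 0) (b : F) : Nat.card (centralizer {S.s a b}) = 2 * Nat.card F := by
  rw [two_mul, ← Nat.card_sum]
  refine (Nat.card_congr (Equiv.ofBijective (Sum.elim (fun c => ⟨S.s 0 c, mem_centralizer_singleton_iff.2 (S.s_comm.2 (by simp))⟩)
    fun c => ⟨S.s a c, mem_centralizer_singleton_iff.2 (S.s_comm.2 rfl)⟩) ⟨?_, fun ⟨y, hy⟩ => ?_⟩)).symm
  · rintro (c | c) (c' | c') <;> simp [s_inj, h, h.symm]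
  obtain ⟨a', c, rfl⟩ := mem_Q_of_comm (S.s_mem a b) (by simp [s_eq_one, h]) (mem_centralizer_singleton_iff.1 hy)
  obtain ⟨u, rfl⟩ : ∃ u, a' = u * a := ⟨a' / a, by field_simp⟩
  have h1 := S.s_comm.1 (mem_centralizer_singleton_iff.1 hy)
  have h2 := S.θ_ne h
  have h3 : S.θ u = u := by rw [map_mul] at h1; grind
  have h4 := S.hθ u
  obtain rfl | rfl : u = 0 ∨ u = 1 := by grind
  exacts [⟨.inl c, by simp⟩, ⟨.inr c, by simp⟩]

open Classical in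
theorem count_sol_Q {x : Γ} (hx : x ∈ S.Q) (h1 : x ≠ 1) :
    Nat.card {y // Group.IsSolvable (closure {x, y} : Subgroup Γ)} =
      if x ^ 2 = 1 then Nat.card F ^ 2 * (4 * Nat.card F - 3) else Nat.card F ^ 2 * (Nat.card F + 3) := by
  obtain ⟨g₁, g₂, f1, f2, c1, c2, n1, n2, h2⟩ := S.exists_tori
  let X := fun (U : Subgroup Γ) y => y ∉ S.B ∧ ∃ g, x ∈ normalizer (cj g U : Set Γ) ∧ y ∈ normalizer (cj g U : Set Γ)
  have h3 : ∀ U U' : Subgroup Γ, Od U → Od U' → Nat.card U ≠ Nat.card U' → ∀ y, X U y → X U' y → False := by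
    rintro U U' h h' e y ⟨hy, g, a1, a2⟩ ⟨-, g', b1, b2⟩
    refine e (by rw [← card_cj g U, ← card_cj g' U', (S.od_facts (h.cj g)).1.eq (S.od_facts (h'.cj g')).1
      (S.comm_mem (h.cj _) a2 a1) (S.comm_mem (h'.cj _) b2 b1)
      fun e => hy (S.Q_le_B (mem_Q_of_comm hx h1 (commutatorElement_eq_one_iff_mul_comm.1 e)))])
  have h8 := S.eight_le
  have h4 : ∀ {g}, S.Fpf g → Nat.card S.K ≠ Nat.card (centralizer {g}) := fun h e => by
    have := S.coprime_sub_add.eq_one_of_dvd (S.card_K ▸ e ▸ h.card_dvd)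
    omega
  have hr : 2 ^ (S.m + 1) ≤ Nat.card F := S.card ▸ Nat.pow_le_pow_right two_pos (by omega)
  rw [cnt_congr (q := fun y => y ∈ S.B ∨ X S.K y ∨ X (centralizer {g₁}) y ∨ X (centralizer {g₂}) y) fun y => S.sol_iff.trans ⟨?_, ?_⟩,
    cnt_or fun y h h' => h'.elim (·.1 h) (·.elim (·.1 h) (·.1 h)), cnt_or fun y h h' => h'.elim (h3 _ _ S.od_K f1.od (h4 f1) y h) (h3 _ _ S.od_K f2.od (h4 f2) y h),
    cnt_or (h3 _ _ f1.od f2.od (by have := Nat.two_pow_pos (S.m + 1); omega)),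
    S.count_N f1.od hx h1 (S.exists_conj_N f1.od hx h1 (.inr n1)), S.count_N f2.od hx h1 (S.exists_conj_N f2.od hx h1 (.inr n2)),
    c1, c2, show Nat.card {y // y ∈ S.B} = _ from S.card_B]
  · split_ifs with h
    · rw [S.count_N S.od_K hx h1 (S.exists_conj_N S.od_K hx h1 (.inl h)), card_K]
      obtain ⟨b, rfl⟩ := S.mem_Z_of_sq hx h
      rw [S.card_cent_z (by simpa [s_eq_one] using h1), ← mul_add, ← mul_add, ← mul_add]
      generalize 2 ^ (S.m + 1) = r at hr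
      congr 1; omega
    · have a0 : ∀ y, ¬ X S.K y := fun y ⟨_, g, e, _⟩ => by
        have a1 := (S.N_syl (S.od_K.cj g) ⟨e, hx⟩ h1).2
        rw [← cj_normalizer, card_cj, card_cj, card_NK, card_K, mul_left_inj' (by omega)] at a1
        exact h (orderOf_dvd_iff_pow_eq_one.1 (a1 ▸ orderOf_dvd_natCard _ ⟨by rwa [cj_normalizer], hx⟩))
      obtain ⟨a, b, rfl⟩ := hx
      rw [cnt_eq_zero a0, S.card_cent_s (by rintro rfl; simp [s_sq] at h), ← mul_add]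
      simp only [Nat.add_sub_cancel]
      zify [hr, show 1 ≤ Nat.card F by omega]
      ring
  · rintro (⟨p, h, h'⟩ | ⟨U, h, a1, a2⟩)
    · exact .inl (by rwa [eq_oo_of_Q hx h1 h] at h')
    refine or_iff_not_imp_left.2 fun hy => ?_
    rcases S.od_cases h with ⟨g, rfl⟩ | ⟨g, f, rfl⟩
    · exact .inl ⟨hy, g, by rwa [map_K] at a1, by rwa [map_K] at a2⟩
    refine .inr ((h2 g f).imp (fun e => ?_) fun e => ?_)
    · obtain ⟨k, e⟩ := (f1.cl_iff f).1 e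
      exact ⟨hy, k, e ▸ a1, e ▸ a2⟩
    · obtain ⟨k, e⟩ := (f2.cl_iff f).1 e
      exact ⟨hy, k, e ▸ a1, e ▸ a2⟩
  · rintro (h | ⟨-, g, h⟩ | ⟨-, g, h⟩ | ⟨-, g, h⟩)
    exacts [.inl ⟨_, S.Q_le_B hx, h⟩, .inr ⟨_, S.od_K.cj g, h⟩, .inr ⟨_, f1.od.cj g, h⟩, .inr ⟨_, f2.od.cj g, h⟩]

theorem count_sol_K {x : Γ} (hx : x ∈ S.K) (h1 : x ≠ 1) :
    Nat.card {y // Group.IsSolvable (closure {x, y} : Subgroup Γ)} = 2 * Nat.card F ^ 2 * (Nat.card F - 1) := by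
  have h2 := cnt_split (· ∈ stabilizer Γ (S.pt 0 0)) (· ∈ S.B)
  rw [cnt_congr (p := fun y => y ∈ stabilizer Γ (S.pt 0 0) ∧ y ∈ S.B) (q := (· ∈ S.K))
    fun y => (mem_K.trans and_comm).symm] at h2
  have h3 : Nat.card {y // y * S.w ∈ S.K} = Nat.card S.K :=
    cnt_eq_of_bij (· * S.w) (fun _ => id) (fun _ _ _ _ => mul_right_cancel) fun y hy => ⟨y * S.w⁻¹, by simpa, by simp⟩
  have h4 : Nat.card (stabilizer Γ (S.pt 0 0)) = Nat.card S.B := by
    rw [← S.w_oo, stabilizer_smul_eq_stabilizer_map_conj]; exact card_cj ..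
  have h5 : ∀ y, y * S.w ∈ S.K → y • S.oo = S.pt 0 0 ∧ y • S.pt 0 0 = S.oo := fun y h => by
    simpa [mul_smul, and_comm] using mem_K.1 h
  rw [cnt_congr (q := fun y => y ∈ S.B ∨ (y ∈ stabilizer Γ (S.pt 0 0) ∧ y ∉ S.B) ∨ y * S.w ∈ S.K) fun y => S.sol_iff.trans ⟨?_, ?_⟩,
    cnt_or fun y h h' => h'.elim (·.2 h) fun e => S.pt_ne _ _ ((h5 y e).1.symm.trans h),
    cnt_or fun y h e => S.pt_ne _ _ (h.1.symm.trans (h5 y e).2), h3, add_comm _ (Nat.card S.K), ← h2, mul_assoc, ← S.card_B, two_mul]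
  · exact congrArg _ h4
  · rintro (⟨p, h, h'⟩ | ⟨U, h, a1, a2⟩)
    · by_cases e : p = S.oo
      · exact .inl (by rwa [e] at h')
      obtain ⟨a, b, rfl⟩ := S.exists_pt e
      obtain ⟨t, rfl⟩ := hx
      obtain ⟨rfl, rfl⟩ := S.d_fix (S.d_eq_one.not.1 h1) h
      exact or_iff_not_imp_left.2 fun e => .inl ⟨h', e⟩
    obtain rfl := S.cc_K.eq (S.od_facts h).1 hx
      (S.mem_of_odd h a1 (S.odd_sub.of_dvd_nat (orderOf_dvd_of_pow_eq_one (pow_eq_one_K hx)))) h1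
    exact (S.mem_normalizer_K.1 a2).imp (S.K_le_B ·) .inr
  · rintro (h | h | h)
    exacts [.inl ⟨_, S.K_le_B hx, h⟩, .inl ⟨_, (mem_K.1 hx).2, h.1⟩,
      .inr ⟨_, S.od_K, le_normalizer hx, S.mem_normalizer_K.2 (.inr h)⟩]

theorem count_sol_Fpf {x : Γ} (h : S.Fpf x) :
    Nat.card {y // Group.IsSolvable (closure {x, y} : Subgroup Γ)} = 4 * Nat.card (centralizer {x}) := by
  rw [← h.card_N]
  have h0 := (mem_centralizer_singleton_iff (g := x)).2 rfl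
  refine cnt_congr fun y => S.sol_iff.trans ⟨?_, fun e => .inr ⟨_, h.od, le_normalizer h0, e⟩⟩
  rintro (⟨p, e, -⟩ | ⟨U, h1, a1, a2⟩)
  · exact absurd e (h p)
  rwa [(S.od_facts h1).1 x (S.mem_of_odd h1 a1 ((S.od_facts h.od).2.2.1.of_dvd_nat (orderOf_dvd_natCard _ h0))) h.ne_one]

theorem fpf_of_dvd {x : Γ} (h1 : x ≠ 1) (h : orderOf x ∣ Nat.card F ^ 2 + 1) : S.Fpf x := by
  rcases S.tri' h1 with ⟨g, e⟩ | ⟨g, e⟩ | e
  · exact absurd (orderOf_eq_one_iff.1 (Nat.eq_one_of_dvd_coprimes (S.odd_add.coprime_two_right.pow_right 2) h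
      (orderOf_dvd_of_pow_eq_one (pow_eq_one_Q e)))) h1
  · exact absurd (orderOf_eq_one_iff.1 (Nat.eq_one_of_dvd_coprimes S.coprime_sub_add
      (orderOf_dvd_of_pow_eq_one (pow_eq_one_K e)) h)) h1
  · exact e

theorem count_sol (x : Γ) :
    (orderOf x = 2 → Nat.card {y // Group.IsSolvable (closure {x, y} : Subgroup Γ)} = Nat.card F ^ 2 * (4 * Nat.card F - 3)) ∧
    (orderOf x = 4 → Nat.card {y // Group.IsSolvable (closure {x, y} : Subgroup Γ)} = Nat.card F ^ 2 * (Nat.card F + 3)) ∧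
    (x ≠ 1 → orderOf x ∣ Nat.card F - 1 →
      Nat.card {y // Group.IsSolvable (closure {x, y} : Subgroup Γ)} = 2 * Nat.card F ^ 2 * (Nat.card F - 1)) ∧
    (x ≠ 1 → orderOf x ∣ Nat.card F + 2 ^ (S.m + 1) + 1 →
      Nat.card {y // Group.IsSolvable (closure {x, y} : Subgroup Γ)} = 4 * (Nat.card F + 2 ^ (S.m + 1) + 1)) ∧
    (x ≠ 1 → orderOf x ∣ Nat.card F - 2 ^ (S.m + 1) + 1 →
      Nat.card {y // Group.IsSolvable (closure {x, y} : Subgroup Γ)} = 4 * (Nat.card F - 2 ^ (S.m + 1) + 1)) := by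
  have h0 : ∀ n, orderOf x = 2 ^ n → ∃ g, x ∈ (S.cnj g).Q := fun n h => by
    obtain ⟨P, hP⟩ := (IsPGroup.of_card (G := zpowers x) (by rw [Nat.card_zpowers, h])).exists_le_sylow
    obtain ⟨g, e⟩ := S.exists_syl P
    exact ⟨g, e ▸ hP (mem_zpowers x)⟩
  have h2 := orderOf_dvd_natCard _ ((mem_centralizer_singleton_iff (g := x)).2 rfl)
  refine ⟨fun h => ?_, fun h => ?_, fun h1 h => ?_, fun h1 h => ?_, fun h1 h => ?_⟩
  · obtain ⟨g, e⟩ := h0 1 h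
    rw [count_sol_Q _ e (by rintro rfl; simp at h), if_pos (h ▸ pow_orderOf_eq_one x)]
  · obtain ⟨g, e⟩ := h0 2 h
    rw [count_sol_Q _ e (by rintro rfl; simp at h), if_neg (pow_ne_one_of_lt_orderOf (by simp) (by omega))]
  · rcases S.tri' h1 with ⟨g, e⟩ | ⟨g, e⟩ | e
    · exact absurd (orderOf_eq_one_iff.1 (Nat.eq_one_of_dvd_coprimes (S.odd_sub.coprime_two_right.pow_right 2) h
        (orderOf_dvd_of_pow_eq_one (pow_eq_one_Q e)))) h1
    · exact count_sol_K _ e h1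
    · exact absurd (orderOf_eq_one_iff.1 (Nat.eq_one_of_dvd_coprimes S.coprime_sub_add h (h2.trans e.card_dvd))) h1
  · have f := S.fpf_of_dvd h1 (h.trans (Dvd.intro _ S.tori_mul))
    rw [S.count_sol_Fpf f, f.card_C.resolve_right fun e =>
      h1 (orderOf_eq_one_iff.1 (Nat.eq_one_of_dvd_coprimes S.coprime_tori h (e ▸ h2)))]
  · have f := S.fpf_of_dvd h1 (h.trans (Dvd.intro_left _ S.tori_mul))
    rw [S.count_sol_Fpf f, f.card_C.resolve_left fun e =>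
      h1 (orderOf_eq_one_iff.1 (Nat.eq_one_of_dvd_coprimes S.coprime_tori (e ▸ h2) h))]

end SzS
end Cfsg.Agent.Suz
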