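import Cfsg.Agent.Lib.Sz.Sub

set_option autoImplicit false
set_option linter.unusedSectionVars false
set_option linter.style.haveILetI false

/-! Applications of the subgroup structure of the Suzuki groups. -/

namespace Cfsg.Agent.Suz

open Matrix MulAction Subgroup Transfer

theorem mem_subfield_iff {F : Type*} [Field F] [Finite F] (L : Subfield F) {x : F} : x ∈ L ↔ x ^ Nat.card L = x := by
  classical
  haveI := Fintype.ofFinite F
  haveI := Fintype.ofFinite L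
  rw [Nat.card_eq_fintype_card]
  refine ⟨fun h => congrArg Subtype.val (FiniteField.pow_card (⟨x, h⟩ : L)), fun h => ?_⟩
  have h1 := FiniteField.X_pow_card_sub_X_ne_zero F (Fintype.one_lt_card (α := L))
  have h2 := Polynomial.card_roots' (Polynomial.X ^ Fintype.card L - Polynomial.X : Polynomial F)
  rw [FiniteField.X_pow_card_sub_X_natDegree_eq F (Fintype.one_lt_card (α := L))] at h2
  have h3 := Finset.eq_of_subset_of_card_le (s := (L : Set F).toFinset)
    (t := (Polynomial.X ^ Fintype.card L - Polynomial.X : Polynomial F).roots.toFinset) (fun y hy => by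
      simpa [h1, sub_eq_zero] using congrArg Subtype.val (FiniteField.pow_card (⟨y, by simpa using hy⟩ : L)))
    ((Multiset.toFinset_card_le _).trans (by simpa using h2))
  simpa using h3.ge (show x ∈ _ by simpa [h1, sub_eq_zero])

theorem subfield_eq {F : Type*} [Field F] [Finite F] {L L' : Subfield F} (h : Nat.card L = Nat.card L') : L = L' :=
  SetLike.ext fun x => by rw [mem_subfield_iff, mem_subfield_iff, h]

theorem exists_type0 (G : Type*) [Group G] [Finite G] : ∃ (H : Type) (_ : Group H) (_ : Fintype H), Nonempty (H ≃* G) :=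
  haveI : Finite (Shrink.{0} G) := Finite.of_equiv _ (equivShrink.{0} G)
  ⟨Shrink.{0} G, inferInstance, Fintype.ofFinite _, ⟨Shrink.mulEquiv⟩⟩

theorem mem_normalizer_zpowers {G : Type*} [Group G] {x g : G} (h : x * g = g * x) : x ∈ normalizer (zpowers g : Set G) := by
  rw [mem_normalizer_iff_cj, cj_zpowers, h, mul_inv_cancel_right]

namespace SzS
variable {F : Type*} [Field F] [Finite F] [CharP F 2] {Γ : Type*} [Group Γ] [Finite Γ] (S : SzS F Γ)

include S in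
theorem solvable_N {U : Subgroup Γ} (h : Od U) : Group.IsSolvable (normalizer (U : Set Γ)) := by
  obtain ⟨h1, -, -, -, n, hn, e⟩ := S.od_facts h
  haveI : Group.IsSolvable U := Group.isSolvable_of_comm fun a b => Subtype.ext (h1.comm a.2 b.2)
  have h2 := card_mul_relIndex (le_normalizer (H := U))
  rw [e, mul_comm n, mul_right_inj' Nat.card_pos.ne'] at h2
  have : IsPGroup 2 (normalizer (U : Set Γ) ⧸ U.subgroupOf (normalizer (U : Set Γ))) := by
    rcases hn with rfl | rfl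
    exacts [.of_card (n := 1) h2, .of_card (n := 2) h2]
  haveI := this.isNilpotent
  exact Group.isSolvable_of_ker_le_range (inclusion le_normalizer) (QuotientGroup.mk' (U.subgroupOf (normalizer (U : Set Γ))))
    (by simp [inclusion_range])

theorem exists_sub {L : Type*} [Field L] [Finite L] [CharP L 2] {Δ : Type*} [Group Δ] [Finite Δ] (T : SzS L Δ)
    (h : 2 * T.m + 1 ∣ 2 * S.m + 1) : ∃ L' : Subfield F, Nat.card L' = Nat.card L ∧ ∀ x, Nonempty ((S.cnj x).sub L' ≃* Δ) := by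
  letI := ZMod.algebra F 2
  letI := ZMod.algebra L 2
  obtain ⟨f⟩ := FiniteField.nonempty_algHom_of_finrank_dvd (F := ZMod 2) (K := L) (L := F) (by
    convert h <;> refine Nat.pow_right_injective le_rfl ?_ <;> beta_reduce
    · rw [← T.card, Module.natCard_eq_pow_finrank (K := ZMod 2) (V := L), Nat.card_zmod]
    · rw [← S.card, Module.natCard_eq_pow_finrank (K := ZMod 2) (V := F), Nat.card_zmod])
  exact ⟨f.toRingHom.fieldRange, (Nat.card_congr (Equiv.ofInjective _ f.injective)).symm,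
    fun x => ((S.cnj x).exists_equiv_sub T _ h).1⟩

theorem proper {M : Subgroup Γ} (hM : M ≠ ⊤) : (∃ P : Sylow 2 Γ, M ≤ normalizer (P.1 : Set Γ)) ∨
    (∃ U : Subgroup Γ, IsCyclic U ∧ Nat.card U ∈
      ({Nat.card F - 1, Nat.card F + 2 ^ (S.m + 1) + 1, Nat.card F - 2 ^ (S.m + 1) + 1} : Set ℕ) ∧ M ≤ normalizer (U : Set Γ)) ∨
    ∃ (K : Type) (_ : Field K) (_ : Fintype K) (k : ℕ), 1 ≤ k ∧ k < S.m ∧ Fintype.card K = 2 ^ (2 * k + 1) ∧
      2 * k + 1 ∣ 2 * S.m + 1 ∧ ∃ N : Subgroup Γ, Nonempty (N ≃* Cfsg.Sz K k) ∧ M ≤ N := by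
  rcases S.classify M with ⟨x, h⟩ | ⟨U, h, h'⟩ | ⟨x, L, h, rfl⟩
  · exact .inl ⟨(S.cnj x).syl, h.trans (normalizer_Q _).ge⟩
  · exact .inr (.inl ⟨U, (S.od_facts h).2.1, (S.od_facts h).2.2.2.1, h'⟩)
  obtain ⟨k, h1, h2, h3⟩ := S.card_subfield L h
  haveI := Fintype.ofFinite (GaloisField 2 (2 * k + 1))
  have h4 := Nat.card_eq_fintype_card.symm.trans (GaloisField.card 2 (2 * k + 1) (by simp))
  obtain ⟨L', h5, h6⟩ := S.exists_sub (szA h1 h4) h2
  obtain rfl := subfield_eq (h3.trans (h5.trans (GaloisField.card 2 _ (by simp))).symm)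
  refine .inr (.inr ⟨_, _, _, k, h1, lt_of_le_of_ne (by have := Nat.le_of_dvd (by simp) h2; omega) fun e => hM ?_, h4, h2, _, h6 x, le_rfl⟩)
  rw [← card_eq_iff_eq_top, (sub_facts _ L h).1, S.card_eq, S.card, h3, e]

theorem sub_unique {L : Type*} [Field L] [Finite L] [CharP L 2] {Δ : Type*} [Group Δ] [Finite Δ] (T : SzS L Δ)
    {M : Subgroup Γ} (e : M ≃* Δ) : ∃ x, ∃ L' : Subfield F, Nat.card L' = Nat.card L ∧ M = cj x (S.sub L') := by
  haveI := (T.map e.symm).simple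
  haveI : Group.IsPerfect M := ⟨(T.map e.symm).perfect⟩
  rcases S.classify M with ⟨x, h⟩ | ⟨U, h, h'⟩ | ⟨x, L', h, rfl⟩
  · haveI := (S.cnj x).solvable_B
    exact absurd (Group.isSolvable_of_isSolvable_injective (inclusion_injective h)) (Group.IsPerfect.not_isSolvable M)
  · haveI := S.solvable_N h
    exact absurd (Group.isSolvable_of_isSolvable_injective (inclusion_injective h')) (Group.IsPerfect.not_isSolvable M)
  refine ⟨x, L', ?_, S.cnj_sub ..⟩
  have h1 := (T.map e.symm).card_eq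
  rw [(sub_facts _ L' h).1] at h1
  have h2 : StrictMonoOn (fun z : ℕ => z ^ 2 * (z - 1) * (z ^ 2 + 1)) (Set.Ici 2) := fun a ha b hb h => by
    have : 2 ≤ a := ha
    have : 0 < a - 1 := by omega
    have : a - 1 < b - 1 := by omega
    beta_reduce; gcongr
  exact h2.injOn h.le (le_trans (by simp) T.eight_le) h1

theorem sub_conj {L : Type*} [Field L] [Finite L] [CharP L 2] {Δ : Type*} [Group Δ] [Finite Δ] (T : SzS L Δ)
    (h : 2 * T.m + 1 ∣ 2 * S.m + 1) : (∃ M : Subgroup Γ, Nonempty (M ≃* Δ)) ∧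
      ∀ M₁ M₂ : Subgroup Γ, Nonempty (M₁ ≃* Δ) → Nonempty (M₂ ≃* Δ) → ∃ g, M₂ = cj g M₁ := by
  refine ⟨let ⟨_, _, h⟩ := S.exists_sub T h; ⟨_, h 1⟩, fun M₁ M₂ ⟨e₁⟩ ⟨e₂⟩ => ?_⟩
  obtain ⟨x, L₁, h1, rfl⟩ := S.sub_unique T e₁
  obtain ⟨y, L₂, h2, rfl⟩ := S.sub_unique T e₂
  exact ⟨y * x⁻¹, by rw [cj_cj, inv_mul_cancel_right, subfield_eq (h1.trans h2.symm)]⟩

include S in
theorem no_nil_cover : ¬ ∃ 𝓐 : Finset (Subgroup Γ), ((∀ A ∈ 𝓐, A ≠ ⊤) ∧ (∀ g, ∃ A ∈ 𝓐, g ∈ A)) ∧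
    (∀ 𝓑 : Finset (Subgroup Γ), (∀ A ∈ 𝓑, A ≠ ⊤) ∧ (∀ g, ∃ A ∈ 𝓑, g ∈ A) → 𝓐.card ≤ 𝓑.card) ∧
    ∀ A ∈ 𝓐, Group.IsNilpotent A := by
  classical
  rintro ⟨𝓐, ⟨h1, h2⟩, h3, h4⟩
  obtain ⟨t, ht⟩ := S.exists_d_ne
  obtain ⟨A, hA, a⟩ := h2 (S.d t)
  obtain ⟨A', hA', a'⟩ := h2 (S.s 0 1)
  haveI := h4 A hA
  haveI := h4 A' hA'
  have h5 := S.cc_K.le_of_nilpotent (S.d_mem t) ht a
  have h6 := S.nil_le_Q S.s_ne (S.s_mem ..) a'
  have h7 : A' ≠ A := fun e => not_Q_K (cl_self (S.s_mem 0 1) S.s_ne) (cl_self (h5 (e ▸ a')) S.s_ne)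
  have := h3 (insert S.B ((𝓐.erase A).erase A')) ⟨fun C hC => ?_, fun g => ?_⟩
  · have h8 := Finset.card_insert_le S.B ((𝓐.erase A).erase A')
    have h9 := Finset.card_erase_add_one (Finset.mem_erase.2 ⟨h7, hA'⟩)
    have h10 := Finset.card_erase_add_one hA
    omega
  · rcases Finset.mem_insert.1 hC with rfl | h
    exacts [S.coatom_B.1, h1 C (Finset.mem_of_mem_erase (Finset.mem_of_mem_erase h))]
  · obtain ⟨C, hC, h⟩ := h2 g
    by_cases e : C = A
    · exact ⟨_, Finset.mem_insert_self .., S.K_le_B (h5 (e ▸ h))⟩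
    by_cases e' : C = A'
    · exact ⟨_, Finset.mem_insert_self .., S.Q_le_B (h6 (e' ▸ h))⟩
    exact ⟨C, by simp [e, e', hC], h⟩

include S in
theorem fixity {X : Type*} [Finite X] [MulAction Γ X] [FaithfulSMul Γ X] [IsPretransitive Γ X]
    (hfix : ∀ g : Γ, g ≠ 1 → Nat.card (fixedBy X g) ≤ 2) (hex : ∃ g : Γ, g ≠ 1 ∧ Nat.card (fixedBy X g) = 2) :
    (Nat.card X = Nat.card F ^ 2 + 1 ∧ IsMultiplyPretransitive Γ X 2) ∨
    (Nat.card X = Nat.card F ^ 2 * (Nat.card F ^ 2 + 1) ∧ ∀ α : X, Nat.card (stabilizer Γ α) = Nat.card F - 1) := by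
  have h0 : ∀ (α : X) (U N : Subgroup Γ), U ≠ ⊥ → U ≤ stabilizer Γ α → N ≤ normalizer (U : Set Γ) →
      (stabilizer Γ α).relIndex N ≤ 2 := fun α U N h1 h2 h3 => by
    obtain ⟨⟨g, hg⟩, h⟩ := ne_bot_iff_exists_ne_one.1 h1
    refine le_trans ?_ (hfix g (by simpa using h))
    rw [show (stabilizer Γ α).relIndex N = (stabilizer N α).index from rfl, index_stabilizer]
    refine Set.ncard_le_ncard ?_ (Set.toFinite _)
    rintro _ ⟨n, rfl⟩
    simpa [mul_smul, inv_smul_eq_iff, Subgroup.smul_def] using h2 (inv_conj_mem_of_mem_normalizer (h3 n.2) hg)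
  have h1 : ∀ {N H : Subgroup Γ}, H.relIndex N ≤ 2 → ∀ x ∈ N, x ^ 2 ∈ H := fun {N H} h x hx => by
    have := relIndex_pos H N
    obtain h | h : H.relIndex N = 1 ∨ H.relIndex N = 2 := by omega
    exacts [pow_mem (relIndex_eq_one.1 h hx) 2, sq_mem_of_index_two h ⟨x, hx⟩]
  obtain ⟨g, hg, h2⟩ := hex
  obtain ⟨⟨α, hα⟩⟩ := (Nat.card_pos_iff.1 (h2 ▸ two_pos)).1
  have h3 := index_stabilizer_of_transitive Γ α
  rcases (Nat.card (stabilizer Γ α)).even_or_odd with h | h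
  · obtain ⟨⟨z, hz⟩, h4⟩ := exists_prime_orderOf_dvd_card' 2 h.two_dvd
    rw [orderOf_mk] at h4
    obtain ⟨P, hP⟩ := (IsPGroup.of_card (p := 2) (n := 1) (G := zpowers z) (by simp [h4])).exists_le_sylow
    obtain ⟨x, e⟩ := S.exists_syl P
    obtain ⟨a, rfl⟩ := (S.cnj x).mem_Z_of_sq (e ▸ hP (mem_zpowers z)) (h4 ▸ pow_orderOf_eq_one z)
    generalize S.cnj x = T at *
    have h5 := h1 (h0 α _ T.Q (by simpa using fun e => by simp [e] at h4) (zpowers_le.2 hz)
      (by rintro _ ⟨b, c, rfl⟩; exact mem_normalizer_zpowers (T.s_comm.2 (by simp))))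
    have h6 : T.Z ≤ stabilizer Γ α := by
      rintro _ ⟨b, rfl⟩
      by_cases hb : b = 0
      · simp [hb]
      obtain ⟨t, ht⟩ := T.δ_surj hb
      simpa [s_sq, hθ, ht] using h5 _ (T.s_mem (T.θ t) 0)
    have h7 := h1 (h0 α _ T.B (fun e => T.s_ne (mem_bot.1 (e ▸ T.s_mem_Z 1))) h6 T.normalizer_Z.ge)
    have h8 : ∀ x ∈ T.Q, cj x T.K ≤ stabilizer Γ α := by
      rintro x hx _ ⟨_, ⟨t, rfl⟩, rfl⟩
      obtain ⟨u, rfl⟩ := T.exists_sq t
      simpa [dH, d_pow] using h7 _ (mul_mem (mul_mem (T.Q_le_B hx) (T.d_oo u)) (inv_mem (T.Q_le_B hx)))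
    have h9 : T.Q ≤ stabilizer Γ α := fun x hx => by
      obtain ⟨t, ht⟩ := T.exists_d_ne
      obtain ⟨v, hv, e⟩ := T.exists_conj_coset (M := ⊤) (T.d_eq_one.not.1 ht) trivial ⟨trivial, hx⟩
      exact (mul_mem_cancel_right (h8 1 (one_mem _) (by simpa using T.d_mem t))).1 (e ▸ h8 v hv.2 (conj_mem_cj (T.d_mem t)))
    have h10 := (T.coatom_B.le_iff_eq fun e => T.s_ne (eq_of_smul_eq_smul (α := X) fun y => by
      obtain ⟨k, rfl⟩ := exists_smul_eq Γ α y
      simpa [mul_smul, inv_smul_eq_iff] using e.ge (mem_top (k⁻¹ * T.s 0 1 * k)))).1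
      (T.B_le h9 (by simpa using h8 1 (one_mem _)))
    refine .inl ⟨by rw [← h3, h10, index_B], is_two_pretransitive_iff.2 fun {a b c d} h h' => ?_⟩
    obtain ⟨a, rfl⟩ := exists_smul_eq Γ α a
    obtain ⟨b, rfl⟩ := exists_smul_eq Γ α b
    obtain ⟨c, rfl⟩ := exists_smul_eq Γ α c
    obtain ⟨d, rfl⟩ := exists_smul_eq Γ α d
    have : ∀ a b : Γ, a • α = b • α ↔ a • T.oo = b • T.oo := fun a b => by
      rw [← inv_smul_eq_iff, ← inv_smul_eq_iff (g := b), ← mul_smul, ← mul_smul, ← mem_stabilizer_iff, h10]; rfl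
    simpa only [← mul_smul, this] using is_two_pretransitive_iff.1 T.two_trans (mt (this a b).2 h) (mt (this c d).2 h')
  have h4 : Od (centralizer {g}) := ⟨g, hg, h.of_dvd_nat (orderOf_dvd_natCard _ hα), rfl⟩
  obtain ⟨h5, -, h6, -⟩ := S.od_facts h4
  have h7 : stabilizer Γ α = centralizer {g} := le_antisymm (S.le_od h hα hg) fun x hx =>
    zpowers_le.2 (h1 (h0 α _ _ (by simpa) (zpowers_le.2 hα) fun _ h => mem_normalizer_zpowers (mem_centralizer_singleton_iff.1 h)) x hx)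
      (mem_zpowers_pow_iff.2 (h6.of_dvd_nat (orderOf_dvd_natCard _ hx)).coprime_two_left)
  have h8 := h0 α _ _ (fun e => hg (mem_bot.1 (e ▸ mem_centralizer_singleton_iff.2 rfl))) h7.ge le_rfl
  have h9 : Nat.card (stabilizer Γ α) = Nat.card F - 1 := by
    rw [h7] at h8 ⊢
    rcases S.od_cases h4 with ⟨x, e⟩ | ⟨g', h', e⟩ <;> rw [e] at h8 ⊢
    · exact card_K _
    have := card_mul_relIndex (le_normalizer (H := centralizer {g'}))
    rw [h'.card_N, mul_comm 4, mul_right_inj' Nat.card_pos.ne'] at this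
    omega
  have h10 : ∀ β : X, Nat.card (stabilizer Γ β) * Nat.card X = Nat.card Γ := fun β => by
    rw [← index_stabilizer_of_transitive Γ β, card_mul_index]
  refine .inr ⟨Nat.eq_of_mul_eq_mul_left (h9 ▸ Nat.card_pos) (by rw [← h9, h10, S.card_eq, h9]; ring), fun β =>
    Nat.eq_of_mul_eq_mul_right (h3 ▸ Nat.pos_of_ne_zero index_ne_zero_of_finite) (by rw [h10, ← h9, h10])⟩

theorem fix_eq_zero {g : Γ} (h1 : g ≠ 1) (h2 : Odd (orderOf g)) {v : Fin 4 → F} (h : S.ρ g v = v) : v = 0 := by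
  rcases S.tri h1 with h3 | ⟨x, ⟨t, e⟩, h3⟩ | h3
  · obtain ⟨x, h3, -⟩ := h3
    have := pow_eq_one_Q h3
    rw [conj_pow, conj_eq_one_iff] at this
    exact absurd (orderOf_eq_one_iff.1 (Nat.eq_one_of_dvd_coprimes (h2.coprime_two_right.pow_right 2) dvd_rfl
      (orderOf_dvd_of_pow_eq_one this))) h1
  · have h4 : S.ρ (S.d t) (S.ρ x v) = S.ρ x v := by
      rw [show S.d t = _ from e, ← Module.End.mul_apply, ← map_mul, inv_mul_cancel_right, map_mul, Module.End.mul_apply, h]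
    have h5 : (t : F) ≠ 1 := by rw [← e] at h3; simpa [dH, d_eq_one] using h3
    have h6 := mul_θ_ne S.hθ h5
    have h7 : S.ρ x v = 0 := by
      generalize S.ρ x v = u at h4
      have := fun i => congrFun h4 i
      simp [ρ, ι_d, dM, mulVec_diagonal, Fin.forall_fin_succ, mul_eq_right₀, h5] at this
      have h8 := S.θ_ne t.ne_zero
      have h9 := t.ne_zero
      ext i; fin_cases i <;> simp <;> grind
    rw [← Module.End.one_apply (R := F) v, ← map_one S.ρ, ← inv_mul_cancel x, map_mul, Module.End.mul_apply, h7, map_zero]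
  · rcases h3.irr (LinearMap.ker (S.ρ g - 1)) (fun u hu => by simp_all [sub_eq_zero]) with e | e
    · exact e.le (by simpa [sub_eq_zero] : v ∈ LinearMap.ker (S.ρ g - 1))
    · exact absurd (ρ_inj ((sub_eq_zero.1 (LinearMap.ker_eq_top.1 e)).trans (map_one _).symm)) h1

include S in
theorem no_order {s : ℕ} (hs : s.Prime) (h2 : s ≠ 2) (g : Γ) : orderOf g ≠ 2 * s := fun e => by
  have h1 : orderOf (g ^ s) = 2 := by rw [orderOf_pow_of_dvd hs.ne_zero (e ▸ dvd_mul_left ..), e, Nat.mul_div_cancel _ hs.pos]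
  obtain ⟨P, hP⟩ := (IsPGroup.of_card (p := 2) (n := 1) (G := zpowers (g ^ s)) (by simp [h1])).exists_le_sylow
  obtain ⟨x, e'⟩ := S.exists_syl P
  have := orderOf_dvd_of_pow_eq_one (pow_eq_one_Q (mem_Q_of_comm (e' ▸ hP (mem_zpowers _))
    (fun h => by simp [h] at h1) (g := g) (by rw [← pow_succ, pow_succ'])))
  exact h2 ((Nat.prime_dvd_prime_iff_eq hs Nat.prime_two).1 (hs.dvd_of_dvd_pow (n := 2) ((Dvd.intro_left _ e.symm).trans this)))

include S in
theorem prime_graph (N : ℕ) : ∃ (H : Type) (_ : Group H) (_ : Fintype H), N < Fintype.card H ∧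
    (∀ r : ℕ, r.Prime → (r ∣ Nat.card Γ ↔ r ∣ Nat.card H)) ∧
    ∀ r s : ℕ, r.Prime → s.Prime → r ≠ s → ((∃ x : Γ, orderOf x = r * s) ↔ ∃ y : H, orderOf y = r * s) := by
  letI := DistribMulAction.compHom (Fin 4 → F) S.ρ
  let A := Multiplicative (Fin N → Fin 4 → F)
  let φ : Γ →* MulAut A := (MulAutMultiplicative _).symm.toMonoidHom.comp (DistribMulAction.toAddAut Γ _)
  haveI : Finite (A ⋊[φ] Γ) := Finite.of_equiv _ SemidirectProduct.equivProd.symm
  obtain ⟨H, _, _, ⟨e⟩⟩ := exists_type0 (A ⋊[φ] Γ)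
  have h1 : Nat.card (A ⋊[φ] Γ) = (2 ^ (2 * S.m + 1)) ^ (4 * N) * Nat.card Γ := by
    rw [SemidirectProduct.card, Nat.card_congr (Multiplicative.toAdd (α := Fin N → Fin 4 → F))]
    simp [Nat.card_fun, ← S.card, pow_mul]
  have h2 : ∀ y : A ⋊[φ] Γ, y.right = 1 → y ^ 2 = 1 := fun y h => by
    ext1 <;> simp [sq, h]
    ext; simp [A, CharTwo.add_self_eq_zero]
  have h3 : ∀ (y : A ⋊[φ] Γ) n, orderOf y.right ∣ n → orderOf y ∣ n * 2 := fun y n h =>
    orderOf_dvd_of_pow_eq_one (by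
      rw [pow_mul]; exact h2 _ ((map_pow SemidirectProduct.rightHom y n).trans (orderOf_dvd_iff_pow_eq_one.1 h)))
  have h4 : ∀ y : A ⋊[φ] Γ, orderOf y.right ∣ orderOf y := orderOf_map_dvd SemidirectProduct.rightHom
  have h5 : ∀ s, s.Prime → s ≠ 2 → ∀ y : A ⋊[φ] Γ, orderOf y ≠ 2 * s := fun s hs h y e => by
    have a1 := h4 y
    have a2 := h3 y _ dvd_rfl
    rw [e] at a1 a2
    rw [mul_comm, Nat.mul_dvd_mul_iff_right two_pos] at a2
    obtain ⟨k, hk⟩ := a2
    rw [hk, mul_comm 2, Nat.mul_dvd_mul_iff_left hs.pos, Nat.dvd_prime Nat.prime_two] at a1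
    rcases a1 with rfl | rfl; swap
    · exact S.no_order hs h _ (hk.trans (mul_comm ..))
    have a3 : (y ^ s).right = 1 := (map_pow SemidirectProduct.rightHom y s).trans (by
      rw [← mul_one s, ← hk]; exact pow_orderOf_eq_one _)
    have a4 := congrArg SemidirectProduct.left ((pow_succ y s).symm.trans (pow_succ' y s))
    simp only [SemidirectProduct.mul_left, a3, map_one, MulAut.one_apply, mul_comm (y ^ s).left, mul_right_inj] at a4
    refine pow_ne_one_of_lt_orderOf hs.ne_zero (by have := hs.pos; omega) (SemidirectProduct.ext ?_ a3)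
    exact funext fun i => S.fix_eq_zero (fun e => hs.ne_one (by simpa [e] using hk.symm))
      (by rw [hk, mul_one]; exact hs.odd_of_ne_two h) (congrFun a4.symm i)
  refine ⟨H, inferInstance, inferInstance, ?_, fun r hr => ?_, fun r s hr hs h => ?_⟩
  · rw [← Nat.card_eq_fintype_card, Nat.card_congr e.toEquiv, h1, ← pow_mul]
    exact (Nat.lt_two_pow_self.trans_le (Nat.pow_le_pow_right two_pos (by nlinarith))).trans_le
      (Nat.le_mul_of_pos_right _ Nat.card_pos)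
  · rw [Nat.card_congr e.toEquiv, h1, hr.dvd_mul, ← pow_mul, iff_or_self]
    intro h
    rw [(Nat.prime_dvd_prime_iff_eq hr Nat.prime_two).1 (hr.dvd_of_dvd_pow h), ← S.orderOf_z one_ne_zero]
    exact orderOf_dvd_natCard _
  refine Iff.trans (b := ∃ y : A ⋊[φ] Γ, orderOf y = r * s) ⟨fun ⟨x, hx⟩ => ⟨SemidirectProduct.inr x, by rwa [orderOf_injective _ SemidirectProduct.inr_injective]⟩,
    fun ⟨y, hy⟩ => ⟨y.right, Nat.dvd_antisymm (hy ▸ h4 y) ?_⟩⟩
    (e.symm.toEquiv.exists_congr fun y => by simp)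
  refine Nat.Coprime.dvd_of_dvd_mul_right (Odd.coprime_two_right ?_) (hy ▸ h3 y _ dvd_rfl)
  exact (hr.odd_of_ne_two (by rintro rfl; exact h5 s hs h.symm y hy)).mul
    (hs.odd_of_ne_two (by rintro rfl; exact h5 r hr h y (hy.trans (mul_comm ..))))

end SzS
end Cfsg.Agent.Suz
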