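import Cfsg.Agent.Lib.Sz.App

set_option autoImplicit false
set_option linter.unusedSectionVars false
set_option linter.style.haveILetI false

/-! The smallest degree of a complex representation of a Suzuki group. -/

namespace Cfsg.Agent.Suz

open MulAction Subgroup Transfer Module

theorem card_le_of_trace {G V I : Type*} [Group G] [AddCommGroup V] [Module ℂ V] [FiniteDimensional ℂ V] [Nontrivial V]
    [Finite I] (ρ : Representation ℂ G V) (f : I → G) (h : ∀ i j, i ≠ j → LinearMap.trace ℂ V (ρ ((f i)⁻¹ * f j)) = 0) :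
    Nat.card I ≤ finrank ℂ V * finrank ℂ V := by
  haveI := Fintype.ofFinite I
  rw [← finrank_linearMap ℂ ℂ, Nat.card_eq_fintype_card]
  refine LinearIndependent.fintype_card_le_finrank (b := fun i => ρ (f i)) (Fintype.linearIndependent_iff.2 fun l hl i => ?_)
  have := congrArg (fun x => LinearMap.trace ℂ V (ρ (f i)⁻¹ * x)) hl
  simp only [Finset.mul_sum, map_sum, mul_smul_comm, map_smul, ← map_mul, mul_zero, map_zero] at this
  rw [Finset.sum_eq_single i (fun j _ e => by rw [h i j e.symm, smul_zero]) (by simp)] at this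
  simpa [finrank_pos.ne'] using this

theorem ne_one_of_irr {G V : Type*} [Group G] [IsSimpleGroup G] [AddCommGroup V] [Module ℂ V] [FiniteDimensional ℂ V]
    {ρ : Representation ℂ G V} (h : ρ.IsIrreducible) (h2 : 2 ≤ finrank ℂ V) {g : G} (hg : g ≠ 1) : ρ g ≠ 1 := fun e => by
  have h1 := ρ.normal_ker.eq_bot_or_eq_top.resolve_left fun h => hg (mem_bot.1 (h ▸ e))
  obtain ⟨W, hW⟩ : ∃ W : Submodule ℂ V, finrank ℂ W = 1 := by
    haveI := nontrivial_of_finrank_pos (R := ℂ) (M := V) (by omega)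
    obtain ⟨v, hv⟩ := exists_ne (0 : V)
    exact ⟨_, finrank_span_singleton hv⟩
  rcases h.eq_bot_or_eq_top ⟨W, fun g v hv => by rwa [show ρ g = 1 from h1.ge (mem_top g)]⟩ with e | e <;>
    rw [show W = _ from congrArg Subrepresentation.toSubmodule e] at hW
  · exact zero_ne_one ((finrank_bot ℂ V).symm.trans hW)
  · exact absurd ((finrank_top ℂ V).symm.trans hW) (by omega)

namespace SzS
variable {F : Type*} [Field F] [Finite F] [CharP F 2] {Γ : Type*} [Group Γ] [Finite Γ] (S : SzS F Γ)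

theorem exists_rad {ψ : AddChar F ℂ} (hψ : ψ.IsPrimitive) :
    ∃ r, ∀ a, a ≠ 0 → a ≠ r → ∃ a', ψ (S.θ a' * a + S.θ a * a') ≠ 1 := by
  haveI := Fintype.ofFinite F
  obtain ⟨c, hc⟩ := ((Fintype.bijective_iff_injective_and_card _).2
    ⟨AddChar.to_mulShift_inj_of_isPrimitive hψ, AddChar.card_eq.symm⟩).2 (ψ.compAddMonoidHom S.θ.toAddMonoidHom)
  refine ⟨S.θ c, fun a h0 h => ?_⟩
  obtain ⟨a, rfl⟩ := S.θ_bij.2 a
  by_contra! e
  refine hψ (a := c * a + S.θ (S.θ a)) (fun h1 => h (congrArg _ ?_)) (AddChar.ext _ _ fun x => ?_)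
  · have : a ≠ 0 := by simpa using h0
    rw [hθ] at h1; grind
  · have := DFunLike.congr_fun hc (x * a)
    simp only [AddChar.mulShift_apply, AddChar.compAddMonoidHom_apply, RingHom.toAddMonoidHom_eq_coe,
      AddMonoidHom.coe_coe, map_mul] at this
    rw [AddChar.mulShift_apply, AddChar.one_apply, ← e x, add_mul, AddChar.map_add_eq_mul, AddChar.map_add_eq_mul, ← this,
      mul_assoc, mul_comm a]

theorem le_finrank {V : Type*} [AddCommGroup V] [Module ℂ V] [FiniteDimensional ℂ V] (ρ : Representation ℂ Γ V)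
    (h : ρ (S.s 0 1) ≠ 1) : 2 ^ S.m * (Nat.card F - 1) ≤ finrank ℂ V := by
  classical
  haveI := Fintype.ofFinite F
  have hψ := AddChar.FiniteField.primitiveChar_to_Complex_isPrimitive F
  generalize AddChar.FiniteField.primitiveChar_to_Complex F = ψ at hψ
  have h1 : ∀ x, ψ x * ψ x = 1 := fun x => by rw [← AddChar.map_add_eq_mul, CharTwo.add_self_eq_zero, AddChar.map_zero_eq_one]
  let W : F → Submodule ℂ V := fun c => ⨅ b, End.eigenspace (ρ (S.s 0 b)) (ψ (c * b))
  have hW : ∀ {c v}, v ∈ W c ↔ ∀ b, ρ (S.s 0 b) v = ψ (c * b) • v := by simp [W]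
  have hq : (Fintype.card F : ℂ) ≠ 0 := by simp
  have h2 : ∀ c, LinearMap.IsProj (W c) ((Fintype.card F : ℂ)⁻¹ • ∑ b, ψ (c * b) • ρ (S.s 0 b)) := fun c =>
    ⟨fun v => hW.2 fun b => by
      simp only [LinearMap.smul_apply, LinearMap.sum_apply, map_smul, map_sum, ← End.mul_apply, ← map_mul, z_mul]
      rw [smul_comm, Finset.smul_sum (r := ψ _), ← Equiv.sum_comp (Equiv.addLeft b) (fun x => ψ (c * b) • ψ (c * x) • ρ (S.s 0 x) v)]
      simp [mul_add, AddChar.map_add_eq_mul, smul_smul, ← mul_assoc, h1],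
    fun v hv => by simp [hW.1 hv, smul_smul, h1, ← Nat.cast_smul_eq_nsmul ℂ]⟩
  have h3 : finrank ℂ V = ∑ c, finrank ℂ (W c) := by
    have : ∑ c, (Fintype.card F : ℂ)⁻¹ • ∑ b, ψ (c * b) • ρ (S.s 0 b) = 1 := by
      rw [← Finset.smul_sum, Finset.sum_comm]
      simp [← Finset.sum_smul, AddChar.sum_mulShift _ hψ, smul_smul]
    have := congrArg (LinearMap.trace ℂ V) this
    simp only [map_sum (LinearMap.trace ℂ V), (h2 _).trace, LinearMap.trace_one] at this
    exact_mod_cast this.symm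
  have h4 : ∀ c c', c ≠ 0 → c' ≠ 0 → finrank ℂ (W c) ≤ finrank ℂ (W c') := fun c c' h h' => by
    obtain ⟨x, -, hx⟩ := S.exists_conj_Z (div_ne_zero h' h)
    refine LinearMap.finrank_le_finrank_of_injective (f := (ρ x⁻¹).restrict (p := W c) (q := W c') fun v hv => hW.2 fun b => ?_)
      fun v w e => Subtype.ext (by simpa using congrArg (ρ x ·.1) e)
    rw [← End.mul_apply, ← map_mul, ← inv_mul_cancel_left x (S.s 0 b), mul_assoc, hx, map_mul, End.mul_apply, hW.1 hv,
      map_smul, ← mul_assoc, mul_div_cancel₀ _ h]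
  have h5 : finrank ℂ V = finrank ℂ (W 0) + (Fintype.card F - 1) * finrank ℂ (W 1) := by
    rw [h3, ← Finset.add_sum_erase _ _ (Finset.mem_univ 0), Finset.sum_congr rfl fun c hc =>
      le_antisymm (h4 c 1 (by simpa using hc) one_ne_zero) (h4 1 c one_ne_zero (by simpa using hc))]
    simp
  haveI : Nontrivial (W 1) := nontrivial_of_finrank_pos (R := ℂ) (Nat.pos_of_ne_zero fun e => h (LinearMap.ext fun v =>
    (hW.1 ((Submodule.eq_top_of_finrank_eq (by simpa [e] using h5.symm)).ge (Submodule.mem_top (x := v))) 1).trans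
      (by rw [zero_mul, AddChar.map_zero_eq_one, one_smul]; rfl)))
  let σ := Representation.subrepresentation (ρ.comp S.Q.subtype) (W 1) (by
    rintro ⟨_, a, b, rfl⟩ v hv
    refine hW.2 fun c => ?_
    simp only [MonoidHom.comp_apply, subtype_apply]
    rw [← End.mul_apply, ← map_mul, S.s_comm.2 (by simp), map_mul, End.mul_apply, hW.1 hv, map_smul])
  obtain ⟨r, hr⟩ := S.exists_rad hψ
  have h6 := card_le_of_trace σ (fun i : F ⧸ AddSubgroup.zmultiples r => ⟨_, S.s_mem i.out 0⟩) fun i j e => by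
    generalize hg : (_ * _ : S.Q) = g
    obtain ⟨_, a, b, rfl⟩ := g
    have : i.out + j.out ∉ AddSubgroup.zmultiples r := fun h =>
      e (by rw [← i.out_eq, ← j.out_eq]; exact QuotientAddGroup.eq.2 (by rwa [CharTwo.neg_eq]))
    obtain rfl : i.out + j.out = a := by
      have := congrArg Subtype.val hg
      simp only [coe_mul, coe_inv, s_inv, s_mul, s_inj] at this
      exact this.1
    obtain ⟨a', h⟩ := hr (i.out + j.out) (fun e => this (by simp [e])) fun e => this (by simp [e])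
    generalize i.out + j.out = a at *
    have h7 : σ ⟨_, S.s_mem a' 0⟩ * σ ⟨_, S.s_mem a b⟩ * σ ⟨_, S.s_mem a' 0⟩⁻¹ =
        ψ (S.θ a' * a + S.θ a * a') • σ ⟨_, S.s_mem a b⟩ := by
      rw [← map_mul, ← map_mul, show (_ * _ * _ : S.Q) = ⟨_, S.s_mem 0 (S.θ a' * a + S.θ a * a')⟩ * ⟨_, S.s_mem a b⟩ from
        Subtype.ext (by simp [← commutator_s _ a' 0 a b, commutatorElement_def]), map_mul]
      ext v
      simpa [σ] using hW.1 (σ ⟨_, S.s_mem a b⟩ v).2 _
    have := congrArg (LinearMap.trace ℂ _) h7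
    rw [LinearMap.trace_mul_cycle, ← map_mul, inv_mul_cancel, map_one, one_mul, map_smul, smul_eq_mul] at this
    grind
  have h7 := AddSubgroup.card_eq_card_quotient_mul_card_addSubgroup (AddSubgroup.zmultiples r)
  have h8 : Nat.card (AddSubgroup.zmultiples r) ≤ 2 := by
    rw [Nat.card_zmultiples]; exact addOrderOf_le_of_nsmul_eq_zero two_pos (CharTwo.two_nsmul r)
  have h9 : 2 ^ S.m ≤ finrank ℂ (W 1) := Nat.mul_self_le_mul_self_iff.1 (by
    rw [S.card, pow_succ, two_mul, pow_add] at h7; nlinarith)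
  rw [h5, Nat.card_eq_fintype_card, mul_comm]
  exact le_add_left (Nat.mul_le_mul_left _ h9)

end SzS
end Cfsg.Agent.Suz
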