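import Mathlib
import Cfsg.Agent.Lib.Sz.TI

set_option autoImplicit false
set_option linter.unusedSectionVars false
set_option linter.style.haveILetI false

/-! Group elements acting irreducibly on a finite vector space. -/

namespace Cfsg.Agent.Suz

open Subgroup Transfer Module Polynomial

variable {F V : Type*} [Field F] [Finite F] [AddCommGroup V] [Module F V] [FiniteDimensional F V]

theorem card_fix_modEq {f : End F V} {r k : ℕ} [Fact r.Prime] (hf : f ^ r ^ k = 1) {W : Submodule F V}
    (hW : ∀ v ∈ W, f v ∈ W) :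
    Nat.card F ^ finrank F W ≡ Nat.card F ^ finrank F (W ⊓ LinearMap.ker (f - 1) : Submodule F V) [MOD r] := by
  classical
  haveI : Finite V := Module.finite_of_finite F
  haveI := Fintype.ofFinite W
  let g : Function.End W := fun v => ⟨f v, hW _ v.2⟩
  have := Equiv.Perm.card_fixedPoints_modEq (f := g) (p := r) (n := k) (by
    have : ∀ (n : ℕ) (v : W), ((g ^ n) v : V) = (f ^ n) v := fun n => by
      induction n with
      | zero => exact fun _ => rfl
      | succ n ih => exact fun v => by rw [pow_succ, pow_succ]; exact ih _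
    exact funext fun v => Subtype.ext (by rw [this, hf]; rfl))
  rw [← Module.natCard_eq_pow_finrank, ← Module.natCard_eq_pow_finrank]
  convert this using 1
  · exact Nat.card_eq_fintype_card
  rw [← Nat.card_eq_fintype_card]
  exact (cnt_eq_of_bij (p := fun v : W => v ∈ Function.fixedPoints _) Subtype.val
    (fun v hv => ⟨v.2, LinearMap.mem_ker.2 (sub_eq_zero.2 (congrArg Subtype.val hv))⟩) (fun _ _ _ _ => Subtype.ext)
    fun v hv => ⟨⟨v, hv.1⟩, Subtype.ext (by simpa [sub_eq_zero] using hv.2), rfl⟩).symm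

theorem irr_of_pow {f : End F V} {r k : ℕ} [Fact r.Prime] (hf : f ^ r ^ k = 1) (h1 : f ≠ 1)
    (hr : ∀ a, 0 < a → a < finrank F V → ¬ Nat.card F ^ a ≡ 1 [MOD r]) (hq : r.Coprime (Nat.card F))
    {W : Submodule F V} (hW : ∀ v ∈ W, f v ∈ W) : W = ⊥ ∨ W = ⊤ := by
  have h2 := card_fix_modEq hf (W := ⊤) (by simp)
  rw [top_inf_eq, finrank_top] at h2
  have h3 : finrank F (LinearMap.ker (f - 1)) < finrank F V :=
    Submodule.finrank_lt (by simpa [sub_eq_zero])
  have h4 : finrank F (LinearMap.ker (f - 1)) = 0 := by_contra fun e => by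
    obtain ⟨a, ha⟩ := Nat.exists_eq_add_of_lt h3
    rw [ha, add_assoc, pow_add] at h2
    exact hr (a + 1) (by omega) (by omega) (Nat.ModEq.cancel_left_of_coprime (hq.pow_right _) (by rwa [mul_one]))
  have := card_fix_modEq hf hW
  rw [Submodule.finrank_eq_zero.1 h4, inf_bot_eq, finrank_bot, pow_zero] at this
  by_contra! h
  exact hr _ (Nat.pos_of_ne_zero fun e => h.1 (Submodule.finrank_eq_zero.1 e)) (Submodule.finrank_lt h.2) this

variable {G : Type*} [Group G] [Finite G]

theorem cyc_of_irr [Nontrivial V] (ρ : G →* End F V) (hρ : Function.Injective ρ) {c : G}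
    (hc : ∀ W : Submodule F V, (∀ v ∈ W, ρ c v ∈ W) → W = ⊥ ∨ W = ⊤) :
    IsCyclic (centralizer {c}) ∧ Nat.card {y // y ∈ centralizer {c} ∧ IsConj c y} ≤ finrank F V := by
  classical
  haveI : Finite V := Module.finite_of_finite F
  haveI : Finite (End F V) := Module.finite_of_finite F
  let Z := Subalgebra.centralizer F {ρ c}
  haveI : NoZeroDivisors Z := ⟨fun {a b} e => by
    rcases hc (LinearMap.ker a.1) (fun v hv => by
      rw [LinearMap.mem_ker, ← End.mul_apply, ← a.2 _ rfl, End.mul_apply, hv, map_zero]) with h | h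
    · exact .inr (Subtype.ext (LinearMap.ext fun v => LinearMap.ker_eq_bot'.1 h _ (congrArg (·.1 v) e)))
    · exact .inl (Subtype.ext (LinearMap.ker_eq_top.1 h))⟩
  haveI : IsDomain Z := NoZeroDivisors.to_isDomain Z
  letI := (Finite.isDomain_to_isField Z).toField
  let φ : centralizer {c} →* Z := (ρ.comp (Subgroup.subtype _)).codRestrict Z fun x => by
    rintro _ rfl
    simpa using congrArg ρ (x.2 c rfl)
  have hφ : Function.Injective φ := fun a b e => Subtype.ext (hρ (congrArg Subtype.val e))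
  refine ⟨isCyclic_of_injective_ringHom φ hφ, ?_⟩
  have h0 := (ρ c).charpoly_monic
  refine (cnt_le_of_injOn (q := (· ∈ ((ρ c).charpoly.rootSet Z))) (fun y => if h : y ∈ centralizer {c} then φ ⟨y, h⟩ else 0)
    (fun y hy => ?_) fun a b ha hb e => ?_).trans ?_
  · obtain ⟨x, rfl⟩ := isConj_iff.1 hy.2
    rw [dif_pos hy.1, mem_rootSet_of_ne h0.ne_zero]
    have : ∀ p : F[X], aeval (ρ (x * c * x⁻¹)) p * ρ x = ρ x * aeval (ρ c) p := fun p => by
      induction p using Polynomial.induction_on' with
      | add p q hp hq => rw [map_add, map_add, add_mul, mul_add, hp, hq]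
      | monomial n a =>
        rw [aeval_monomial, aeval_monomial, ← map_pow, ← map_pow, conj_pow, mul_assoc, ← map_mul, ← mul_assoc,
          ← Algebra.commutes, inv_mul_cancel_right, mul_assoc, map_mul]
    have h1 := congrArg (· * ρ x⁻¹) (this (ρ c).charpoly)
    simp only [LinearMap.aeval_self_charpoly, zero_mul, mul_zero] at h1
    rw [mul_assoc, ← map_mul, mul_inv_cancel, map_one, mul_one] at h1
    exact Subtype.ext ((aeval_algHom_apply Z.val _ _).symm.trans h1)
  · rw [dif_pos ha.1, dif_pos hb.1] at e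
    exact congrArg Subtype.val (hφ e)
  · rw [← LinearMap.charpoly_natDegree (ρ c)]
    exact Polynomial.ncard_rootSet_le _ _

theorem card_normalizer_CC {A : Subgroup G} (h : CC A) {c : G} (hc : c ∈ A) (h1 : c ≠ 1) :
    Nat.card (normalizer (A : Set G)) = Nat.card {y // y ∈ A ∧ IsConj c y} * Nat.card A := by
  refine cnt_eq_mul_of_fiber (p := (· ∈ normalizer (A : Set G))) (fun x => x * c * x⁻¹)
    (fun x hx => ⟨conj_mem_of_mem_normalizer hx hc, isConj_conj ..⟩) fun y hy => ?_
  obtain ⟨x, rfl⟩ := isConj_iff.1 hy.2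
  refine (cnt_eq_of_bij (p := (· ∈ A)) (x * ·) (fun a ha => ⟨mul_mem (h.ti hc h1 hy.1) (le_normalizer ha), ?_⟩)
    (fun _ _ _ _ => mul_left_cancel) fun z hz => ⟨x⁻¹ * z, h.mem hc h1 (conj_eq_conj_iff.1 hz.2), by simp⟩).symm
  rw [mul_assoc x, h.comm ha hc]; group

end Cfsg.Agent.Suz
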