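import Cfsg.Agent.Lib.Sz.Basic
import Cfsg.Agent.Lib.Transfer.Basic
import Cfsg.Agent.Lib.Transfer.Count

set_option autoImplicit false
set_option linter.unusedSectionVars false
set_option linter.style.haveILetI false

/-! Abstract Suzuki groups and their action on the ovoid. -/

namespace Cfsg.Agent.Suz

open Matrix MulAction

/-- a group identified with a Suzuki group -/
structure SzS (F : Type*) [Field F] [Finite F] (Γ : Type*) [Group Γ] where
  m : ℕ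
  hm : 1 ≤ m
  card : Nat.card F = 2 ^ (2 * m + 1)
  θ : F →+* F
  θ_eq : ∀ x, θ x = x ^ 2 ^ (m + 1)
  ι : Γ →* GL (Fin 4) F
  inj : Function.Injective ι
  range : ι.range = SG θ

namespace SzS
variable {F : Type*} [Field F] [Finite F] [CharP F 2] {Γ : Type*} [Group Γ] (S : SzS F Γ)

theorem pow_card (x : F) : x ^ Nat.card F = x := by
  haveI := Fintype.ofFinite F
  rw [Nat.card_eq_fintype_card, FiniteField.pow_card]

theorem hθ (x : F) : S.θ (S.θ x) = x ^ 2 := by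
  rw [S.θ_eq, S.θ_eq, ← pow_mul, ← pow_add, show S.m + 1 + (S.m + 1) = 2 * S.m + 1 + 1 by ring, pow_succ, pow_mul,
    ← S.card, pow_card]

include S in
theorem eight_le : 8 ≤ Nat.card F := by
  rw [S.card]; exact Nat.pow_le_pow_right (n := 2) (i := 3) (by simp) (by have := S.hm; omega)

include S in
theorem big : ∃ a : F, a ≠ 0 ∧ a ≠ 1 := by
  classical
  haveI := Fintype.ofFinite F
  obtain ⟨a, -, h⟩ := Finset.exists_mem_notMem_of_card_lt_card (s := {(0 : F), 1}) (t := Finset.univ)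
    (Finset.card_le_two.trans_lt (by have := S.eight_le; rw [Nat.card_eq_fintype_card] at this; simp; omega))
  exact ⟨a, by simpa using h⟩

theorem mem (g : Γ) : S.ι g ∈ SG S.θ := S.range ▸ ⟨g, rfl⟩

/-- the points -/
def Ω (_S : SzS F Γ) := Option (F × F)

instance instFiniteΩ : Finite S.Ω := inferInstanceAs (Finite (Option (F × F)))

/-- the point at infinity -/
def oo : S.Ω := none
/-- the affine points -/
def pt (x y : F) : S.Ω := some (x, y)

theorem pt_ne (x y : F) : S.pt x y ≠ S.oo := Option.some_ne_none _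
theorem pt_inj {x y x' y' : F} : S.pt x y = S.pt x' y' ↔ x = x' ∧ y = y' := by simp [pt, Ω]
theorem exists_pt {p : S.Ω} (h : p ≠ S.oo) : ∃ x y, p = S.pt x y := by
  rcases p with _ | ⟨x, y⟩
  exacts [absurd rfl h, ⟨x, y, rfl⟩]

theorem card_Ω : Nat.card S.Ω = Nat.card F ^ 2 + 1 := by
  rw [show Nat.card S.Ω = Nat.card (Option (F × F)) from rfl, Finite.card_option, Nat.card_prod, sq]

noncomputable instance instSMulΩ : SMul Γ S.Ω := ⟨fun g p => ((S.mem g).2 p).choose⟩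

variable {S} in
theorem smul_eq_iff {g : Γ} {p q : S.Ω} : g • p = q ↔ ∃ c : F, (S.ι g).1 *ᵥ pv S.θ p = c • pv S.θ q := by
  obtain ⟨c, hc⟩ : ∃ c : F, (S.ι g).1 *ᵥ pv S.θ p = c • pv S.θ (g • p : S.Ω) := ((S.mem g).2 p).choose_spec
  refine ⟨fun h => ⟨c, h ▸ hc⟩, fun ⟨d, h⟩ => ?_⟩
  have h0 : c ≠ 0 := fun e => pv_ne S.θ p (by
    rw [← one_mulVec (pv _ p), ← Units.inv_mul (S.ι g), ← mulVec_mulVec, hc, e]; simp)
  exact (pv_inj (θ := S.θ) (c := d / c) (by rw [div_eq_inv_mul, mul_smul, ← h, hc, inv_smul_smul₀ h0])).1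

noncomputable instance instMulActionΩ : MulAction Γ S.Ω where
  one_smul p := smul_eq_iff.2 ⟨1, by simp⟩
  mul_smul g h p := by
    obtain ⟨c, e⟩ := (smul_eq_iff (g := h) (p := p)).1 rfl
    obtain ⟨d, e'⟩ := (smul_eq_iff (g := g) (p := h • p)).1 rfl
    exact smul_eq_iff.2 ⟨c * d, by rw [map_mul, Units.val_mul, ← mulVec_mulVec, e, mulVec_smul, e', smul_smul]⟩

theorem exists_ι {M : Matrix (Fin 4) (Fin 4) F} (h1 : M.det = 1) (h2 : ∀ p, ∃ q, ∃ c : F, M *ᵥ pv S.θ p = c • pv S.θ q) :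
    ∃ g, (S.ι g).1 = M := by
  obtain ⟨g, hg⟩ := S.range.ge (show GeneralLinearGroup.mkOfDetNeZero M (by simp [h1]) ∈ SG S.θ from ⟨h1, h2⟩)
  exact ⟨g, by rw [hg]; rfl⟩

theorem exists_s (a b : F) : ∃ g, (S.ι g).1 = sM S.θ a b := S.exists_ι (det_sM _ _ _) fun p => by
  rcases p with _ | ⟨x, y⟩
  exacts [⟨_, 1, by rw [sM_pv', one_smul]⟩, ⟨_, 1, by rw [sM_pv S.hθ, one_smul]⟩]

theorem exists_d (t : Fˣ) : ∃ g, (S.ι g).1 = dM S.θ t := S.exists_ι (det_dM _ t.ne_zero) fun p => by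
  rcases p with _ | ⟨x, y⟩
  exacts [⟨_, _, dM_pv' _⟩, ⟨_, _, dM_pv S.hθ t.ne_zero x y⟩]

theorem exists_w : ∃ g, (S.ι g).1 = wM F := S.exists_ι det_wM fun p => by
  rcases p with _ | ⟨x, y⟩
  · exact ⟨_, 1, by rw [wM_pv'.1, one_smul]⟩
  by_cases h : fz S.θ x y = 0
  · obtain ⟨rfl, rfl⟩ := fz_eq_zero S.hθ h
    exact ⟨_, 1, by rw [one_smul]; exact wM_pv'.2⟩
  · exact ⟨_, _, wM_pv S.hθ h⟩

/-- unipotent elements -/
noncomputable def s (a b : F) : Γ := (S.exists_s a b).choose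
/-- diagonal elements -/
noncomputable def d (t : Fˣ) : Γ := (S.exists_d t).choose
/-- the reflection -/
noncomputable def w : Γ := S.exists_w.choose

theorem ι_s (a b : F) : (S.ι (S.s a b)).1 = sM S.θ a b := (S.exists_s a b).choose_spec
theorem ι_d (t : Fˣ) : (S.ι (S.d t)).1 = dM S.θ t := (S.exists_d t).choose_spec
theorem ι_w : (S.ι S.w).1 = wM F := S.exists_w.choose_spec

@[simp] theorem s_oo (a b : F) : S.s a b • S.oo = S.oo := smul_eq_iff.2 ⟨1, by rw [ι_s, one_smul]; exact sM_pv' _ _⟩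
@[simp] theorem s_pt (a b x y : F) : S.s a b • S.pt x y = S.pt (a + x) (b + y + S.θ a * x) :=
  smul_eq_iff.2 ⟨1, by rw [ι_s, one_smul]; exact sM_pv S.hθ _ _ _ _⟩
@[simp] theorem d_oo (t : Fˣ) : S.d t • S.oo = S.oo := smul_eq_iff.2 ⟨_, by rw [ι_d]; exact dM_pv' _⟩
@[simp] theorem d_pt (t : Fˣ) (x y : F) : S.d t • S.pt x y = S.pt (S.θ t * x) (t ^ 2 * S.θ t * y) :=
  smul_eq_iff.2 ⟨_, by rw [ι_d]; exact dM_pv S.hθ t.ne_zero _ _⟩
@[simp] theorem w_oo : S.w • S.oo = S.pt 0 0 := smul_eq_iff.2 ⟨1, by rw [ι_w, one_smul]; exact wM_pv'.1⟩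
@[simp] theorem w_o : S.w • S.pt 0 0 = S.oo := smul_eq_iff.2 ⟨1, by rw [ι_w, one_smul]; exact wM_pv'.2⟩
theorem w_pt {x y : F} (h : fz S.θ x y ≠ 0) : S.w • S.pt x y = S.pt (y / fz S.θ x y) (x / fz S.θ x y) :=
  smul_eq_iff.2 ⟨_, by rw [ι_w]; exact wM_pv S.hθ h⟩

theorem θ_ne {t : F} (h : t ≠ 0) : S.θ t ≠ 0 := by simpa
theorem θ_eq_one {t : F} (h : S.θ t = 1) : t = 1 := S.θ.injective (by simpa)
theorem θ_bij : Function.Bijective S.θ := Finite.injective_iff_bijective.1 S.θ.injective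

variable {S} in
theorem exists_d_eq {g : Γ} (h1 : g • S.oo = S.oo) (h2 : g • S.pt 0 0 = S.pt 0 0) : ∃ t, g = S.d t := by
  obtain ⟨c, h1⟩ := smul_eq_iff.1 h1
  obtain ⟨d, h2⟩ := smul_eq_iff.1 h2
  obtain ⟨t, ht, e⟩ := eq_dM S.hθ S.big (S.mem g) h1 h2
  exact ⟨Units.mk0 t ht, S.inj (Units.ext (by rw [ι_d, e]; rfl))⟩

theorem d_one : S.d 1 = 1 := S.inj (Units.ext (by
  rw [ι_d, map_one, Units.val_one, Units.val_one, dM, ← diagonal_one]; congr 1; ext i; fin_cases i <;> simp))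

theorem d_inj {t t' : Fˣ} (h : S.d t = S.d t') : t = t' := by
  have := congrArg (· • S.pt 1 0) h
  simp only [d_pt, pt_inj, mul_one] at this
  exact Units.ext (S.θ.injective this.1)

instance instFaithful : FaithfulSMul Γ S.Ω := ⟨fun {g h} e => by
  have e' : ∀ p : S.Ω, (h⁻¹ * g) • p = p := fun p => by rw [mul_smul, e, inv_smul_smul]
  obtain ⟨t, ht⟩ := exists_d_eq (e' _) (e' _)
  have := e' (S.pt 1 0)
  rw [ht, d_pt, pt_inj, mul_one] at this
  rw [show t = 1 from Units.ext (S.θ_eq_one this.1), d_one] at ht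
  exact (inv_mul_eq_one.1 ht).symm⟩

variable {S} in
theorem ext_pt {g h : Γ} (h1 : g • S.oo = h • S.oo) (h2 : ∀ x y, g • S.pt x y = h • S.pt x y) : g = h :=
  eq_of_smul_eq_smul fun p : S.Ω => by
    rcases p with _ | ⟨x, y⟩
    exacts [h1, h2 x y]

include S in
theorem finite : Finite Γ := Finite.of_injective _ S.inj

theorem s_mul (a b a' b' : F) : S.s a b * S.s a' b' = S.s (a + a') (b + b' + S.θ a * a') :=
  S.inj (Units.ext (by rw [map_mul, Units.val_mul, ι_s, ι_s, ι_s, sM_mul S.hθ]))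

@[simp] theorem s_zero : S.s 0 0 = 1 := ext_pt (S := S) (by simp) (by simp)

theorem s_inj {a b a' b' : F} : S.s a b = S.s a' b' ↔ a = a' ∧ b = b' :=
  ⟨fun h => by simpa [pt_inj] using congrArg (· • S.pt 0 0) h, fun h => by rw [h.1, h.2]⟩

theorem s_eq_one {a b : F} : S.s a b = 1 ↔ a = 0 ∧ b = 0 := by rw [← S.s_zero, s_inj]

theorem s_inv (a b : F) : (S.s a b)⁻¹ = S.s a (b + S.θ a * a) :=
  inv_eq_of_mul_eq_one_right (by rw [s_mul, s_eq_one]; grind)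

theorem s_sq (a b : F) : S.s a b ^ 2 = S.s 0 (S.θ a * a) := by rw [sq, s_mul, s_inj]; grind

theorem s_pow_four (a b : F) : S.s a b ^ 4 = 1 := by
  rw [show 4 = 2 * 2 from rfl, pow_mul, s_sq, s_sq]; simp

theorem d_mul (t t' : Fˣ) : S.d (t * t') = S.d t * S.d t' :=
  ext_pt (S := S) (by simp [mul_smul]) fun x y => by simp [mul_smul, pt_inj]; constructor <;> ring

/-- the torus as a homomorphism -/
noncomputable def dH : Fˣ →* Γ := ⟨⟨S.d, S.d_one⟩, S.d_mul⟩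

theorem d_inv (t : Fˣ) : (S.d t)⁻¹ = S.d t⁻¹ := (map_inv S.dH t).symm
theorem d_pow (t : Fˣ) (n : ℕ) : S.d t ^ n = S.d (t ^ n) := (map_pow S.dH t n).symm
theorem d_eq_one {t : Fˣ} : S.d t = 1 ↔ t = 1 := ⟨fun h => S.d_inj (h.trans S.d_one.symm), fun h => h ▸ S.d_one⟩

theorem d_s (t : Fˣ) (a b : F) : S.d t * S.s a b = S.s (S.θ t * a) (t ^ 2 * S.θ t * b) * S.d t :=
  ext_pt (S := S) (by simp [mul_smul]) fun x y => by simp [mul_smul, pt_inj, hθ]; constructor <;> ring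

theorem d_conj (t : Fˣ) (a b : F) : S.d t * S.s a b * (S.d t)⁻¹ = S.s (S.θ t * a) (t ^ 2 * S.θ t * b) := by
  rw [d_s, mul_inv_cancel_right]

theorem w_w : S.w * S.w = 1 := S.inj (Units.ext (by rw [map_mul, Units.val_mul, ι_w, wM_mul, map_one, Units.val_one]))

theorem w_inv : S.w⁻¹ = S.w := inv_eq_of_mul_eq_one_right S.w_w

theorem w_d (t : Fˣ) : S.w * S.d t = S.d t⁻¹ * S.w := S.inj (Units.ext (by
  rw [map_mul, map_mul, Units.val_mul, Units.val_mul, ι_w, ι_d, ι_d]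
  ext i j
  fin_cases i <;> fin_cases j <;> simp [wM, dM, mul_apply, Fin.sum_univ_four, diagonal_apply, mul_comm]))

theorem δ_ne {t : Fˣ} (h : t ≠ 1) : (t : F) ^ 2 * S.θ t ≠ 1 := fun e =>
  mul_θ_ne S.hθ (a := t) (by simpa using h) (S.θ_eq_one (by rw [map_mul, hθ, mul_comm, e]))

theorem δ_surj {b : F} (h : b ≠ 0) : ∃ t : Fˣ, (t : F) ^ 2 * S.θ t = b := by
  obtain ⟨t, ht⟩ := Finite.surjective_of_injective (f := fun t : Fˣ => t ^ 2 * Units.map S.θ.toMonoidHom t)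
    (fun t t' e => by_contra fun h => S.δ_ne (t := t / t') (by rwa [Ne, div_eq_one]) (by
      have := congrArg Units.val e
      simp at this ⊢
      have := S.θ_ne t'.ne_zero
      field_simp; assumption)) (Units.mk0 b h)
  exact ⟨t, by simpa using congrArg Units.val ht⟩

theorem θ_surj {a : F} (h : a ≠ 0) : ∃ t : Fˣ, S.θ t = a := by
  obtain ⟨t, rfl⟩ := S.θ_bij.2 a
  exact ⟨Units.mk0 t (by simpa using h), rfl⟩

/-- the unipotent group -/
def Q : Subgroup Γ where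
  carrier := {g | ∃ a b, g = S.s a b}
  one_mem' := ⟨0, 0, S.s_zero.symm⟩
  mul_mem' := by rintro _ _ ⟨a, b, rfl⟩ ⟨a', b', rfl⟩; exact ⟨_, _, S.s_mul ..⟩
  inv_mem' := by rintro _ ⟨a, b, rfl⟩; exact ⟨_, _, S.s_inv ..⟩

/-- the centre of the unipotent group -/
def Z : Subgroup Γ where
  carrier := {g | ∃ b, g = S.s 0 b}
  one_mem' := ⟨0, S.s_zero.symm⟩
  mul_mem' := by rintro _ _ ⟨b, rfl⟩ ⟨b', rfl⟩; exact ⟨b + b', by simp [S.s_mul]⟩
  inv_mem' := by rintro _ ⟨b, rfl⟩; exact ⟨b, by simp [S.s_inv]⟩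

/-- the torus -/
noncomputable def K : Subgroup Γ := S.dH.range
/-- the Borel subgroup -/
noncomputable abbrev B : Subgroup Γ := stabilizer Γ S.oo

theorem s_mem (a b : F) : S.s a b ∈ S.Q := ⟨a, b, rfl⟩
theorem s_mem_Z (b : F) : S.s 0 b ∈ S.Z := ⟨b, rfl⟩
theorem d_mem (t : Fˣ) : S.d t ∈ S.K := ⟨t, rfl⟩
theorem Z_le_Q : S.Z ≤ S.Q := by rintro _ ⟨b, rfl⟩; exact S.s_mem ..
theorem Q_le_B : S.Q ≤ S.B := by rintro _ ⟨a, b, rfl⟩; exact S.s_oo ..
theorem K_le_B : S.K ≤ S.B := by rintro _ ⟨t, rfl⟩; exact S.d_oo ..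

variable {S} in
theorem mem_K {g : Γ} : g ∈ S.K ↔ g • S.oo = S.oo ∧ g • S.pt 0 0 = S.pt 0 0 :=
  ⟨by rintro ⟨t, rfl⟩; exact ⟨S.d_oo _, by simp [dH]⟩, fun h => (exists_d_eq h.1 h.2).imp fun _ => Eq.symm⟩

variable {S} in
theorem exists_of_B {g : Γ} (h : g • S.oo = S.oo) : ∃ a b t, g = S.s a b * S.d t := by
  obtain ⟨a, b, e⟩ := S.exists_pt (p := g • S.pt 0 0) (by rw [← h]; simpa using S.pt_ne 0 0)
  obtain ⟨t, ht⟩ := exists_d_eq (S := S) (g := (S.s a b)⁻¹ * g) (by rw [mul_smul, h, inv_smul_eq_iff, s_oo])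
    (by rw [mul_smul, e, inv_smul_eq_iff]; simp)
  exact ⟨a, b, t, by rw [← ht, mul_inv_cancel_left]⟩

theorem sd_inj {a b a' b' : F} {t t' : Fˣ} (h : S.s a b * S.d t = S.s a' b' * S.d t') : a = a' ∧ b = b' ∧ t = t' := by
  obtain ⟨rfl, rfl⟩ : a = a' ∧ b = b' := by simpa [pt_inj, mul_smul] using congrArg (· • S.pt 0 0) h
  exact ⟨rfl, rfl, S.d_inj (mul_left_cancel h)⟩

theorem card_Q : Nat.card S.Q = Nat.card F ^ 2 := by
  rw [sq, ← Nat.card_prod]
  exact (Nat.card_congr (Equiv.ofBijective (fun a : F × F => (⟨_, S.s_mem a.1 a.2⟩ : S.Q))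
    ⟨fun a b e => Prod.ext_iff.2 (S.s_inj.1 (congrArg Subtype.val e)), fun ⟨_, a, b, e⟩ => ⟨(a, b), Subtype.ext e.symm⟩⟩)).symm

theorem card_Z : Nat.card S.Z = Nat.card F :=
  (Nat.card_congr (Equiv.ofBijective (fun a : F => (⟨_, S.s_mem_Z a⟩ : S.Z))
    ⟨fun a b e => ((S.s_inj (a := 0) (b := a) (a' := 0) (b' := b)).1 (congrArg Subtype.val e)).2,
      fun ⟨_, b, e⟩ => ⟨b, Subtype.ext e.symm⟩⟩)).symm

/-- the torus is the multiplicative group -/
noncomputable def kEquiv : Fˣ ≃* S.K := MonoidHom.ofInjective fun _ _ => S.d_inj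

theorem card_K : Nat.card S.K = Nat.card F - 1 := by rw [← Nat.card_congr S.kEquiv.toEquiv, Nat.card_units]

instance instCyclicK : IsCyclic S.K := isCyclic_of_surjective _ S.kEquiv.surjective

theorem card_B : Nat.card S.B = Nat.card F ^ 2 * (Nat.card F - 1) := by
  rw [sq, ← Nat.card_prod, ← Nat.card_units, ← Nat.card_prod]
  exact (Nat.card_congr (Equiv.ofBijective (fun a : (F × F) × Fˣ => (⟨S.s a.1.1 a.1.2 * S.d a.2, by simp [mul_smul]⟩ : S.B))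
    ⟨fun a b e => by have := S.sd_inj (congrArg Subtype.val e); exact Prod.ext (Prod.ext this.1 this.2.1) this.2.2,
      fun ⟨_, h⟩ => by obtain ⟨a, b, t, rfl⟩ := exists_of_B h; exact ⟨((a, b), t), rfl⟩⟩)).symm

theorem exists_oo (p : S.Ω) : ∃ g : Γ, g • S.oo = p := by
  rcases p with _ | ⟨x, y⟩
  exacts [⟨1, one_smul _ _⟩, ⟨S.s x y * S.w, by simp [mul_smul]; rfl⟩]

variable {S} in
theorem exists_two {p p' : S.Ω} (h : p ≠ p') : ∃ g : Γ, g • S.oo = p ∧ g • S.pt 0 0 = p' := by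
  obtain ⟨g, rfl⟩ := S.exists_oo p
  obtain ⟨x, y, e⟩ := S.exists_pt (p := g⁻¹ • p') fun e => h (by rw [← e, smul_inv_smul])
  exact ⟨g * S.s x y, by simp [mul_smul], by simp [mul_smul, ← e]⟩

instance instTrans : IsPretransitive Γ S.Ω := ⟨fun p p' => by
  obtain ⟨g, rfl⟩ := S.exists_oo p
  obtain ⟨g', rfl⟩ := S.exists_oo p'
  exact ⟨g' * g⁻¹, by simp [mul_smul]⟩⟩

theorem two_trans : IsMultiplyPretransitive Γ S.Ω 2 := is_two_pretransitive_iff.2 fun h h' => by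
  obtain ⟨g, rfl, rfl⟩ := exists_two h
  obtain ⟨g', rfl, rfl⟩ := exists_two h'
  exact ⟨g' * g⁻¹, by simp [mul_smul]⟩

instance instPrim : IsPreprimitive Γ S.Ω := isPreprimitive_of_is_two_pretransitive S.two_trans

theorem index_B : S.B.index = Nat.card F ^ 2 + 1 := by rw [index_stabilizer_of_transitive, card_Ω]

include S in
theorem card_eq : Nat.card Γ = Nat.card F ^ 2 * (Nat.card F - 1) * (Nat.card F ^ 2 + 1) := by
  rw [← S.B.card_mul_index, card_B, index_B]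

theorem s_fix {a b x y : F} (h : S.s a b • S.pt x y = S.pt x y) : S.s a b = 1 := by
  rw [s_pt, pt_inj] at h
  obtain rfl : a = 0 := by simpa using h.1
  simpa [s_eq_one] using h.2

theorem d_fix {t : Fˣ} (ht : t ≠ 1) {x y : F} (h : S.d t • S.pt x y = S.pt x y) : x = 0 ∧ y = 0 := by
  rw [d_pt, pt_inj] at h
  have h1 : S.θ t ≠ 1 := fun e => ht (Units.ext (S.θ_eq_one e))
  have h2 := S.δ_ne ht
  grind

variable {S} in
theorem conj_K {g : Γ} (h : g • S.oo = S.oo) (h' : g ∉ S.Q) : ∃ a b t, t ≠ 1 ∧ g = S.s a b * S.d t * (S.s a b)⁻¹ := by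
  obtain ⟨a, b, t, rfl⟩ := exists_of_B h
  have ht : t ≠ 1 := by rintro rfl; exact h' (by rw [d_one, mul_one]; exact S.s_mem ..)
  have h1 : S.θ t + 1 ≠ 0 := fun e => ht (Units.ext (S.θ_eq_one (by grind)))
  have h2 : (t : F) ^ 2 * S.θ t + 1 ≠ 0 := fun e => S.δ_ne ht (by grind)
  obtain ⟨x, hx⟩ : ∃ x, (S.θ t + 1) * x = a := ⟨_, mul_div_cancel₀ _ h1⟩
  obtain ⟨y, hy⟩ : ∃ y, ((t : F) ^ 2 * S.θ t + 1) * y = b + S.θ a * S.θ t * x := ⟨_, mul_div_cancel₀ _ h2⟩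
  obtain ⟨t', e⟩ := exists_d_eq (S := S) (g := (S.s x y)⁻¹ * (S.s a b * S.d t) * S.s x y)
    (by simp [mul_smul, inv_smul_eq_iff]) (by simp [mul_smul, inv_smul_eq_iff, pt_inj]; grind)
  refine ⟨x, y, t', ?_, by rw [← e]; group⟩
  rintro rfl
  rw [d_one, mul_assoc, inv_mul_eq_one, right_eq_mul] at e
  exact h' (e ▸ one_mem _)

variable {S} in
theorem eq_one_of_fix {g : Γ} {p₁ p₂ p₃ : S.Ω} (h12 : p₁ ≠ p₂) (h23 : p₂ ≠ p₃) (h13 : p₁ ≠ p₃) (h1 : g • p₁ = p₁)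
    (h2 : g • p₂ = p₂) (h3 : g • p₃ = p₃) : g = 1 := by
  obtain ⟨k, rfl, rfl⟩ := exists_two h12
  obtain ⟨t, e⟩ := exists_d_eq (S := S) (g := k⁻¹ * g * k) (by simp [mul_smul, h1]) (by simp [mul_smul, h2])
  obtain ⟨x, y, e'⟩ := S.exists_pt (p := k⁻¹ • p₃) fun e => h13 (by rw [← e, smul_inv_smul])
  by_contra h
  obtain ⟨rfl, rfl⟩ := S.d_fix (t := t) (x := x) (y := y) (by rintro rfl; exact h (by simpa [d_one, mul_assoc, inv_mul_eq_one] using e))
    (by rw [← e, ← e']; simp [mul_smul, h3])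
  exact h23 (by rw [← e', smul_inv_smul])

end SzS

section Models
variable {F : Type*} [Field F] [Fintype F] {m : ℕ}

theorem charTwo (hF : Fintype.card F = 2 ^ (2 * m + 1)) : CharP F 2 := charP_of_card_eq_prime_pow hF

theorem mem_ovoid [CharP F 2] {p : Projectivization F (Fin 4 → F)} : p ∈ suzukiOvoid F m ↔
    ∃ a, p = Projectivization.mk F (pv (iterateFrobenius F 2 (m + 1)) a) (pv_ne _ a) := by
  have : ∀ x y : F, ![x * y + x ^ (2 ^ (m + 1) + 2) + y ^ 2 ^ (m + 1), y, x, 1] =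
      pv (iterateFrobenius F 2 (m + 1)) (some (x, y)) := fun x y => by
    simp [pv, fz, iterateFrobenius_def, pow_add, mul_comm]
  simp only [suzukiOvoid, this]
  refine ⟨?_, ?_⟩
  · rintro ⟨v, hv, rfl, rfl | ⟨x, y, rfl⟩⟩
    exacts [⟨none, rfl⟩, ⟨_, rfl⟩]
  · rintro ⟨_ | ⟨x, y⟩, rfl⟩
    exacts [⟨_, pv_ne _ _, rfl, .inl rfl⟩, ⟨_, pv_ne _ _, rfl, .inr ⟨x, y, rfl⟩⟩]

theorem mem_Sz [CharP F 2] {g : SpecialLinearGroup (Fin 4) F} :
    g ∈ Cfsg.Sz F m ↔ SpecialLinearGroup.toGL g ∈ SG (iterateFrobenius F 2 (m + 1)) := by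
  rw [mem_stabilizer_set' (Set.toFinite _)]
  refine ⟨fun h => ⟨g.2, fun p => ?_⟩, fun h p hp => ?_⟩
  · obtain ⟨a, ha⟩ := mem_ovoid.1 (h (mem_ovoid.2 ⟨p, rfl⟩))
    rw [Projectivization.smul_mk, Projectivization.mk_eq_mk_iff'] at ha
    exact ⟨a, ha.imp fun _ => Eq.symm⟩
  · obtain ⟨a, rfl⟩ := mem_ovoid.1 hp
    obtain ⟨b, c, e⟩ := h.2 a
    exact mem_ovoid.2 ⟨b, by rw [Projectivization.smul_mk, Projectivization.mk_eq_mk_iff']; exact ⟨c, e.symm⟩⟩

/-- the stabiliser of the ovoid -/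
noncomputable def szA [CharP F 2] (hm : 1 ≤ m) (hF : Fintype.card F = 2 ^ (2 * m + 1)) : SzS F (Cfsg.Sz F m) where
  m := m
  hm := hm
  card := by rw [Nat.card_eq_fintype_card, hF]
  θ := iterateFrobenius F 2 (m + 1)
  θ_eq _ := rfl
  ι := SpecialLinearGroup.toGL.comp (Subgroup.subtype _)
  inj := SpecialLinearGroup.toGL_injective.comp Subtype.val_injective
  range := by
    ext g
    exact ⟨by rintro ⟨g, rfl⟩; exact mem_Sz.1 g.2, fun h => ⟨⟨⟨g.1, h.1⟩, mem_Sz.2 h⟩, Units.ext rfl⟩⟩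

theorem mem_Sp4 {g : GL (Fin 4) F} : g ∈ Lie.Sp4 F ↔ g.1ᵀ * wM F * g.1 = wM F := by
  refine ⟨fun h => ?_, fun h u v => ?_⟩
  · ext i j
    have := h (Pi.single i 1) (Pi.single j 1)
    simp only [Units.coeHom_apply, mulVec_single_one, Lie.altForm4] at this
    fin_cases i <;> fin_cases j <;> simp [wM, mul_apply, Fin.sum_univ_four] at this ⊢ <;> linear_combination this
  · have h1 : ∀ u v : Fin 4 → F, Lie.altForm4 u v = u ⬝ᵥ wM F *ᵥ v := fun u v => by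
      simp [Lie.altForm4, wM, mulVec, dotProduct, Fin.sum_univ_four]
    rw [h1, h1, Units.coeHom_apply, mulVec_mulVec, ← vecMul_transpose, ← dotProduct_mulVec, mulVec_mulVec,
      ← Matrix.mul_assoc, h]

theorem star4_mul [CharP F 2] {g h : Matrix (Fin 4) (Fin 4) F} (hg : gᵀ * wM F * g = wM F) (hh : hᵀ * wM F * h = wM F) :
    Lie.star4 (g * h) = Lie.star4 g * Lie.star4 h := by
  have h1 : g * wM F * gᵀ = wM F := by
    have : g * (wM F * gᵀ * wM F) = 1 := mul_eq_one_comm.1 (by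
      rw [Matrix.mul_assoc, Matrix.mul_assoc, ← Matrix.mul_assoc gᵀ, hg, wM_mul])
    rw [← mul_one (g * _ * _), ← wM_mul, ← Matrix.mul_assoc, Matrix.mul_assoc g, Matrix.mul_assoc g, this, one_mul]
  ext p r
  have a1 := congrFun (congrFun h1 (Lie.pairOf p).1) (Lie.pairOf p).2
  have a2 := congrFun (congrFun hh (Lie.pairOf r).1) (Lie.pairOf r).2
  fin_cases p <;> fin_cases r <;> simp [Lie.star4, Lie.pairOf, wM, mul_apply, Fin.sum_univ_four] at a1 a2 ⊢ <;> grind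

theorem star4_one : Lie.star4 (1 : Matrix (Fin 4) (Fin 4) F) = 1 := by
  ext i j; fin_cases i <;> fin_cases j <;> simp [Lie.star4, Lie.pairOf, one_apply]

/-- the fixed points of the twisted graph endomorphism -/
def TG [CharP F 2] (θ : F →+* F) : Subgroup (GL (Fin 4) F) where
  carrier := {g | g ∈ Lie.Sp4 F ∧ Lie.star4 g.1 = g.1.map θ}
  one_mem' := ⟨one_mem _, by simp [star4_one]⟩
  mul_mem' {g h} hg hh := ⟨mul_mem hg.1 hh.1, by
    rw [Units.val_mul, star4_mul (mem_Sp4.1 hg.1) (mem_Sp4.1 hh.1), hg.2, hh.2, Matrix.map_mul]⟩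
  inv_mem' {g} hg := ⟨inv_mem hg.1, left_inv_eq_left_inv (A := g.1.map θ) (by
    rw [← hg.2, ← star4_mul (mem_Sp4.1 (inv_mem hg.1)) (mem_Sp4.1 hg.1), Units.inv_mul, star4_one])
    (by rw [← Matrix.map_mul, Units.inv_mul]; simp)⟩

theorem TG_col [CharP F 2] {θ : F →+* F} {g : GL (Fin 4) F} (hg : g ∈ TG θ) :
    ∃ q, ∃ c : F, g.1 *ᵥ pv θ none = c • pv θ q := by
  have a := congrFun (congrFun (mem_Sp4.1 hg.1) 0) 1
  have b := fun i => congrFun (congrFun hg.2 i) 0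
  simp [Lie.star4, Lie.pairOf, wM, mul_apply, Fin.sum_univ_four, Fin.forall_fin_succ] at a b
  obtain ⟨b0, b1, b2, b3⟩ := b
  by_cases h : g.1 3 0 = 0
  · have h2 : g.1 2 0 = 0 := by
      have : g.1 2 0 * θ (g.1 2 0) = 0 := by rw [h, map_zero] at b3; grind
      simpa using this
    have h1 : g.1 1 0 = 0 := by
      have : g.1 1 0 ^ 2 * θ (g.1 1 0) = 0 := by rw [h2, map_zero] at b2; grind
      simpa using this
    exact ⟨none, g.1 0 0, by ext i; fin_cases i <;> simp [pv, mulVec, dotProduct, Fin.sum_univ_four, h, h1, h2]⟩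
  · have h' : θ (g.1 3 0) ≠ 0 := by simpa
    refine ⟨some (g.1 2 0 / g.1 3 0, g.1 1 0 / g.1 3 0), g.1 3 0, ?_⟩
    ext i; fin_cases i <;> simp [pv, mulVec, dotProduct, Fin.sum_univ_four, fz] <;> field_simp
    grind

theorem TG_eq [CharP F 2] (hm : 1 ≤ m) (hF : Fintype.card F = 2 ^ (2 * m + 1)) :
    TG (iterateFrobenius F 2 (m + 1)) = SG (iterateFrobenius F 2 (m + 1)) := by
  let S := szA hm hF
  have h1 : ∀ a b, S.ι (S.s a b) ∈ TG S.θ := fun a b => ⟨mem_Sp4.2 (by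
    rw [S.ι_s]; ext i j; fin_cases i <;> fin_cases j <;> simp [sM, wM, mul_apply, Fin.sum_univ_four] <;> grind), by
    rw [S.ι_s]; ext i j; fin_cases i <;> fin_cases j <;> simp [sM, Lie.star4, Lie.pairOf, fz, S.hθ] <;> grind⟩
  have h2 : ∀ t, S.ι (S.d t) ∈ TG S.θ := fun t => by
    have := S.θ_ne t.ne_zero
    exact ⟨mem_Sp4.2 (by
      rw [S.ι_d]; ext i j; fin_cases i <;> fin_cases j <;>
        simp [dM, wM, mul_apply, Fin.sum_univ_four, diagonal_apply] <;> field_simp), by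
      rw [S.ι_d]; ext i j; fin_cases i <;> fin_cases j <;> simp [dM, Lie.star4, Lie.pairOf, S.hθ] <;> field_simp⟩
  have h3 : S.ι S.w ∈ TG S.θ := ⟨mem_Sp4.2 (by
    rw [S.ι_w]; ext i j; fin_cases i <;> fin_cases j <;> simp [wM, mul_apply, Fin.sum_univ_four]), by
    rw [S.ι_w]; ext i j; fin_cases i <;> fin_cases j <;> simp [wM, Lie.star4, Lie.pairOf, CharTwo.neg_eq]⟩
  have h4 : ∀ p : S.Ω, ∃ g, S.ι g ∈ TG S.θ ∧ g • S.oo = p := fun p => by
    rcases p with _ | ⟨x, y⟩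
    exacts [⟨1, by simp, one_smul _ _⟩, ⟨S.s x y * S.w, by simpa using mul_mem (h1 x y) h3, by simp [mul_smul]; rfl⟩]
  change TG S.θ = SG S.θ
  refine Subgroup.ext fun g => ⟨fun hg => And.intro ?_ fun p => ?_, ?_⟩
  · have := congrArg det (mem_Sp4.1 hg.1)
    simp only [det_mul, det_transpose, det_wM] at this
    grind
  · obtain ⟨k, hk, rfl⟩ := h4 p
    obtain ⟨c, hc⟩ := (SzS.smul_eq_iff (g := k) (p := S.oo)).1 rfl
    obtain ⟨q, d, e⟩ := TG_col (mul_mem hg hk)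
    have h0 : c ≠ 0 := by
      rintro rfl
      exact pv_ne S.θ none (by rw [← one_mulVec (pv _ _), ← Units.inv_mul (S.ι k), ← mulVec_mulVec]; erw [hc]; simp)
    rw [Units.val_mul, ← mulVec_mulVec] at e
    erw [hc, mulVec_smul] at e
    exact ⟨q, c⁻¹ * d, by rw [mul_smul, ← e, inv_smul_smul₀ h0]⟩
  · rw [← S.range]
    rintro ⟨g, rfl⟩
    obtain ⟨k, hk, e⟩ := h4 (g • S.oo)
    obtain ⟨a, b, t, e'⟩ := SzS.exists_of_B (S := S) (g := k⁻¹ * g) (by rw [mul_smul, ← e, inv_smul_smul])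
    rw [inv_mul_eq_iff_eq_mul.1 e']
    simpa using mul_mem hk (mul_mem (h1 a b) (h2 t))

/-- the fixed point group in the symplectic group -/
noncomputable def szB [CharP F 2] (hm : 1 ≤ m) (hF : Fintype.card F = 2 ^ (2 * m + 1)) :
    SzS F (Lie.Sz F (2 ^ (m + 1))) where
  m := m
  hm := hm
  card := by rw [Nat.card_eq_fintype_card, hF]
  θ := iterateFrobenius F 2 (m + 1)
  θ_eq _ := rfl
  ι := Subgroup.subtype _
  inj := Subtype.val_injective
  range := by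
    rw [Subgroup.range_subtype, ← TG_eq hm hF, ← Subgroup.closure_eq (TG _)]
    exact congrArg Subgroup.closure (Set.ext fun g => Iff.rfl)

end Models
end Cfsg.Agent.Suz
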