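import Cfsg.Prelude.Def_LieExceptional
import Cfsg.Prelude.Def_Sz

set_option autoImplicit false
set_option linter.unusedSectionVars false
set_option linter.style.haveILetI false

/-! The Suzuki groups as stabilisers of the Suzuki–Tits ovoid: generators and the action on the points. -/

namespace Cfsg.Agent.Suz

open Matrix

variable {F : Type*} [Field F]

/-- the first coordinate of an affine point of the ovoid -/
def fz (θ : F →+* F) (x y : F) : F := x * y + x ^ 2 * θ x + θ y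

/-- representing vectors of the points of the ovoid -/
def pv (θ : F →+* F) : Option (F × F) → Fin 4 → F
  | none => ![1, 0, 0, 0]
  | some a => ![fz θ a.1 a.2, a.2, a.1, 1]

theorem pv_ne (θ : F →+* F) (p : Option (F × F)) : pv θ p ≠ 0 := by
  rcases p with _ | a
  · exact fun h => by simpa [pv] using congrFun h 0
  · exact fun h => by simpa [pv] using congrFun h 3

theorem pv_inj {θ : F →+* F} {p q : Option (F × F)} {c : F} (h : pv θ p = c • pv θ q) : p = q ∧ c = 1 := by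
  have h0 := congrFun h 0
  have h1 := congrFun h 1
  have h2 := congrFun h 2
  have h3 := congrFun h 3
  rcases p with _ | ⟨a, b⟩ <;> rcases q with _ | ⟨a', b'⟩ <;> simp [pv] at h0 h1 h2 h3
  · exact ⟨rfl, h0.symm⟩
  · simp [← h3] at h0
  · simp [← h3, h1, h2]

/-- the determinant one matrices stabilising the ovoid -/
def SG [Finite F] (θ : F →+* F) : Subgroup (GL (Fin 4) F) where
  carrier := {g | g.1.det = 1 ∧ ∀ p, ∃ q, ∃ c : F, g.1 *ᵥ pv θ p = c • pv θ q}
  one_mem' := ⟨by simp, fun p => ⟨p, 1, by simp⟩⟩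
  mul_mem' {g h} hg hh := ⟨by simp [hg.1, hh.1], fun p => by
    obtain ⟨q, c, e⟩ := hh.2 p
    obtain ⟨r, d, e'⟩ := hg.2 q
    exact ⟨r, c * d, by rw [Units.val_mul, ← mulVec_mulVec, e, mulVec_smul, e', smul_smul]⟩⟩
  inv_mem' {g} hg := ⟨by simp [hg.1], fun p => by
    choose f c hf using hg.2
    have h1 : ∀ p, pv θ p = c p • ((g⁻¹).1 *ᵥ pv θ (f p)) := fun p => by
      rw [← mulVec_smul, ← hf, mulVec_mulVec, Units.inv_mul, one_mulVec]
    have h2 : ∀ p, c p ≠ 0 := fun p e => pv_ne θ p (by rw [h1, e, zero_smul])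
    obtain ⟨q, rfl⟩ := Finite.surjective_of_injective (f := f) (fun p q e => (pv_inj (θ := θ) (c := c p / c q) (by
      rw [h1 p, h1 q, e, smul_smul, div_mul_cancel₀ _ (h2 q)])).1) p
    exact ⟨q, (c q)⁻¹, by rw [h1 q, smul_smul, inv_mul_cancel₀ (h2 q), one_smul]⟩⟩

/-- unipotent generators -/
def sM (θ : F →+* F) (a b : F) : Matrix (Fin 4) (Fin 4) F :=
  !![1, a, a * θ a + b, fz θ a b; 0, 1, θ a, b; 0, 0, 1, a; 0, 0, 0, 1]

/-- diagonal generators -/
def dM (θ : F →+* F) (t : F) : Matrix (Fin 4) (Fin 4) F := diagonal ![t * θ t, t, t⁻¹, (t * θ t)⁻¹]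

/-- the reflection -/
def wM (F : Type*) [Field F] : Matrix (Fin 4) (Fin 4) F := !![0, 0, 0, 1; 0, 0, 1, 0; 0, 1, 0, 0; 1, 0, 0, 0]

theorem det_sM (θ : F →+* F) (a b : F) : (sM θ a b).det = 1 := by
  simp [sM, det_succ_row_zero, Fin.sum_univ_succ]

theorem det_dM (θ : F →+* F) {t : F} (h : t ≠ 0) : (dM θ t).det = 1 := by
  have : θ t ≠ 0 := by simpa
  simp [dM, Fin.prod_univ_four]; field_simp

theorem det_wM : (wM F).det = 1 := by
  simp [wM, det_succ_row_zero, Fin.sum_univ_succ, Fin.succAbove]; norm_num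

theorem wM_mul : wM F * wM F = 1 := by
  ext i j; fin_cases i <;> fin_cases j <;> simp [wM, mul_apply, Fin.sum_univ_four]

section
variable [CharP F 2] {θ : F →+* F} (hθ : ∀ x, θ (θ x) = x ^ 2)
include hθ

theorem fz_eq_zero {x y : F} (h : fz θ x y = 0) : x = 0 ∧ y = 0 := by
  have h2 : (2 : F) = 0 := CharTwo.two_eq_zero
  have h1 := congrArg θ h
  simp only [fz, map_add, map_mul, map_pow, hθ, map_zero] at h h1
  have h3 : y * (y + x * θ x) = 0 := by
    linear_combination h1 + θ x * h - (θ x * θ y + θ x ^ 2 * x ^ 2) * h2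
  have h4 : y = 0 → x = 0 := by rintro rfl; simpa using h
  rcases mul_eq_zero.1 h3 with e | e
  · exact ⟨h4 e, e⟩
  obtain rfl : y = x * θ x := by linear_combination e - x * θ x * h2
  have : x ^ 2 * θ x = 0 := by
    rw [map_mul, hθ] at h; linear_combination h - x ^ 2 * θ x * h2
  obtain rfl : x = 0 := by simpa using this
  simp

theorem sM_mul (a b a' b' : F) : sM θ a b * sM θ a' b' = sM θ (a + a') (b + b' + θ a * a') := by
  ext i j
  fin_cases i <;> fin_cases j <;> simp [sM, mul_apply, Fin.sum_univ_four, fz, hθ, add_comm] <;> grind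

theorem sM_pv (a b x y : F) : sM θ a b *ᵥ pv θ (some (x, y)) = pv θ (some (a + x, b + y + θ a * x)) := by
  ext i
  have := congrFun (congrFun (sM_mul hθ a b x y) i) 3
  fin_cases i <;> simpa [sM, pv, mul_apply, mulVec, dotProduct, Fin.sum_univ_four] using this

omit hθ in
theorem sM_pv' (a b : F) : sM θ a b *ᵥ pv θ none = pv θ none := by
  ext i; fin_cases i <;> simp [sM, pv, mulVec, dotProduct, Fin.sum_univ_four]

theorem dM_pv {t : F} (h : t ≠ 0) (x y : F) :
    dM θ t *ᵥ pv θ (some (x, y)) = (t * θ t)⁻¹ • pv θ (some (θ t * x, t ^ 2 * θ t * y)) := by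
  have : θ t ≠ 0 := by simpa
  ext i; fin_cases i <;> simp [dM, pv, mulVec_diagonal, fz, hθ] <;> field_simp

omit hθ in
theorem dM_pv' (t : F) : dM θ t *ᵥ pv θ none = (t * θ t) • pv θ none := by
  ext i; fin_cases i <;> simp [dM, pv, mulVec_diagonal]

theorem wM_pv {x y : F} (h : fz θ x y ≠ 0) :
    wM F *ᵥ pv θ (some (x, y)) = fz θ x y • pv θ (some (y / fz θ x y, x / fz θ x y)) := by
  have h1 : θ (fz θ x y) = θ x * θ y + θ x ^ 2 * x ^ 2 + y ^ 2 := by simp [fz, hθ]
  have h3 : θ (fz θ x y) ≠ 0 := by simpa using h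
  ext i; fin_cases i <;> simp [wM, pv, mulVec, dotProduct, Fin.sum_univ_four] <;> try field_simp
  rw [fz.eq_1 θ (y / _), map_div₀, map_div₀]
  field_simp
  rw [h1, fz]
  grind

omit hθ in
theorem wM_pv' : wM F *ᵥ pv θ none = pv θ (some 0) ∧ wM F *ᵥ pv θ (some 0) = pv θ none := by
  constructor <;> ext i <;> fin_cases i <;> simp [wM, pv, mulVec, dotProduct, Fin.sum_univ_four, fz]

theorem mul_θ_ne {a : F} (h : a ≠ 1) : a * θ a ≠ 1 := fun e => by
  have := congrArg θ e
  rw [map_mul, hθ, map_one] at this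
  grind

theorem indep (hF : ∃ a : F, a ≠ 0 ∧ a ≠ 1) {A B C D : F}
    (h : ∀ y, A * y ^ 2 + B * (y ^ 2 * θ y) + C * θ y + D * y = 0) : A = 0 ∧ B = 0 ∧ C = 0 ∧ D = 0 := by
  obtain ⟨a, h0, h1⟩ := hF
  let f : Fin 4 → F →* F := ![powMonoidHom 2, powMonoidHom 2 * θ.toMonoidHom, θ.toMonoidHom, MonoidHom.id F]
  have h2 : a ^ 2 ≠ 1 := fun e => h1 (by grind)
  have h3 : θ a ≠ 1 := fun e => h1 (θ.injective (by simpa using e))
  have h4 : θ a ≠ 0 := by simpa
  have h5 : a ^ 2 ≠ θ a := fun e => by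
    have := congrArg θ e
    rw [hθ, map_pow, ← e] at this
    grind
  have h6 : a ≠ θ a := fun e => by
    have := congrArg θ e
    rw [hθ, ← e] at this
    grind
  have h7 := mul_θ_ne hθ h1
  have := Fintype.linearIndependent_iff.1 ((linearIndependent_monoidHom F F).comp f (fun i j e => by
    have := DFunLike.congr_fun e a
    fin_cases i <;> fin_cases j <;> simp [f] at this ⊢ <;> grind)) ![A, B, C, D]
    (funext fun y => by simpa [f, Fin.sum_univ_four] using h y)
  exact ⟨this 0, this 1, this 2, this 3⟩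

theorem eq_dM [Finite F] (hF : ∃ a : F, a ≠ 0 ∧ a ≠ 1) {g : GL (Fin 4) F} (hg : g ∈ SG θ) {c d : F}
    (h1 : g.1 *ᵥ pv θ none = c • pv θ none) (h2 : g.1 *ᵥ pv θ (some 0) = d • pv θ (some 0)) :
    ∃ t, t ≠ 0 ∧ g.1 = dM θ t := by
  have h0 : ∀ v, (g⁻¹).1 *ᵥ (g.1 *ᵥ v) = v := fun v => by rw [mulVec_mulVec, Units.inv_mul, one_mulVec]
  have hz : ∀ {p q} {c : F}, g.1 *ᵥ pv θ p = c • pv θ q → c ≠ 0 := fun {p q c} e h => pv_ne θ p (by
    rw [← h0 (pv θ p), e, h]; simp)
  have a1 := fun i => congrFun h1 i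
  have a2 := fun i => congrFun h2 i
  simp [mulVec, dotProduct, Fin.sum_univ_four, pv, fz, Fin.forall_fin_succ] at a1 a2
  have a3 : ∀ x y, ∃ x' y', ∃ e : F, e ≠ 0 ∧ g.1 *ᵥ pv θ (some (x, y)) = e • pv θ (some (x', y')) := fun x y => by
    obtain ⟨_ | ⟨x', y'⟩, e, h⟩ := hg.2 (some (x, y))
    · simpa using (pv_inj (θ := θ) (p := some (x, y)) (q := none) (c := e / c) (by
        rw [← h0 (pv θ _), ← h0 (pv θ none), h, h1, ← mulVec_smul, smul_smul, div_mul_cancel₀ _ (hz h1)])).1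
    · exact ⟨x', y', e, hz h, h⟩
  have a4 : ∀ x y, g.1 3 1 * y + g.1 3 2 * x + d ≠ 0 := fun x y => by
    obtain ⟨x', y', e, h, h'⟩ := a3 x y
    have := congrFun h' 3
    simp [mulVec, dotProduct, Fin.sum_univ_four, pv, a1, a2] at this
    rwa [this]
  have b1 : g.1 3 1 = 0 := by_contra fun h => a4 0 (d / g.1 3 1) (by grind)
  have b2 : g.1 3 2 = 0 := by_contra fun h => a4 (d / g.1 3 2) 0 (by grind)
  have hd := hz h2
  have a5 : ∀ x y, c * fz θ x y + g.1 0 1 * y + g.1 0 2 * x =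
      d * fz θ (g.1 2 1 / d * y + g.1 2 2 / d * x) (g.1 1 1 / d * y + g.1 1 2 / d * x) := fun x y => by
    obtain ⟨x', y', e, h, h'⟩ := a3 x y
    have := fun i => congrFun h' i
    simp [mulVec, dotProduct, Fin.sum_univ_four, pv, a1, a2, b1, b2, Fin.forall_fin_succ] at this
    obtain ⟨e1, e2, e3, rfl⟩ := this
    rw [e1]; congr 2 <;> grind
  generalize e21 : g.1 2 1 / d = β, e22 : g.1 2 2 / d = α, e11 : g.1 1 1 / d = δ, e12 : g.1 1 2 / d = γ at a5
  obtain ⟨-, b3, b4, b5⟩ := indep hθ hF (A := d * β * δ) (B := d * (β ^ 2 * θ β)) (C := d * θ δ + c) (D := g.1 0 1)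
    fun y => by have := a5 0 y; simp [fz] at this; grind
  obtain ⟨-, b6, b7, b8⟩ := indep hθ hF (A := d * α * γ) (B := d * (α ^ 2 * θ α) + c) (C := d * θ γ) (D := g.1 0 2)
    fun y => by have := a5 y 0; simp [fz] at this; grind
  obtain rfl : β = 0 := by simpa [hd] using b3
  obtain rfl : γ = 0 := by simpa [hd] using b7
  have b9 := a5 1 1
  simp [fz, b5, b8] at b9
  have hc := hz h1
  have hα : α ≠ 0 := by rintro rfl; simp [hc] at b6
  obtain ⟨t, rfl⟩ := Finite.surjective_of_injective θ.injective α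
  rw [hθ] at b6
  have ht : t ≠ 0 := by simpa using hα
  have e : g.1 = diagonal ![c, d * δ, d * θ t, d] := by
    ext i j; fin_cases i <;> fin_cases j <;> simp [a1, a2, b1, b2, b5, b8] <;> grind
  have := hg.1
  rw [e] at this ⊢
  simp [Fin.prod_univ_four] at this
  have e1 : δ = θ t * t ^ 2 := by grind
  have e2 : (d * (t * θ t) + 1) ^ 4 = 0 := by grind
  have e3 : d * (t * θ t) = 1 := by grind
  refine ⟨t, ht, congrArg diagonal (funext fun i => ?_)⟩
  fin_cases i <;> simp <;> grind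

end

end Cfsg.Agent.Suz
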