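import Cfsg.Agent.Lib.Sz.Aut

set_option autoImplicit false
set_option linter.unusedSectionVars false
set_option linter.style.haveILetI false

/-! The subgroups of the Suzuki groups. -/

namespace Cfsg.Agent.Suz

open Matrix MulAction Subgroup Transfer

theorem eq_top_of_cc {G : Type*} [Group G] [Finite G]
    (h : ∀ g : G, g ≠ 1 → CC (centralizer {g}) ∧ normalizer (centralizer {g} : Set G) = centralizer {g}) {g : G} (h1 : g ≠ 1) :
    centralizer {g} = ⊤ := by_contra fun h2 => by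
  have h3 : ∀ g : G, g ≠ 1 → ∃ k, Nat.card (centralizer {g}) = k + 2 ∧
      Nat.card {x // Cl (centralizer {g}) x} * (k + 2) = Nat.card G * (k + 1) := fun g h1 => by
    obtain ⟨k, hk⟩ := Nat.exists_eq_add_of_le' ((one_lt_card_iff_ne_bot _).2 fun e =>
      h1 (mem_bot.1 (e ▸ mem_centralizer_singleton_iff.2 rfl)))
    exact ⟨k, hk, by simpa [(h g h1).2, hk] using (h g h1).1.count⟩
  obtain ⟨k, a1, a2⟩ := h3 g h1
  have h4 := cnt_erase (p := fun _ : G => True) (a := 1) trivial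
  rw [cnt_true] at h4
  obtain ⟨g', b0, h5⟩ : ∃ g', g' ≠ 1 ∧ ¬ Cl (centralizer {g}) g' := by
    by_contra! e
    rw [cnt_congr (q := fun x => True ∧ x ≠ 1) fun x => ⟨fun h => ⟨trivial, h.ne_one⟩, fun h => e x h.2⟩] at a2
    have := card_lt_of_lt (lt_top_iff_ne_top.2 h2)
    rw [card_top] at this
    nlinarith
  obtain ⟨k', -, b2⟩ := h3 g' b0
  have h6 := cnt_mono (p := fun x => Cl (centralizer {g}) x ∨ Cl (centralizer {g'}) x) (q := fun x => True ∧ x ≠ 1)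
    fun x hx => ⟨trivial, hx.elim Cl.ne_one Cl.ne_one⟩
  rw [cnt_or fun x e e' => by
    obtain ⟨h0, y, e⟩ := cl_iff.1 e
    obtain ⟨-, y', e'⟩ := cl_iff.1 e'
    refine h5 (cl_iff.2 ⟨b0, y'⁻¹ * y, ?_⟩)
    rw [← cj_cj, ((h g h1).1.cj y).eq ((h g' b0).1.cj y') e e' h0, cj_inv_cj]
    exact mem_centralizer_singleton_iff.2 rfl] at h6
  have : Nat.card G ≤ 2 * Nat.card {x // Cl (centralizer {g}) x} :=
    Nat.le_of_mul_le_mul_right (c := k + 2) (by nlinarith) (by simp)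
  have : Nat.card G ≤ 2 * Nat.card {x // Cl (centralizer {g'}) x} :=
    Nat.le_of_mul_le_mul_right (c := k' + 2) (by nlinarith) (by simp)
  omega

theorem exists_subfield_of {F : Type*} [Field F] {A : AddSubgroup F} {a : F} (ha : a ∈ A) (h0 : a ≠ 0)
    (h : ∀ c b b', b ∈ A → b ≠ 0 → c * b ∈ A → b' ∈ A → c * b' ∈ A) : ∃ L : Subfield F, ∀ c, c ∈ L ↔ c * a ∈ A :=
  ⟨{ carrier := {c | c * a ∈ A}
     mul_mem' := fun {c c'} h1 h2 => by simpa [mul_assoc] using h c a _ ha h0 h1 h2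
     one_mem' := by simpa
     add_mem' := fun {c c'} h h' => by simpa [add_mul] using A.add_mem h h'
     zero_mem' := by simp
     neg_mem' := fun h => by simpa using h
     inv_mem' := fun c h1 => by
       by_cases hc : c = 0
       · simp [hc]
       · exact h c⁻¹ _ _ h1 (mul_ne_zero hc h0) (by simpa [hc]) ha }, fun _ => Iff.rfl⟩

/-- centralisers of nonidentity elements of odd order -/
def Od {G : Type*} [Group G] (U : Subgroup G) : Prop := ∃ g, g ≠ 1 ∧ Odd (orderOf g) ∧ U = centralizer {g}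

namespace SzS
variable {F : Type*} [Field F] [Finite F] [CharP F 2] {Γ : Type*} [Group Γ] [Finite Γ] (S : SzS F Γ)

theorem cnj_cnj (x y : Γ) : (S.cnj x).cnj y = S.cnj (y * x) := by
  simp only [map]; congr 1; ext1 z; exact congrArg S.ι (by rw [map_mul]; rfl)

theorem cnj_one : S.cnj 1 = S := by
  simp only [map]; congr 1; ext1 z; exact congrArg S.ι (by rw [map_one]; rfl)

theorem od_cases {U : Subgroup Γ} (h : Od U) : (∃ x, U = (S.cnj x).K) ∨ ∃ g, S.Fpf g ∧ U = centralizer {g} := by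
  obtain ⟨g, h1, h2, rfl⟩ := h
  rcases S.tri' h1 with ⟨x, h⟩ | ⟨x, h⟩ | h
  · exact absurd (orderOf_eq_one_iff.1 (Nat.eq_one_of_dvd_coprimes (h2.coprime_two_right.pow_right 2) dvd_rfl
      (orderOf_dvd_of_pow_eq_one (pow_eq_one_Q h)))) h1
  exacts [.inl ⟨x, cc_K _ g h h1⟩, .inr ⟨g, h, rfl⟩]

theorem od_K : Od S.K := by
  obtain ⟨t, ht⟩ := S.exists_d_ne
  exact ⟨_, ht, S.odd_sub.of_dvd_nat (orderOf_dvd_of_pow_eq_one (pow_eq_one_K (S.d_mem t))), (S.cc_K _ (S.d_mem t) ht).symm⟩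

variable {S} in
theorem Fpf.od {g : Γ} (h : S.Fpf g) : Od (centralizer {g}) := ⟨g, h.ne_one, S.odd_add.of_dvd_nat
  ((orderOf_dvd_natCard _ (mem_centralizer_singleton_iff.2 rfl)).trans h.card_dvd), rfl⟩

theorem od_facts {U : Subgroup Γ} (h : Od U) : CC U ∧ IsCyclic U ∧ Odd (Nat.card U) ∧ Nat.card U ∈
    ({Nat.card F - 1, Nat.card F + 2 ^ (S.m + 1) + 1, Nat.card F - 2 ^ (S.m + 1) + 1} : Set ℕ) ∧
    ∃ n, (n = 2 ∨ n = 4) ∧ Nat.card (normalizer (U : Set Γ)) = n * Nat.card U := by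
  rcases S.od_cases h with ⟨x, rfl⟩ | ⟨g, hg, rfl⟩
  · exact ⟨cc_K _, inferInstance, (S.cnj x).card_K ▸ S.odd_sub, .inl (card_K _), 2, .inl rfl, by rw [card_NK, card_K]⟩
  · exact ⟨hg.cc, hg.cyclic, S.odd_add.of_dvd_nat hg.card_dvd, .inr hg.card_C, hg.card_N'⟩

include S in
theorem pow_four_mem {U : Subgroup Γ} (h : Od U) {x : Γ} (hx : x ∈ normalizer (U : Set Γ)) : x ^ 4 ∈ U := by
  obtain ⟨-, -, -, -, n, hn, e⟩ := S.od_facts h
  have h1 := (U.subgroupOf (normalizer (U : Set Γ))).pow_index_mem ⟨x, hx⟩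
  have h2 := card_mul_relIndex (le_normalizer (H := U))
  rw [e, mul_comm n, mul_right_inj' Nat.card_pos.ne'] at h2
  rw [← relIndex, h2, mem_subgroupOf] at h1
  rcases hn with rfl | rfl
  exacts [by simpa [← pow_mul] using pow_mem h1 2, h1]

include S in
theorem mem_of_odd {U : Subgroup Γ} (h : Od U) {x : Γ} (hx : x ∈ normalizer (U : Set Γ)) (h2 : Odd (orderOf x)) : x ∈ U :=
  zpowers_le.2 (S.pow_four_mem h hx) (mem_zpowers_pow_iff.2 (h2.coprime_two_left.pow_left 2))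

include S in
theorem le_od {N : Subgroup Γ} (h : Odd (Nat.card N)) {g : Γ} (hg : g ∈ N) (h1 : g ≠ 1) : N ≤ centralizer {g} := by
  have h2 : ∀ g : N, centralizer {g} = (centralizer {(g : Γ)}).subgroupOf N := fun g => by
    ext x; simp [mem_subgroupOf, mem_centralizer_singleton_iff, Subtype.ext_iff]
  have h3 : ∀ g ∈ N, Odd (orderOf g) := fun g hg => h.of_dvd_nat (orderOf_dvd_natCard _ hg)
  rw [← subgroupOf_eq_top, ← h2 ⟨g, hg⟩]
  refine eq_top_of_cc (fun g h1 => ?_) (by simpa)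
  have h4 : Od (centralizer {(g : Γ)}) := ⟨g, by simpa, h3 g g.2, rfl⟩
  have h5 := (S.od_facts h4).1
  refine ⟨fun a ha h0 => by rw [h2, h2, h5 a (by rwa [h2] at ha) (by simpa)], le_antisymm (fun x hx => ?_) le_normalizer⟩
  have := conj_mem_of_mem_normalizer hx (mem_centralizer_singleton_iff.2 rfl)
  rw [h2] at this ⊢
  exact S.mem_of_odd h4 (h5.ti (mem_centralizer_singleton_iff.2 rfl) (by simpa) this) (h3 x x.2)

theorem swap_count {M : Subgroup Γ} {z : Γ} (hz : z ∈ M ⊓ S.Z) (h1 : z ≠ 1) {g : Γ} (hg : g ∈ M) (hB : g ∉ S.B) :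
    (∃ t ∈ M, t ^ 2 = 1 ∧ t • S.oo = g • S.oo) ∧
      ∀ z' ∈ M ⊓ S.Z, z' ≠ 1 → ∃ x ∈ M, x ∈ S.B ∧ x • g • S.oo = g • S.oo ∧ x * z * x⁻¹ = z' := by
  classical
  haveI := Fintype.ofFinite S.Ω
  let I := fun t => t ∈ M ∧ t ^ 2 = 1 ∧ t ∉ S.B
  let D := fun p : S.Ω => (∃ g ∈ M, g • S.oo = p) ∧ p ≠ S.oo
  let n := Nat.card {x // x ∈ M ⊓ S.Z ∧ x ≠ 1}
  have h2 := cnt_mul_le (p := D) (q := I) (fun p t => t • p = p) (m := n) (n := 1) (by
      rintro _ ⟨⟨g, hg, rfl⟩, h⟩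
      refine cnt_le_of_injOn (fun x => g * x * g⁻¹) ?_ fun _ _ _ _ e => by simpa using e
      rintro _ ⟨⟨hx, b, rfl⟩, h0⟩
      exact ⟨⟨mul_mem (mul_mem hg hx) (inv_mem hg), by simp [conj_pow, s_sq],
        fun e => h (mem_B_of_conj (S.s_mem ..) h0 e)⟩, by simp [mul_smul]⟩)
    fun t ht => Finite.card_le_one_iff_subsingleton.2 ⟨fun ⟨p, _, h⟩ ⟨p', _, h'⟩ => Subtype.ext (by_contra fun e => by
      obtain ⟨k, rfl, rfl⟩ := exists_two e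
      have := pow_eq_one_K (mem_K.2 ⟨(by simp [mul_smul, h] : (k⁻¹ * t * k⁻¹⁻¹) • S.oo = _), by simp [mul_smul, h']⟩)
      rw [conj_pow, conj_eq_one_iff] at this
      exact ht.2.2 ((pow_eq_one_iff_of_coprime S.odd_sub.coprime_two_right).1 ⟨this, ht.2.1⟩ ▸ one_mem _))⟩
  let E := fun (p : S.Ω) x => x ∈ M ∧ x ∈ S.B ∧ x • p = p
  have h3 : ∀ p, Nat.card {t // I t ∧ t • S.oo = p} ≤ Nat.card {x // E p x} := fun p => by
    by_cases h : ∃ t, I t ∧ t • S.oo = p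
    · obtain ⟨t, ht, rfl⟩ := h
      refine cnt_le_of_injOn (t * ·) (fun u hu => ⟨mul_mem ht.1 hu.1.1, ?_, ?_⟩) fun _ _ _ _ => mul_left_cancel
      · rw [mem_stabilizer_iff, mul_smul, hu.2, ← mul_smul, ← sq, ht.2.1, one_smul]
      · rw [mul_smul, ← hu.2, ← mul_smul u, ← sq, hu.1.2.1, one_smul, hu.2]
    · simp [cnt_eq_zero (not_exists.1 h)]
  have h4 : ∀ p, p ≠ S.oo → ∀ x y, E p x → E p y → x * z * x⁻¹ = y * z * y⁻¹ → x = y := fun p hp x y hx hy e => by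
    by_contra h
    exact hp (eq_oo_of_Q (mem_Q_of_comm (S.Z_le_Q hz.2) h1 (conj_eq_conj_iff.1 e)) (by rwa [Ne, inv_mul_eq_one, eq_comm])
      (by rw [mul_smul, hx.2.2, inv_smul_eq_iff, hy.2.2]))
  have h5 : ∀ p x, E p x → x * z * x⁻¹ ∈ M ⊓ S.Z ∧ x * z * x⁻¹ ≠ 1 := fun p x hx =>
    ⟨⟨M.mul_mem (M.mul_mem hx.1 hz.1) (M.inv_mem hx.1), S.conj_mem_Z hx.2.1 hz.2⟩, by simpa⟩
  have h6 : ∀ p, p ≠ S.oo → Nat.card {x // E p x} ≤ n := fun p hp => cnt_le_of_injOn _ (h5 p) (h4 p hp)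
  have h7 : ∀ p ∈ Finset.univ, Nat.card {t // I t ∧ t • S.oo = p} ≤ (if D p then 1 else 0) * n := fun p _ => by
    split_ifs with h
    · simpa using (h3 p).trans (h6 p h.2)
    · rw [cnt_eq_zero fun t (ht : I t ∧ t • S.oo = p) => h ⟨⟨t, ht.1.1, ht.2⟩, ht.2 ▸ ht.1.2.2⟩, zero_mul]
  rw [mul_one, cnt_eq_sum_fiber I (· • S.oo), cnt_eq_sum D, Finset.sum_mul] at h2
  have h8 := (Finset.sum_eq_sum_iff_of_le h7).1 (le_antisymm (Finset.sum_le_sum h7) h2) (g • S.oo) (Finset.mem_univ _)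
  rw [if_pos ⟨⟨g, hg, rfl⟩, hB⟩, one_mul] at h8
  obtain ⟨⟨t, ht⟩⟩ := (Nat.card_pos_iff.1 ((cnt_pos (p := fun x => x ∈ M ⊓ S.Z ∧ x ≠ 1) ⟨hz, h1⟩).trans_eq h8.symm)).1
  refine ⟨⟨t, ht.1.1, ht.1.2.1, ht.2⟩, fun z' hz' h0 => ?_⟩
  obtain ⟨⟨x, hx⟩, e⟩ := ((Nat.bijective_iff_injective_and_card
    (fun x : {x // E (g • S.oo) x} => (⟨_, h5 _ x x.2⟩ : {x // x ∈ M ⊓ S.Z ∧ x ≠ 1}))).2
    ⟨fun x y e => Subtype.ext (h4 _ hB _ _ x.2 y.2 (congrArg Subtype.val e)),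
      le_antisymm (h6 _ hB) (h8.symm.trans_le (h3 _))⟩).2 ⟨z', hz', h0⟩
  exact ⟨x, hx.1, hx.2.1, hx.2.2, congrArg Subtype.val e⟩

/-- subfield subgroups -/
def sub (L : Subfield F) : Subgroup Γ := closure {g | (∃ a ∈ L, ∃ b ∈ L, g = S.s a b) ∨ g = S.w}

theorem s_mem_sub {L : Subfield F} {a b : F} (ha : a ∈ L) (hb : b ∈ L) : S.s a b ∈ S.sub L :=
  subset_closure (.inl ⟨a, ha, b, hb, rfl⟩)

theorem w_mem_sub (L : Subfield F) : S.w ∈ S.sub L := subset_closure (.inr rfl)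

theorem cnj_sub (x : Γ) (L : Subfield F) : (S.cnj x).sub L = cj x (S.sub L) := by
  rw [sub, sub, cj, MonoidHom.map_closure]
  congr 1; ext g
  simp only [map_s, map_w, Set.mem_ofPred_eq, Set.mem_image, MulEquiv.coe_toMonoidHom]
  constructor
  · rintro (⟨a, ha, b, hb, rfl⟩ | rfl)
    exacts [⟨_, .inl ⟨a, ha, b, hb, rfl⟩, rfl⟩, ⟨_, .inr rfl, rfl⟩]
  · rintro ⟨_, ⟨a, ha, b, hb, rfl⟩ | rfl, rfl⟩
    exacts [.inl ⟨a, ha, b, hb, rfl⟩, .inr rfl]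

theorem exists_equiv_sub {L : Type*} [Field L] [Finite L] [CharP L 2] {Δ : Type*} [Group Δ] [Finite Δ] (T : SzS L Δ)
    (β : L →+* F) (h : 2 * T.m + 1 ∣ 2 * S.m + 1) : Nonempty (S.sub β.fieldRange ≃* Δ) ∧
      ∀ t : Fˣ, t.1 ∈ β.fieldRange → S.d t ∈ S.sub β.fieldRange := by
  obtain ⟨φ, h1, h2, h3, h4⟩ := S.exists_hom T β h
  have : S.sub β.fieldRange = φ.range := le_antisymm ((closure_le _).2 (by
    rintro _ (⟨_, ⟨a, rfl⟩, _, ⟨b, rfl⟩, rfl⟩ | rfl)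
    exacts [⟨_, h2 a b⟩, ⟨_, h4⟩])) (by
      rintro _ ⟨g, rfl⟩
      exact (T.eq_top_of_Q (M := (S.sub β.fieldRange).comap φ) (by
        rintro _ ⟨a, b, rfl⟩; rw [mem_comap, h2]; exact S.s_mem_sub ⟨a, rfl⟩ ⟨b, rfl⟩)
        fun e => T.w_not_mem_B (e (by rw [mem_comap, h4]; exact S.w_mem_sub _))).ge (mem_top g))
  rw [this]
  refine ⟨⟨(MonoidHom.ofInjective h1).symm⟩, fun t ⟨u, e⟩ => ⟨T.d (Units.mk0 u (by rintro rfl; simp [eq_comm] at e)), ?_⟩⟩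
  rw [h3]; congr 1; exact Units.ext e

theorem card_subfield (L : Subfield F) (h : 2 < Nat.card L) :
    ∃ k, 1 ≤ k ∧ 2 * k + 1 ∣ 2 * S.m + 1 ∧ Nat.card L = 2 ^ (2 * k + 1) := by
  obtain ⟨n, -, hn⟩ := (Nat.dvd_prime_pow Nat.prime_two).1 (S.card ▸ AddSubgroup.card_addSubgroup_dvd_card L.toAddSubgroup)
  have h1 := S.dvd_of_subfield L hn
  obtain ⟨k, rfl⟩ := (odd_two_mul_add_one _).of_dvd_nat h1
  exact ⟨k, Nat.pos_of_ne_zero (by rintro rfl; exact h.ne' hn), h1, hn⟩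

theorem sub_facts (L : Subfield F) (h : 2 < Nat.card L) :
    Nat.card (S.sub L) = Nat.card L ^ 2 * (Nat.card L - 1) * (Nat.card L ^ 2 + 1) ∧ IsSimpleGroup (S.sub L) ∧
      commutator (S.sub L) = ⊤ ∧ ∀ t : Fˣ, t.1 ∈ L → S.d t ∈ S.sub L := by
  obtain ⟨k, h1, h2, h3⟩ := S.card_subfield L h
  haveI := Fintype.ofFinite L
  let T := szA h1 (Nat.card_eq_fintype_card.symm.trans h3)
  obtain ⟨⟨e⟩, h4⟩ := S.exists_equiv_sub T L.subtype h2
  rw [Subfield.fieldRange_subtype] at e h4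
  exact ⟨(T.map e.symm).card_eq, (T.map e.symm).simple, (T.map e.symm).perfect, h4⟩

theorem exists_conj_coset {M : Subgroup Γ} {t : Fˣ} (ht : t ≠ 1) (hM : S.d t ∈ M) {u : Γ} (hu : u ∈ M ⊓ S.Q) :
    ∃ v ∈ M ⊓ S.Q, u * S.d t = v * S.d t * v⁻¹ := by
  obtain ⟨⟨v, hv⟩, e⟩ := Finite.surjective_of_injective (f := fun v : (M ⊓ S.Q : Subgroup Γ) =>
    (⟨v * (S.d t * v⁻¹ * (S.d t)⁻¹), mul_mem v.2 ⟨M.mul_mem (M.mul_mem hM (M.inv_mem v.2.1)) (M.inv_mem hM),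
      S.conj_mem_Q (S.d_oo t) (S.Q.inv_mem v.2.2)⟩⟩ : (M ⊓ S.Q : Subgroup Γ))) (fun x y e => by_contra fun h => by
        have h1 : x.1 * S.d t * x.1⁻¹ = y * S.d t * y.1⁻¹ := by simpa [← mul_assoc] using e
        have h2 : y.1⁻¹ * x ≠ 1 := by rwa [Ne, inv_mul_eq_one, eq_comm, ← Subtype.ext_iff]
        exact not_Q_K (cl_self (S.Q.mul_mem (S.Q.inv_mem y.2.2) x.2.2) h2)
          (cl_self (S.cc_K.mem (S.d_mem t) (by simpa [d_eq_one]) (conj_eq_conj_iff.1 h1)) h2)) ⟨u, hu⟩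
  exact ⟨v, hv, by rw [← show v * (S.d t * v⁻¹ * (S.d t)⁻¹) = u from congrArg Subtype.val e]; simp [mul_assoc]⟩

theorem mem_of_θ_mul {L : Subfield F} {a : F} (h : S.θ a * a ∈ L) : a ∈ L := by
  by_cases h0 : a = 0
  · simp [h0]
  have h1 : S.θ (S.θ a * a) ∈ L := S.θ_eq _ ▸ pow_mem h _
  have := S.θ_ne h0
  convert div_mem h1 h using 1
  rw [map_mul, hθ]; field_simp

theorem eq_sub {M : Subgroup Γ} (hw : S.w ∈ M) {a : F} (h0 : a ≠ 0) (ha : S.s 0 a ∈ M) {a' : F} (h0' : a' ≠ 0) (hne : a' ≠ a)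
    (ha' : S.s 0 a' ∈ M) : ∃ L : Subfield F, 2 < Nat.card L ∧ M = S.sub L := by
  have h1 : ∀ b b', S.s 0 b ∈ M → b ≠ 0 → S.s 0 b' ∈ M → b' ≠ 0 → ∀ g ∈ M, g ∉ S.B →
      ∃ x y t, S.s x y * S.d t ∈ M ∧ (S.s x y * S.d t) • g • S.oo = g • S.oo ∧ t ^ 2 * S.θ t * b = b' :=
    fun b b' hb h0 hb' h0' g hg hB => by
      obtain ⟨x, hx, h2, h3, h4⟩ := (S.swap_count ⟨hb, S.s_mem_Z b⟩ (by simpa [s_eq_one]) hg hB).2 _ ⟨hb', S.s_mem_Z b'⟩
        (by simpa [s_eq_one])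
      obtain ⟨x, y, t, rfl⟩ := exists_of_B h2
      rw [_root_.mul_inv_rev, ← mul_assoc, mul_assoc (S.s x y), mul_assoc (S.s x y), d_conj, mul_zero, s_conj_Z, s_inj] at h4
      exact ⟨x, y, t, hx, h3, h4.2⟩
  have h2 : ∀ b b', S.s 0 b ∈ M → b ≠ 0 → S.s 0 b' ∈ M → b' ≠ 0 → ∃ t, S.d t ∈ M ∧ t ^ 2 * S.θ t * b = b' :=
    fun b b' hb h0 hb' h0' => by
      obtain ⟨x, y, t, h, h2, h3⟩ := h1 b b' hb h0 hb' h0' _ hw S.w_not_mem_B
      obtain ⟨rfl, rfl⟩ : x = 0 ∧ y = 0 := by simpa [mul_smul, pt_inj] using h2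
      exact ⟨t, by simpa using h, h3⟩
  have h3 : ∀ t b, S.d t ∈ M → S.s 0 b ∈ M → S.s 0 (t ^ 2 * S.θ t * b) ∈ M := fun t b h h' => by
    simpa [d_conj] using mul_mem (mul_mem h h') (inv_mem h)
  have h4 : ∀ g ∈ M, g ∉ S.B → ∃ x y, S.s x y ∈ M ∧ g • S.oo = S.pt x y := fun g hg hB => by
    obtain ⟨x, y, t, h, e, e'⟩ := h1 a a' ha h0 ha' h0' g hg hB
    obtain ⟨t', h', e''⟩ := h2 a a' ha h0 ha' h0'
    have ht : t ≠ 1 := by rintro rfl; exact hne (by simpa using e'.symm)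
    obtain rfl : t' = t := by_contra fun hh => S.δ_ne (t := t' / t) (by rwa [Ne, div_eq_one]) (by
      have := S.θ_ne t.ne_zero
      simp [div_pow, div_mul_div_comm, mul_right_cancel₀ h0 (e''.trans e'.symm), this])
    obtain ⟨_, ⟨hv, x', y', rfl⟩, e'⟩ := S.exists_conj_coset ht h' ⟨(mul_mem_cancel_right h').1 h, S.s_mem x y⟩
    obtain ⟨u, v, e1⟩ := S.exists_pt (p := (S.s x' y')⁻¹ • g • S.oo) (by rwa [Ne, inv_smul_eq_iff, s_oo])
    rw [e', mul_smul, mul_smul, smul_eq_iff_eq_inv_smul, e1] at e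
    obtain ⟨rfl, rfl⟩ := S.d_fix ht e
    exact ⟨x', y', hv, by simpa [inv_smul_eq_iff] using e1⟩
  have h5 : ∀ b, S.s 0 b ∈ M → b ≠ 0 → S.s (b / S.θ b) 0 ∈ M := fun b hb h0 => by
    have : (S.w * S.s 0 b * S.w) • S.oo = S.pt (b / S.θ b) 0 := by simp [mul_smul, S.w_z h0]
    obtain ⟨x, y, h, e⟩ := h4 _ (mul_mem (mul_mem hw hb) hw) fun e => S.pt_ne _ _ (this.symm.trans e)
    obtain ⟨rfl, rfl⟩ := S.pt_inj.1 (this.symm.trans e)
    exact h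
  obtain ⟨L, hL⟩ := exists_subfield_of (A := (M.comap S.zH).toAddSubgroup') ha h0 fun c b b' hb h0 hc hb' => by
    by_cases h : c = 0
    · simp [h]
    obtain ⟨t, ht, e⟩ := h2 b _ hb h0 hc (mul_ne_zero h h0)
    exact mul_right_cancel₀ h0 e ▸ h3 t b' ht hb'
  replace hL : ∀ c, c ∈ L ↔ S.s 0 (c * a) ∈ M := hL
  have h6 : a ∈ L := by
    have h7 := pow_mem (h5 a ha h0) 2
    have := S.θ_ne h0
    rw [s_sq, show S.θ (a / S.θ a) * (a / S.θ a) = (a ^ 2)⁻¹ * a by rw [map_div₀, hθ]; field_simp, ← hL, inv_mem_iff] at h7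
    have h8 := pow_mem h7 (2 ^ (2 * S.m))
    rwa [← pow_mul, ← pow_succ', ← S.card, pow_card] at h8
  replace hL : ∀ c, S.s 0 c ∈ M ↔ c ∈ L := fun c => by
    rw [← div_mul_cancel₀ c h0, ← hL]
    exact ⟨fun h => mul_mem h h6, fun h => by simpa [h0] using div_mem h h6⟩
  have h7 : 2 < Nat.card L := by
    haveI := Fintype.ofFinite L
    rw [Nat.card_eq_fintype_card, Fintype.two_lt_card_iff]
    exact ⟨0, ⟨a, h6⟩, ⟨a', (hL _).1 ha'⟩, by simpa [Subtype.ext_iff] using ⟨h0.symm, h0'.symm, hne.symm⟩⟩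
  have hθ : ∀ c ∈ L, S.θ c ∈ L := fun c h => S.θ_eq _ ▸ pow_mem h _
  have h8 : ∀ b ∈ L, S.s b 0 ∈ M := fun b hb => by
    by_cases h : b = 0
    · simp [h]
    convert h5 _ ((hL _).2 (inv_mem (mul_mem (hθ b hb) hb))) (by simpa) using 2
    have := S.θ_ne h
    rw [map_inv₀, map_mul, S.hθ]; field_simp
  have h9 : ∀ x y, S.s x y ∈ M ↔ x ∈ L ∧ y ∈ L := fun x y => by
    have : S.s x y = S.s 0 y * S.s x 0 := by simp [s_mul]
    refine ⟨fun h => ?_, fun h => this ▸ mul_mem ((hL _).2 h.2) (h8 x h.1)⟩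
    have hx := S.mem_of_θ_mul ((hL _).1 (S.s_sq x y ▸ pow_mem h 2))
    exact ⟨hx, (hL _).1 ((mul_mem_cancel_right (h8 x hx)).1 (this ▸ h))⟩
  have h10 : S.sub L ≤ M := (closure_le _).2 (by
    rintro _ (⟨a, ha, b, hb, rfl⟩ | rfl)
    exacts [(h9 a b).2 ⟨ha, hb⟩, hw])
  have h11 : ∀ g ∈ M, g ∈ S.B → g ∈ S.sub L := fun g hg hB => by
    obtain ⟨x, y, t, rfl⟩ := exists_of_B hB
    have := mul_mem (mul_mem hg ((hL 1).2 (one_mem _))) (inv_mem hg)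
    rw [_root_.mul_inv_rev, ← mul_assoc, mul_assoc (S.s x y), mul_assoc (S.s x y), d_conj, mul_zero, s_conj_Z, hL] at this
    have h12 := (S.sub_facts L h7).2.2.2 t (by
      obtain ⟨u, hu⟩ := S.θ_bij.2 t
      have := S.mem_of_θ_mul (a := S.θ t) (L := L) (by simpa [S.hθ] using this)
      have h13 := pow_mem this (2 ^ S.m)
      rwa [S.θ_eq, ← pow_mul, ← pow_add, show S.m + 1 + S.m = 2 * S.m + 1 by ring, ← S.card, pow_card] at h13)
    have := (h9 x y).1 ((mul_mem_cancel_right (h10 h12)).1 hg)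
    exact mul_mem (S.s_mem_sub this.1 this.2) h12
  refine ⟨L, h7, le_antisymm (fun g hg => ?_) h10⟩
  by_cases hB : g ∈ S.B
  · exact h11 g hg hB
  obtain ⟨x, y, h, e⟩ := h4 g hg hB
  have h12 := mul_mem (S.s_mem_sub ((h9 x y).1 h).1 ((h9 x y).1 h).2) (S.w_mem_sub L)
  exact (mul_mem_cancel_left (inv_mem h12)).1 (h11 ((S.s x y * S.w)⁻¹ * g) (mul_mem (inv_mem (h10 h12)) hg)
    (by rw [mem_stabilizer_iff, mul_smul, e, inv_smul_eq_iff]; simp [mul_smul]))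

theorem classify (M : Subgroup Γ) : (∃ x, M ≤ (S.cnj x).B) ∨ (∃ U : Subgroup Γ, Od U ∧ M ≤ normalizer (U : Set Γ)) ∨
    ∃ x, ∃ L : Subfield F, 2 < Nat.card L ∧ M = (S.cnj x).sub L := by
  have hodd : ∀ N : Subgroup Γ, Odd (Nat.card N) → N ≠ ⊥ → M ≤ normalizer (N : Set Γ) →
      ∃ U : Subgroup Γ, Od U ∧ M ≤ normalizer (U : Set Γ) := fun N h1 h2 h3 => by
    obtain ⟨⟨g, hg⟩, h0⟩ := ne_bot_iff_exists_ne_one.1 h2
    replace h0 : g ≠ 1 := by simpa using h0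
    have h4 : Od (centralizer {g}) := ⟨g, h0, h1.of_dvd_nat (orderOf_dvd_natCard _ hg), rfl⟩
    exact ⟨_, h4, fun x hx => (S.od_facts h4).1.ti (mem_centralizer_singleton_iff.2 rfl) h0
      (S.le_od h1 hg h0 (conj_mem_of_mem_normalizer (h3 hx) hg))⟩
  rcases (Nat.card M).even_or_odd with h | h; swap
  · by_cases h0 : M = ⊥
    exacts [.inl ⟨1, h0 ▸ bot_le⟩, .inr (.inl (hodd M h h0 le_normalizer))]
  obtain ⟨⟨z, hz⟩, h1⟩ := exists_prime_orderOf_dvd_card' 2 h.two_dvd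
  rw [orderOf_mk] at h1
  obtain ⟨P, hP⟩ := (IsPGroup.of_card (p := 2) (n := 1) (G := zpowers z) (by simp [h1])).exists_le_sylow
  obtain ⟨x, e⟩ := S.exists_syl P
  obtain ⟨a, rfl⟩ := (S.cnj x).mem_Z_of_sq (e ▸ hP (mem_zpowers z)) (h1 ▸ pow_orderOf_eq_one z)
  have h0 : a ≠ 0 := by rintro rfl; simp at h1
  by_cases hB : M ≤ (S.cnj x).B
  · exact .inl ⟨x, hB⟩
  obtain ⟨g, hg, hB'⟩ := SetLike.not_le_iff_exists.1 hB
  by_cases h2 : ∃ a', a' ≠ 0 ∧ a' ≠ a ∧ (S.cnj x).s 0 a' ∈ M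
  · obtain ⟨a', h2, h3, h4⟩ := h2
    obtain ⟨t, ht, h5, h6⟩ := ((S.cnj x).swap_count ⟨hz, s_mem_Z ..⟩ (by simpa [s_eq_one]) hg hB').1
    obtain ⟨b, c, h7⟩ := exists_pt _ hB'
    obtain ⟨u, hu⟩ := exists_d_eq (S := S.cnj x) (g := ((S.cnj x).s b c)⁻¹ * t * (S.cnj x).s b c * (S.cnj x).w)
      (by simp [mul_smul, ← h7, ← h6, ← mul_smul t t, ← sq, h5, inv_smul_eq_iff]) (by simp [mul_smul, h6, h7, inv_smul_eq_iff])
    obtain ⟨u, rfl⟩ := S.exists_sq u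
    obtain ⟨k, hk⟩ := (S.cnj x).B_conj_Z (x := (S.cnj x).s b c * (S.cnj x).d u) (by simp [mul_smul])
    obtain ⟨L, hL, e⟩ := ((S.cnj x).cnj ((S.cnj x).s b c * (S.cnj x).d u)).eq_sub (M := M) (by
        convert ht using 1
        rw [← w_inv, mul_inv_eq_iff_eq_mul, mul_assoc, inv_mul_eq_iff_eq_mul, ← eq_mul_inv_iff_mul_eq] at hu
        rw [hu, map_w, MulAut.conj_apply, _root_.mul_inv_rev, d_inv, mul_assoc, mul_assoc, ← mul_assoc _ (d _ _⁻¹), w_d, sq, d_mul]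
        simp only [inv_inv, mul_assoc])
      (a := a / k) (by simp [h0, hk.1]) (by rwa [map_s, MulAut.conj_apply, hk.2, mul_div_cancel₀ _ hk.1]) (a' := a' / k) (by simp [h2, hk.1])
      (by simpa [hk.1]) (by rwa [map_s, MulAut.conj_apply, hk.2, mul_div_cancel₀ _ hk.1])
    exact .inr (.inr ⟨_, L, hL, by rwa [cnj_cnj] at e⟩)
  generalize S.cnj x = T at *
  have h3 : ∀ b, b ≠ 0 → T.s 0 b ∈ M → b = a := fun b h h' => by_contra fun e => h2 ⟨b, h, e, h'⟩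
  obtain ⟨P, hP⟩ := (IsPGroup.of_card (p := 2) (n := 1) (G := zpowers (⟨_, hz⟩ : M)) (by simp [h1])).exists_le_sylow
  have h4 : P.1.map M.subtype ≤ T.Q :=
    haveI := (P.2.map M.subtype).isNilpotent
    T.nil_le_Q (by simpa [s_eq_one]) (T.s_mem 0 a) ⟨_, hP (mem_zpowers _), rfl⟩
  have h5 : normalizer (P.1 : Set M) ≤ centralizer (P.1 : Set M) := fun y hy u hu => by
    obtain ⟨b, e⟩ := T.mem_Z_of_sq (h4 ⟨_, conj_mem_of_mem_normalizer hy (hP (mem_zpowers _)), rfl⟩) (by simp [conj_pow, s_sq])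
    obtain rfl := h3 b (by rintro rfl; simp [s_eq_one, h0] at e) (by rw [← e]; exact (y * ⟨_, hz⟩ * y⁻¹).2)
    obtain ⟨c, c', e1⟩ := mem_Q_of_comm (T.s_mem 0 b) (by simpa [s_eq_one]) (mul_inv_eq_iff_eq_mul.1 e)
    obtain ⟨f, f', e2⟩ := h4 ⟨u, hu, rfl⟩
    refine Subtype.ext (by_contra fun h => ?_)
    simp only [coe_mul, e1, show u.1 = _ from e2, s_comm] at h
    have h6 : c ≠ 0 := by rintro rfl; simp at h
    have h7 : f ≠ 0 := by rintro rfl; simp at h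
    have h8 := h3 _ (mul_ne_zero (T.θ_ne h6) h6) (T.s_sq c c' ▸ pow_mem (e1 ▸ y.2) 2)
    have h9 := h3 _ (mul_ne_zero (T.θ_ne h7) h7) (T.s_sq f f' ▸ pow_mem (e2 ▸ u.2) 2)
    refine mul_θ_ne T.hθ (a := c / f) (by rintro e; simp [(div_eq_one_iff_eq h7).1 e] at h) ?_
    have := T.θ_ne h7
    rw [map_div₀]; field_simp; grind
  have h6 := MonoidHom.ker_transferSylow_isComplement' P h5
  refine .inr (.inl (hodd ((MonoidHom.transferSylow P h5).ker.map M.subtype) ?_ (fun e => hB fun y hy => ?_) fun y hy => ?_))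
  · rw [card_map_of_injective M.subtype_injective, ← h6.index_eq_card, ← Nat.not_even_iff_odd, even_iff_two_dvd]
    exact P.not_dvd_index
  · rw [(map_eq_bot_iff_of_injective _ M.subtype_injective).1 e, isComplement'_bot_left] at h6
    exact T.Q_le_B (h4 ⟨⟨y, hy⟩, h6 ▸ mem_top _, rfl⟩)
  · refine mem_normalizer_of_conj_mem ?_
    rintro _ ⟨n, hn, rfl⟩
    exact ⟨_, (MonoidHom.normal_ker _).conj_mem n hn ⟨y, hy⟩, rfl⟩

end SzS
end Cfsg.Agent.Suz
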