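import Cfsg.Agent.Lib.Sz.Struct
import Cfsg.Agent.Lib.Sz.Irr

set_option autoImplicit false
set_option linter.unusedSectionVars false
set_option linter.style.haveILetI false

/-! The anisotropic tori of the Suzuki groups. -/

namespace Cfsg.Agent.Suz

open Matrix MulAction Subgroup Transfer

theorem not_pow_modEq {q r a : ℕ} (hr : r.Prime) (h2 : 2 ∣ q) (h : r ∣ q ^ 2 + 1) (h0 : 0 < a) (h4 : a < 4) :
    ¬ q ^ a ≡ 1 [MOD r] := fun e => by
  haveI := Fact.mk hr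
  have e1 : (q : ZMod r) ^ a = 1 := by simpa using (ZMod.natCast_eq_natCast_iff _ _ _).2 e
  have e2 : (q : ZMod r) ^ 2 + 1 = 0 := by simpa using (ZMod.natCast_eq_zero_iff _ _).2 h
  have e3 : ((2 : ℕ) : ZMod r) = 0 := by
    obtain rfl | rfl | rfl : a = 1 ∨ a = 2 ∨ a = 3 := by omega
    all_goals grind
  obtain rfl := (Nat.prime_dvd_prime_iff_eq hr Nat.prime_two).1 ((ZMod.natCast_eq_zero_iff _ _).1 e3)
  have := h2.pow two_ne_zero
  omega

theorem tori_arith {q a b : ℕ} {r : ℕ} (hr : r ^ 2 = 2 * q) (h1 : a * b = q ^ 2 + 1) (h2 : a + b = 2 * q + 2)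
    (hab : b ≤ a) : a = q + r + 1 ∧ b = q - r + 1 := by
  obtain ⟨k, rfl⟩ := Nat.exists_eq_add_of_le hab
  have : k ^ 2 = (2 * r) ^ 2 := by nlinarith
  obtain rfl := Nat.pow_left_injective two_ne_zero this
  have : b ≠ 0 := by rintro rfl; simp at h1
  omega

namespace SzS
variable {F : Type*} [Field F] [Finite F] [CharP F 2] {Γ : Type*} [Group Γ] [Finite Γ] {S : SzS F Γ}

theorem Fpf.card_dvd' {A : Subgroup Γ} (h : ∀ a ∈ A, a ≠ 1 → S.Fpf a) : Nat.card A ∣ Nat.card F ^ 2 + 1 := by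
  rw [← S.card_Ω, Nat.card_congr (selfEquivOrbitsQuotientProd (G := A) (X := S.Ω) fun p =>
    eq_bot_iff.2 fun a ha => by_contra fun e => h a a.2 (by simpa using e) p ha), Nat.card_prod]
  exact dvd_mul_left ..

theorem Fpf.card_dvd {g : Γ} (h : S.Fpf g) : Nat.card (centralizer {g}) ∣ Nat.card F ^ 2 + 1 :=
  Fpf.card_dvd' fun _ ha h1 => h.of_comm h1 (mem_centralizer_singleton_iff.1 ha).symm

variable (S) in
/-- the natural representation -/
noncomputable def ρ : Γ →* Module.End F (Fin 4 → F) :=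
  (toLinAlgEquiv' (R := F) (n := Fin 4)).toMonoidHom.comp ((Units.coeHom _).comp S.ι)

theorem ρ_inj : Function.Injective S.ρ := toLinAlgEquiv'.injective.comp (Units.val_injective.comp S.inj)

theorem Fpf.irr {g : Γ} (h : S.Fpf g) (W : Submodule F (Fin 4 → F)) (hW : ∀ v ∈ W, S.ρ g v ∈ W) : W = ⊥ ∨ W = ⊤ := by
  obtain ⟨r, hr, k, hk⟩ := Nat.exists_prime_and_dvd (orderOf_eq_one_iff.not.2 h.ne_one)
  haveI := Fact.mk hr
  have h1 : r ∣ Nat.card F ^ 2 + 1 := ((Dvd.intro _ hk.symm).trans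
    (orderOf_dvd_natCard _ (mem_centralizer_singleton_iff.2 rfl))).trans h.card_dvd
  have h0 := orderOf_pos g
  refine irr_of_pow (f := S.ρ (g ^ k)) (r := r) (k := 1) (by rw [← map_pow, ← pow_mul, pow_one, mul_comm, ← hk, pow_orderOf_eq_one, map_one])
    (fun e => pow_ne_one_of_lt_orderOf (by rintro rfl; simp [hk] at h0) (by have := hr.two_le; nlinarith)
      (ρ_inj (e.trans (map_one _).symm)))
    (fun a h0 h4 => not_pow_modEq hr S.two_pow h1 h0 (by simpa using h4))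
    ((Nat.Prime.coprime_iff_not_dvd hr).2 fun e => hr.not_dvd_one ((Nat.dvd_add_right (e.pow two_ne_zero)).1 h1))
    fun v hv => ?_
  rw [map_pow]
  exact Module.End.pow_apply_mem_of_forall_mem k hW v hv

theorem Fpf.cyclic {g : Γ} (h : S.Fpf g) : IsCyclic (centralizer {g}) := (cyc_of_irr S.ρ ρ_inj h.irr).1

theorem Fpf.cc {g : Γ} (h : S.Fpf g) : CC (centralizer {g}) := by
  have : ∀ {g c : Γ}, S.Fpf g → c ∈ centralizer {g} → centralizer {g} ≤ centralizer {c} := fun {g c} h hc x hx =>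
    mem_centralizer_singleton_iff.2 (congrArg Subtype.val (h.cyclic.commGroup.mul_comm ⟨x, hx⟩ ⟨c, hc⟩))
  intro c hc h1
  have h2 := mem_centralizer_singleton_iff.1 hc
  exact le_antisymm (this (h.of_comm h1 h2.symm) (mem_centralizer_singleton_iff.2 h2.symm)) (this h hc)

include S in
theorem not_three : ¬ 3 ∣ Nat.card Γ := by
  have := S.three_mod
  have h := S.eight_le
  simp only [S.card_eq, Nat.prime_three.dvd_mul, sq]
  rw [Nat.dvd_iff_mod_eq_zero (n := _ + 1), Nat.add_mod, Nat.mul_mod, this]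
  omega

theorem Fpf.five_le {g : Γ} (h : S.Fpf g) : 5 ≤ Nat.card (centralizer {g}) := by
  have h1 : Nat.card (centralizer {g}) ≠ 1 := fun e =>
    h.ne_one (by simpa [card_eq_one.1 e] using (mem_centralizer_singleton_iff (g := g)).2 rfl)
  have h2 := S.odd_add.of_dvd_nat h.card_dvd
  have h3 : Nat.card (centralizer {g}) ≠ 3 := fun e => not_three (S := S) (e ▸ card_subgroup_dvd_card _)
  obtain ⟨k, hk⟩ := h2
  omega

theorem Fpf.card_N' {g : Γ} (h : S.Fpf g) : ∃ n, (n = 2 ∨ n = 4) ∧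
    Nat.card (normalizer (centralizer {g} : Set Γ)) = n * Nat.card (centralizer {g}) := by
  haveI := S.simple
  have h0 := (mem_centralizer_singleton_iff (g := g)).2 rfl
  have h1 := card_normalizer_CC h.cc h0 h.ne_one
  have h2 := (cyc_of_irr S.ρ ρ_inj h.irr).2
  refine ⟨_, ?_, h1⟩
  generalize Nat.card {y // y ∈ centralizer {g} ∧ IsConj g y} = n at h1 h2
  have h3 : n ≠ 0 := by rintro rfl; exact Nat.card_pos.ne' (h1.trans (zero_mul _))
  have h4 : n ≠ 1 := by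
    rintro rfl
    refine h.cc.normalizer_ne (fun e => h.ne_one (by simpa [e] using h0)) (fun e => ?_)
      (eq_of_le_of_card_ge le_normalizer (by omega)).symm
    exact h.of_comm S.s_ne (mem_centralizer_singleton_iff.1 (e ▸ mem_top _)).symm _ (S.s_oo ..)
  have h5 : n ≠ 3 := by
    rintro rfl
    exact not_three (S := S) ((Dvd.intro _ h1.symm).trans (card_subgroup_dvd_card _))
  simp at h2
  omega

variable (S) in
theorem count_Q : Nat.card {g // Cl S.Q g} = (Nat.card F ^ 2 + 1) * (Nat.card F ^ 2 - 1) := by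
  have := cl_count (A := S.Q) fun a ha h1 x hx => S.normalizer_Q ▸ mem_B_of_conj ha h1 (S.Q_le_B hx)
  rw [normalizer_Q, ← S.B.index_mul_card, index_B, card_Q, mul_right_comm] at this
  exact Nat.eq_of_mul_eq_mul_right Nat.card_pos this

variable (S) in
theorem count_K : Nat.card {g // Cl S.K g} * 2 = Nat.card F ^ 2 * (Nat.card F ^ 2 + 1) * (Nat.card F - 2) := by
  have := S.cc_K.count
  rw [card_NK, S.card_eq, card_K] at this
  have h := S.eight_le
  exact Nat.eq_of_mul_eq_mul_right (m := Nat.card F - 1) (by omega) (by rw [mul_assoc, this, Nat.sub_sub]; ring)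

theorem not_Q_K {g : Γ} (h : Cl S.Q g) (h' : Cl S.K g) : False := by
  obtain ⟨x, h1, h2⟩ := h
  obtain ⟨y, h3, -⟩ := h'
  have h4 := pow_eq_one_Q h1
  have h5 := pow_eq_one_K h3
  rw [conj_pow, conj_eq_one_iff, ← orderOf_dvd_iff_pow_eq_one] at h4 h5
  exact h2 (by simpa using Nat.eq_one_of_dvd_coprimes ((Nat.coprime_two_left.2 S.odd_sub).pow_left 2) h4 h5)

variable (S) in
theorem count_Fpf : Nat.card {g // S.Fpf g} * 2 = Nat.card F ^ 3 * (Nat.card F - 1) ^ 2 := by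
  have h1 : Nat.card {g // (Cl S.Q g ∨ Cl S.K g) ∨ S.Fpf g} + 1 = Nat.card Γ := by
    rw [← cnt_true (α := Γ), ← cnt_erase (p := fun _ : Γ => True) (a := 1) trivial]
    congr 1
    exact cnt_congr fun g => ⟨fun h => ⟨trivial, h.elim (·.elim Cl.ne_one Cl.ne_one) Fpf.ne_one⟩,
      fun h => or_assoc.2 (S.tri h.2)⟩
  rw [cnt_or (by rintro g (⟨x, h, -⟩ | ⟨x, h, -⟩) h'; exacts [h'.not_B x (S.Q_le_B h), h'.not_B x (S.K_le_B h)]),
    cnt_or fun _ => not_Q_K, count_Q, S.card_eq] at h1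
  have h2 := S.count_K
  obtain ⟨k, hk⟩ := Nat.exists_eq_add_of_le' (le_trans (by norm_num : 2 ≤ 8) S.eight_le)
  rw [hk] at h1 h2 ⊢
  rw [show (k + 2) ^ 2 - 1 = k ^ 2 + 4 * k + 3 by rw [Nat.sub_eq_iff_eq_add (Nat.one_le_pow _ _ (by simp))]; ring] at h1
  simp only [Nat.add_sub_cancel, show k + 2 - 1 = k + 1 from rfl] at h1 h2 ⊢
  nlinarith

theorem Fpf.of_cl {g x : Γ} (h : S.Fpf g) (hx : Cl (centralizer {g}) x) : S.Fpf x := by
  obtain ⟨y, h1, h2⟩ := hx
  simpa [mul_assoc] using (h.of_comm h2 (mem_centralizer_singleton_iff.1 h1).symm).conj y⁻¹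

theorem Fpf.cl_symm {g x : Γ} (h : S.Fpf g) (hx : Cl (centralizer {g}) x) : Cl (centralizer {x}) g := by
  obtain ⟨y, h1, h2⟩ := hx
  refine ⟨y⁻¹, mem_centralizer_singleton_iff.2 ?_, by simpa only [Ne, conj_eq_one_iff] using h.ne_one⟩
  simpa [mul_assoc] using congrArg (y⁻¹ * · * y) (mem_centralizer_singleton_iff.1 h1).symm

theorem Fpf.cl_iff {g x : Γ} (h : S.Fpf g) (h' : S.Fpf x) :
    Cl (centralizer {g}) x ↔ ∃ y, cj y (centralizer {g}) = centralizer {x} := by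
  rw [Suz.cl_iff]
  exact ⟨fun ⟨h1, y, hy⟩ => ⟨y, ((h.cc.cj y) x hy h1).symm⟩,
    fun ⟨y, hy⟩ => ⟨h'.ne_one, y, hy ▸ mem_centralizer_singleton_iff.2 rfl⟩⟩

theorem Fpf.cl_trans {g x z : Γ} (h : S.Fpf g) (hx : Cl (centralizer {g}) x) (hz : Cl (centralizer {x}) z) :
    Cl (centralizer {g}) z := by
  obtain ⟨y, e⟩ := (h.cl_iff (h.of_cl hx)).1 hx
  obtain ⟨y', e'⟩ := ((h.of_cl hx).cl_iff ((h.of_cl hx).of_cl hz)).1 hz
  exact (h.cl_iff ((h.of_cl hx).of_cl hz)).2 ⟨y' * y, by rw [← cj_cj, e, e']⟩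

theorem Fpf.count {g : Γ} (h : S.Fpf g) : ∃ n, (n = 2 ∨ n = 4) ∧
    Nat.card (normalizer (centralizer {g} : Set Γ)) = n * Nat.card (centralizer {g}) ∧
    Nat.card {x // Cl (centralizer {g}) x} * (n * Nat.card (centralizer {g})) = Nat.card Γ * (Nat.card (centralizer {g}) - 1) ∧
    4 * Nat.card Γ ≤ 5 * n * Nat.card {x // Cl (centralizer {g}) x} := by
  obtain ⟨n, hn, h1⟩ := h.card_N'
  have h2 := h.cc.count
  rw [h1] at h2
  refine ⟨n, hn, h1, h2, ?_⟩
  obtain ⟨k, hk⟩ := Nat.exists_eq_add_of_le' h.five_le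
  rw [hk] at h2
  exact Nat.le_of_mul_le_mul_right (c := k + 5) (by simp only [show k + 5 - 1 = k + 4 from rfl] at h2; nlinarith) (by simp)

variable (S) in
theorem exists_tori : ∃ g₁ g₂, S.Fpf g₁ ∧ S.Fpf g₂ ∧ Nat.card (centralizer {g₁}) = Nat.card F + 2 ^ (S.m + 1) + 1 ∧
    Nat.card (centralizer {g₂}) = Nat.card F - 2 ^ (S.m + 1) + 1 ∧
    Nat.card (normalizer (centralizer {g₁} : Set Γ)) = 4 * Nat.card (centralizer {g₁}) ∧
    Nat.card (normalizer (centralizer {g₂} : Set Γ)) = 4 * Nat.card (centralizer {g₂}) ∧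
    ∀ g, S.Fpf g → Cl (centralizer {g₁}) g ∨ Cl (centralizer {g₂}) g := by
  have hf := S.count_Fpf
  have hN := S.card_eq
  obtain ⟨k, hk⟩ := Nat.exists_eq_add_of_le' (le_trans (by norm_num : 1 ≤ 8) S.eight_le)
  have h7 : 7 ≤ k := by have := S.eight_le; omega
  simp only [hk, Nat.add_sub_cancel] at hf hN
  have hlt : Nat.card {g // S.Fpf g} * 2 < Nat.card Γ := by
    rw [hf, hN]
    have : 0 < (k + 1) ^ 2 * k := by positivity
    nlinarith
  obtain ⟨⟨g₁, h1⟩⟩ : Nonempty {g // S.Fpf g} := (Nat.card_pos_iff.1 (by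
    have : 0 < (k + 1) ^ 3 * k ^ 2 := by positivity
    omega)).1
  obtain ⟨n₁, a1, b1, c1, d1⟩ := h1.count
  obtain ⟨g₂, h2, h12⟩ : ∃ g₂, S.Fpf g₂ ∧ ¬ Cl (centralizer {g₁}) g₂ := by
    by_contra! e
    rw [cnt_congr fun x => ⟨h1.of_cl, e x⟩] at c1
    obtain ⟨c, hc⟩ := Nat.exists_eq_add_of_le' (le_trans (by norm_num : 1 ≤ 5) h1.five_le)
    rw [hc, Nat.add_sub_cancel, hN] at c1
    have : (k + 1) * k * (n₁ * (c + 1)) = 2 * ((k + 1) ^ 2 + 1) * c :=
      Nat.eq_of_mul_eq_mul_left (n := (k + 1) ^ 2 * k) (by positivity) (by linear_combination 2 * c1 + n₁ * (c + 1) * hf.symm)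
    rcases a1 with rfl | rfl
    · have h3 : (k + 2) * c = (k + 1) * k := by nlinarith
      have h4 : k + 2 ∣ 2 := (Nat.dvd_add_right (Dvd.intro k rfl)).1 ⟨c + 1, by nlinarith⟩
      have := Nat.le_of_dvd two_pos h4
      omega
    · nlinarith [Nat.mul_le_mul_right c (show 2 ≤ k * k by nlinarith)]
  obtain ⟨n₂, a2, b2, c2, d2⟩ := h2.count
  have dis : ∀ {g g' : Γ}, S.Fpf g → ¬ Cl (centralizer {g}) g' → S.Fpf g' →
      ∀ x, Cl (centralizer {g}) x → Cl (centralizer {g'}) x → False :=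
    fun h hn h' x e e' => hn (h.cl_trans e (h'.cl_symm e'))
  have h3 : ∀ g, S.Fpf g → Cl (centralizer {g₁}) g ∨ Cl (centralizer {g₂}) g := fun g h => by
    by_contra! e
    obtain ⟨n₃, a3, -, -, d3⟩ := h.count
    have := cnt_mono (p := fun x => (Cl (centralizer {g₁}) x ∨ Cl (centralizer {g₂}) x) ∨ Cl (centralizer {g}) x) (q := S.Fpf)
      fun x hx => hx.elim (·.elim h1.of_cl h2.of_cl) h.of_cl
    rw [cnt_or fun x hx => hx.elim (dis h1 e.1 h x) (dis h2 e.2 h x), cnt_or (dis h1 h12 h2)] at this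
    rcases a1 with rfl | rfl <;> rcases a2 with rfl | rfl <;> rcases a3 with rfl | rfl <;> omega
  have h4 := cnt_or (dis h1 h12 h2)
  rw [cnt_congr fun x => ⟨fun hx => hx.elim h1.of_cl h2.of_cl, h3 x⟩] at h4
  obtain ⟨rfl, rfl⟩ : n₁ = 4 ∧ n₂ = 4 := by rcases a1 with rfl | rfl <;> rcases a2 with rfl | rfl <;> omega
  obtain ⟨j, hj⟩ := (h1.cc.coprime h2.cc fun x e => h12 ((h1.cl_iff h2).2 ⟨x, e⟩)).mul_dvd_of_dvd_of_dvd h1.card_dvd h2.card_dvd
  obtain ⟨c, hc⟩ := Nat.exists_eq_add_of_le' (le_trans (by norm_num : 1 ≤ 5) h1.five_le)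
  obtain ⟨c', hc'⟩ := Nat.exists_eq_add_of_le' (le_trans (by norm_num : 1 ≤ 5) h2.five_le)
  have h5 : j * ((c + 1) + (c' + 1)) = 2 * (k + 2) := by
    rw [hc, Nat.add_sub_cancel, hN] at c1
    rw [hc', Nat.add_sub_cancel, hN] at c2
    rw [hc, hc', hk] at hj
    rw [h4] at hf
    refine Nat.eq_of_mul_eq_mul_left (n := (k + 1) ^ 2 * k * ((c + 1) * (c' + 1))) (by positivity) ?_
    zify at *
    linear_combination (c' + 1) * c1 + (c + 1) * c2 - 2 * (c + 1) * (c' + 1) * hf - (k + 1) ^ 2 * k * (c + c' + 2) * hj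
  have h6 : j ∣ Nat.card F ^ 2 + 1 := Dvd.intro_left _ hj.symm
  obtain rfl : j = 1 := by
    have h7 : j ∣ k + 2 := (S.odd_add.of_dvd_nat h6).coprime_two_right.dvd_of_dvd_mul_left (Dvd.intro _ h5)
    have h8 : j ∣ 2 := (Nat.dvd_add_right (h7.mul_right k)).1 (by convert h6 using 1; rw [hk]; ring)
    exact Nat.eq_one_of_dvd_coprimes (S.odd_add.of_dvd_nat h6).coprime_two_right dvd_rfl h8
  have hr : (2 ^ (S.m + 1)) ^ 2 = 2 * Nat.card F := by rw [S.card]; ring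
  rcases le_total (c' + 1) (c + 1) with h | h
  · have := tori_arith hr (by rw [hj, hc, hc', mul_one]) (by omega) h
    exact ⟨g₁, g₂, h1, h2, hc.trans this.1, hc'.trans this.2, b1, b2, h3⟩
  · have := tori_arith hr (by rw [hj, hc, hc', mul_one, mul_comm]) (by omega) h
    exact ⟨g₂, g₁, h2, h1, hc'.trans this.1, hc.trans this.2, b2, b1, fun g h => (h3 g h).symm⟩

theorem Fpf.card_N {g : Γ} (h : S.Fpf g) :
    Nat.card (normalizer (centralizer {g} : Set Γ)) = 4 * Nat.card (centralizer {g}) := by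
  obtain ⟨g₁, g₂, h1, h2, -, -, h3, h4, h5⟩ := S.exists_tori
  rcases h5 g h with e | e
  · obtain ⟨x, e⟩ := (h1.cl_iff h).1 e
    rw [← e, ← cj_normalizer, card_cj, card_cj, h3]
  · obtain ⟨x, e⟩ := (h2.cl_iff h).1 e
    rw [← e, ← cj_normalizer, card_cj, card_cj, h4]

theorem Fpf.card_C {g : Γ} (h : S.Fpf g) : Nat.card (centralizer {g}) = Nat.card F + 2 ^ (S.m + 1) + 1 ∨
    Nat.card (centralizer {g}) = Nat.card F - 2 ^ (S.m + 1) + 1 := by
  obtain ⟨g₁, g₂, h1, h2, h3, h4, -, -, h5⟩ := S.exists_tori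
  refine (h5 g h).imp (fun e => ?_) fun e => ?_
  · obtain ⟨x, e⟩ := (h1.cl_iff h).1 e
    rw [← e, card_cj, h3]
  · obtain ⟨x, e⟩ := (h2.cl_iff h).1 e
    rw [← e, card_cj, h4]

theorem Fpf.cj_of_card {g g' : Γ} (h : S.Fpf g) (h' : S.Fpf g') (e : Nat.card (centralizer {g}) = Nat.card (centralizer {g'})) :
    ∃ x, cj x (centralizer {g}) = centralizer {g'} := by
  by_contra! h1
  have := h.cc.coprime h'.cc h1
  have := h'.five_le
  simp_all

end SzS
end Cfsg.Agent.Suz
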